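import Cfsg.Agent.S5361
import Cfsg.Agent.Lib.Core.Layer

/-!
# Classes of 3-transpositions with the incidence pattern of a space of reflections

The pattern makes the class primitive, so the derived group is quasisimple.
-/

set_option autoImplicit false

namespace Cfsg.Lib.Fischer

open Cfsg
open scoped commutatorElement

variable {G : Type*} [Group G] {D : Set G}

/-- The pattern of commuting and non-commuting members of a space of reflections. -/
structure Geometric (D : Set G) : Prop where
  class_ : Cfsg.IsThreeTranspositionClass D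
  exPair : ∃ a ∈ D, ∃ b ∈ D, a ≠ b ∧ Commute a b
  side : ∀ a ∈ D, ∀ b ∈ D, a ≠ b → Commute a b → ∃ x ∈ D, ¬ Commute a x ∧ Commute b x
  link : ∀ a ∈ D, ∀ b ∈ D, a ≠ b → Commute a b → ∃ x ∈ D, ¬ Commute a x ∧ ¬ Commute b x
  link3 : ∀ d ∈ D, ∀ a ∈ D, ∀ b ∈ D, d ≠ a → d ≠ b → a ≠ b → Commute d a → Commute d b →
    Commute a b → ∃ x ∈ D, Commute x d ∧ ¬ Commute a x ∧ ¬ Commute b x
  common : ∀ a ∈ D, ∀ b ∈ D, ¬ Commute a b → ∃ w ∈ D, Commute a w ∧ Commute b w
  twist : ∀ a ∈ D, ∀ b ∈ D, ¬ Commute a b → ∃ y ∈ D, ∃ y' ∈ D, Commute a y ∧ Commute a y' ∧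
    cj y' (cj y b) ≠ b ∧ Commute b (cj y' (cj y b))

variable (hS : Geometric D)

include hS

theorem Geometric.trans : Trans D := trans_of_class hS.class_

theorem Geometric.conj_noncommute {a b : G} (ha : a ∈ D) (hb : b ∈ D) (h : ¬ Commute a b) :
    a * b * a * (a * b)⁻¹ = b := by
  have hT := hS.trans
  have hbr := braid hT ha hb h
  rw [cj_def, cj_def] at hbr
  rw [_root_.mul_inv_rev, inv_eq hT ha, inv_eq hT hb, hbr]
  calc b * a * b * (b * a) = b * a * (b * b) * a := by simp only [mul_assoc]
    _ = b := by rw [mul_self hT hb, mul_one, mul_assoc, mul_self hT ha, mul_one]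

/-- The members commuting with a given member form one orbit of its centralizer. -/
theorem Geometric.exists_fix {d a b : G} (hd : d ∈ D) (ha : a ∈ D) (hb : b ∈ D) (hda : d ≠ a)
    (hdb : d ≠ b) (h1 : Commute d a) (h2 : Commute d b) :
    ∃ h : G, Commute h d ∧ h * a * h⁻¹ = b := by
  by_cases hab : a = b
  · exact ⟨1, Commute.one_left d, by simp [hab]⟩
  by_cases hc : Commute a b
  · obtain ⟨x, hx, hxd, hax, hbx⟩ := hS.link3 d hd a ha b hb hda hdb hab h1 h2 hc
    refine ⟨x * b * (a * x), ((hxd.mul_left h2.symm).mul_left (h1.symm.mul_left hxd)), ?_⟩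
    have e1 := hS.conj_noncommute ha hx hax
    have e2 := hS.conj_noncommute hx hb fun h => hbx h.symm
    calc x * b * (a * x) * a * (x * b * (a * x))⁻¹
        = x * b * (a * x * a * (a * x)⁻¹) * (x * b)⁻¹ := by group
      _ = b := by rw [e1]; exact e2
  · exact ⟨a * b, h1.symm.mul_left h2.symm, hS.conj_noncommute ha hb hc⟩

theorem Geometric.primitive : Cfsg.IsPrimitiveUnderConj D := by
  have hT := hS.trans
  obtain ⟨a0, ha0, b0, hb0, hne0, -⟩ := hS.exPair
  refine ⟨hT.trans, ⟨a0, ha0, b0, hb0, hne0⟩, fun B hB hblock => ?_⟩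
  have fix : ∀ {m h x : G}, m ∈ B → Commute h m → x ∈ B → h * x * h⁻¹ ∈ B := by
    intro m h x hm hhm hx
    rcases hblock h with e | e
    · exact e ▸ Set.mem_image_of_mem _ hx
    · refine absurd hm (Set.disjoint_left.1 e ⟨m, hm, ?_⟩)
      show h * m * h⁻¹ = m
      rw [hhm.eq, mul_inv_cancel_right]
  have star : ∀ m ∈ B, ∀ n ∈ B, m ≠ n → Commute m n → ∀ x ∈ D, Commute m x → x ∈ B := by
    intro m hm n hn hmn hc x hx hmx
    by_cases hxm : m = x
    · exact hxm ▸ hm
    obtain ⟨h, hhm, he⟩ := hS.exists_fix (hB hm) (hB hn) hx hmn hxm hc hmx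
    exact he ▸ fix hm hhm hn
  rcases B.subsingleton_or_nontrivial with hs | hs
  · exact Or.inl hs
  right
  obtain ⟨a, ha, b, hb, hab⟩ := hs
  obtain ⟨m, hm, n, hn, hmn, hc⟩ : ∃ m ∈ B, ∃ n ∈ B, m ≠ n ∧ Commute m n := by
    by_cases hc : Commute a b
    · exact ⟨a, ha, b, hb, hab, hc⟩
    obtain ⟨y, hy, y', hy', hay, hay', hne, hcz⟩ := hS.twist a (hB ha) b (hB hb) hc
    refine ⟨b, hb, _, ?_, fun e => hne e.symm, hcz⟩
    rw [cj_conj hT hy', cj_conj hT hy]
    exact fix ha hay'.symm (fix ha hay.symm hb)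
  refine Set.Subset.antisymm hB fun x hx => ?_
  by_cases hmx : Commute m x
  · exact star m hm n hn hmn hc x hx hmx
  obtain ⟨w, hw, hmw, hxw⟩ := hS.common m (hB hm) x hx hmx
  have hwB : w ∈ B := star m hm n hn hmn hc w hw hmw
  have hwm : w ≠ m := fun e => hmx (e ▸ hxw).symm
  exact star w hwB m hm hwm hmw.symm x hx hxw.symm

/-- Two members whose product is central are equal. -/
theorem Geometric.eq_of_mul_central {a b : G} (ha : a ∈ D) (hb : b ∈ D)
    (h : a * b ∈ Subgroup.center G) : a = b := by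
  have hT := hS.trans
  by_contra hne
  have hc : Commute a b := by
    have h1 : a * (a * b) = a * b * a := Subgroup.mem_center_iff.1 h a
    rw [← mul_assoc, mul_self hT ha, one_mul] at h1
    calc a * b = a * (a * b * a) := by rw [← h1]
      _ = b * a := by rw [← mul_assoc, ← mul_assoc, mul_self hT ha, one_mul]
  obtain ⟨x, hx, hax, hbx⟩ := hS.side a ha b hb hne hc
  refine hax ?_
  have h1 : Commute x (a * b) := Subgroup.mem_center_iff.1 h x
  have h2 := h1.mul_right hbx.symm
  rw [mul_assoc, mul_self hT hb, mul_one] at h2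
  exact h2.symm

theorem Geometric.center_quotient : Subgroup.center (G ⧸ Subgroup.center G) = ⊥ := by
  have hT := hS.trans
  rw [eq_bot_iff]
  intro q hq
  obtain ⟨g, rfl⟩ := QuotientGroup.mk_surjective q
  refine Subgroup.mem_bot.2 ((QuotientGroup.eq_one_iff g).2 ?_)
  have hfix : ∀ a ∈ D, g * a * g⁻¹ = a := fun a ha => by
    refine hS.eq_of_mul_central (hT.conj g a ha) ha ((QuotientGroup.eq_one_iff _).1 ?_)
    have h1 := Subgroup.mem_center_iff.1 hq (a : G ⧸ Subgroup.center G)
    rw [QuotientGroup.mk_mul, QuotientGroup.mk_mul, QuotientGroup.mk_mul, ← h1,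
      QuotientGroup.mk_inv, mul_inv_cancel_right, ← QuotientGroup.mk_mul, mul_self hT ha,
      QuotientGroup.mk_one]
  refine Subgroup.mem_center_iff.2 fun x => ?_
  have hle : Subgroup.closure D ≤ Subgroup.centralizer ({g} : Set G) :=
    (Subgroup.closure_le _).2 fun a ha => Subgroup.mem_centralizer_singleton_iff.2
      (mul_inv_eq_iff_eq_mul.1 (hfix a ha)).symm
  exact Subgroup.mem_centralizer_singleton_iff.1 (hle (hT.gen ▸ Subgroup.mem_top x))

theorem Geometric.quotient_class :
    Cfsg.IsThreeTranspositionClass (QuotientGroup.mk' (Subgroup.center G) '' D) := by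
  obtain ⟨⟨h2, h3⟩, ⟨d, hd, hD⟩, hgen⟩ := hS.class_
  refine ⟨⟨?_, ?_⟩, ⟨QuotientGroup.mk' _ d, Set.mem_image_of_mem _ hd, ?_⟩, ?_⟩
  · rintro _ ⟨a, ha, rfl⟩
    refine orderOf_eq_prime (by rw [← map_pow, pow_two, mul_self hS.trans ha, map_one]) fun h1 => ?_
    obtain ⟨b, hb, c, hc, hbc, -⟩ := hS.exPair
    have hz : a ∈ Subgroup.center G := (QuotientGroup.eq_one_iff a).1 h1
    have hall : ∀ x ∈ D, x = a := fun x hx => by
      obtain ⟨g, rfl⟩ := hS.trans.trans a ha x hx
      rw [Subgroup.mem_center_iff.1 hz g, mul_inv_cancel_right]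
    exact hbc ((hall b hb).trans (hall c hc).symm)
  · rintro _ ⟨a, ha, rfl⟩ _ ⟨b, hb, rfl⟩
    rw [← map_mul]
    rcases h3 a ha b hb with h | h
    · exact Or.inl (by rw [← map_pow, h, map_one])
    · exact Or.inr (by rw [← map_pow, h, map_one])
  · refine Set.ext fun q => ⟨?_, fun hq => ?_⟩
    · rintro ⟨a, ha, rfl⟩
      rw [hD] at ha
      exact (QuotientGroup.mk' (Subgroup.center G)).map_isConj ha
    · obtain ⟨g, rfl⟩ := isConj_iff.1 hq
      obtain ⟨g, rfl⟩ := QuotientGroup.mk'_surjective _ g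
      refine ⟨g * d * g⁻¹, hS.trans.conj g d hd, by simp⟩
  · rw [← MonoidHom.map_closure, hgen,
      Subgroup.map_top_of_surjective _ (QuotientGroup.mk'_surjective _)]

theorem Geometric.injOn : Set.InjOn (QuotientGroup.mk' (Subgroup.center G)) D := fun a ha b hb h => by
  refine hS.eq_of_mul_central ha hb ?_
  have h1 : a⁻¹ * b ∈ Subgroup.center G := QuotientGroup.eq.1 h
  rwa [inv_eq hS.trans ha] at h1

theorem Geometric.quotient_primitive :
    Cfsg.IsPrimitiveUnderConj (QuotientGroup.mk' (Subgroup.center G) '' D) := by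
  set π := QuotientGroup.mk' (Subgroup.center G) with hπ
  have hT := hS.trans
  obtain ⟨-, ⟨a0, ha0, b0, hb0, hne0⟩, hblocks⟩ := hS.primitive
  refine ⟨?_, ⟨π a0, Set.mem_image_of_mem _ ha0, π b0, Set.mem_image_of_mem _ hb0,
    fun h => hne0 (hS.injOn ha0 hb0 h)⟩, fun B hB hblock => ?_⟩
  · rintro _ ⟨a, ha, rfl⟩ _ ⟨b, hb, rfl⟩
    obtain ⟨g, hg⟩ := hT.trans a ha b hb
    exact ⟨π g, by rw [← map_inv, ← map_mul, ← map_mul, hg]⟩
  have himg : ∀ g x : G, π g * π x * (π g)⁻¹ = π (g * x * g⁻¹) := fun g x => by simp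
  have h := hblocks (D ∩ π ⁻¹' B) Set.inter_subset_left fun g => by
    rcases hblock (π g) with e | e
    · refine Or.inl (Set.ext fun x => ⟨?_, fun hx => ?_⟩)
      · rintro ⟨y, ⟨hy, hyB⟩, rfl⟩
        refine ⟨hT.conj g y hy, ?_⟩
        show π (g * y * g⁻¹) ∈ B
        rw [← himg]
        exact e ▸ ⟨π y, hyB, rfl⟩
      · obtain ⟨q, hq, hqx⟩ : π x ∈ (fun t => π g * t * (π g)⁻¹) '' B := e.symm ▸ hx.2
        refine ⟨g⁻¹ * x * g, ⟨by simpa using hT.conj g⁻¹ x hx.1, ?_⟩, by group⟩
        show π (g⁻¹ * x * g) ∈ B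
        have hqx' : π g * q * (π g)⁻¹ = π x := hqx
        have : π (g⁻¹ * x * g) = q := by
          rw [map_mul, map_mul, map_inv, ← hqx']
          group
        rwa [this]
    · refine Or.inr (Set.disjoint_left.2 ?_)
      rintro _ ⟨y, ⟨-, hyB⟩, rfl⟩ ⟨-, h2⟩
      exact Set.disjoint_left.1 e ⟨π y, hyB, himg g y⟩ h2
  rcases h with h | h
  · left
    intro p hp q hq
    obtain ⟨a, ha, rfl⟩ := hB hp
    obtain ⟨b, hb, rfl⟩ := hB hq
    rw [h ⟨ha, hp⟩ ⟨hb, hq⟩]
  · right
    refine Set.Subset.antisymm hB ?_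
    rintro _ ⟨a, ha, rfl⟩
    exact (h.symm ▸ ha : a ∈ D ∩ π ⁻¹' B).2

omit hS in
theorem derived_le_top_map {H : Type*} [Group H] (f : G →* H) (hf : Function.Surjective f) :
    (commutator G).map f = commutator H := by
  rw [commutator_def, Subgroup.map_commutator, Subgroup.map_top_of_surjective f hf, commutator_def]

/-- The derived group of the quotient by the centre is not abelian. -/
theorem Geometric.quotient_nonabelian :
    ∃ p q : G, p ∈ commutator G ∧ q ∈ commutator G ∧ ⁅p, q⁆ ∉ Subgroup.center G := by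
  have hT := hS.trans
  obtain ⟨a, ha, b, hb, hne, hc⟩ := hS.exPair
  obtain ⟨x, hx, hax, hbx⟩ := hS.side a ha b hb hne hc
  refine ⟨a * b, a * x, mul_mem_commutator hT ha hb, mul_mem_commutator hT ha hx, fun h => hax ?_⟩
  have e : ⁅a * b, a * x⁆ = (x * a) ^ 2 := by
    rw [commutatorElement_def, _root_.mul_inv_rev, _root_.mul_inv_rev, inv_eq hT ha, inv_eq hT hb,
      inv_eq hT hx, pow_two]
    calc a * b * (a * x) * (b * a) * (x * a)
        = b * a * (a * x) * (b * a) * (x * a) := by rw [hc.eq]
      _ = b * (a * a) * x * b * a * (x * a) := by simp only [mul_assoc]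
      _ = b * x * b * a * (x * a) := by rw [mul_self hT ha, mul_one]
      _ = x * (b * b) * a * (x * a) := by rw [hbx.eq]; simp only [mul_assoc]
      _ = x * a * (x * a) := by rw [mul_self hT hb, mul_one]
  rw [e] at h
  have h3 : (x * a) ^ 3 = 1 := (hT.set.2 x hx a ha).resolve_left fun h2 => hax (by
    rw [pow_two, ← eq_inv_iff_mul_eq_one, _root_.mul_inv_rev, inv_eq hT ha, inv_eq hT hx] at h2
    exact h2.symm)
  have hxa : x * a ∈ Subgroup.center G := by
    have e4 : ((x * a) ^ 2) ^ 2 = x * a := by rw [← pow_mul, pow_succ, h3, one_mul]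
    exact e4 ▸ pow_mem h 2
  exact (hS.eq_of_mul_central hx ha hxa) ▸ Commute.refl a

variable [Finite G]

theorem Geometric.quotient_derived_simple :
    IsSimpleGroup ↥(commutator (G ⧸ Subgroup.center G)) := by
  obtain ⟨a, ha, b, hb, hne, hc⟩ := hS.exPair
  exact (Cfsg.Agent.S5361.result hS.quotient_class hS.center_quotient
    ⟨QuotientGroup.mk' _ a, Set.mem_image_of_mem _ ha, QuotientGroup.mk' _ b,
      Set.mem_image_of_mem _ hb, fun h => hne (hS.injOn ha hb h),
      hc.map (QuotientGroup.mk' (Subgroup.center G))⟩).1.2 hS.quotient_primitive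

/-- The derived group is perfect. -/
theorem Geometric.derived_perfect : ⁅commutator G, commutator G⁆ = commutator G := by
  have hT := hS.trans
  set π := QuotientGroup.mk' (Subgroup.center G) with hπ
  have hsurj : Function.Surjective π := QuotientGroup.mk'_surjective _
  set M := ⁅commutator G, commutator G⁆ with hM
  haveI : M.Normal := Subgroup.commutator_normal _ _
  have hMle : M ≤ commutator G := Subgroup.commutator_le_self _
  have hsimple := hS.quotient_derived_simple
  have hmap : M.map π = commutator (G ⧸ Subgroup.center G) := by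
    have hle : M.map π ≤ commutator (G ⧸ Subgroup.center G) :=
      derived_le_top_map π hsurj ▸ Subgroup.map_mono hMle
    haveI := Subgroup.Normal.map (inferInstance : M.Normal) π hsurj
    rcases (inferInstance : ((M.map π).subgroupOf (commutator (G ⧸ Subgroup.center G))).Normal).eq_bot_or_eq_top
      with h | h
    · exfalso
      obtain ⟨p, q, hp, hq, hpq⟩ := hS.quotient_nonabelian
      have h1 : π ⁅p, q⁆ ∈ M.map π := Subgroup.mem_map_of_mem π (Subgroup.commutator_mem_commutator hp hq)
      rw [Subgroup.subgroupOf_eq_bot, disjoint_iff] at h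
      have h2 : π ⁅p, q⁆ ∈ M.map π ⊓ commutator (G ⧸ Subgroup.center G) := ⟨h1, hle h1⟩
      rw [h, Subgroup.mem_bot] at h2
      exact hpq ((QuotientGroup.eq_one_iff _).1 h2)
    · exact le_antisymm hle (Subgroup.subgroupOf_eq_top.1 h)
  refine le_antisymm hMle ?_
  set ρ := QuotientGroup.mk' M with hρ
  have hcen : ∀ g ∈ commutator G, ρ g ∈ Subgroup.center (G ⧸ M) := by
    intro g hg
    have h1 : π g ∈ M.map π := hmap ▸ derived_le_top_map π hsurj ▸ Subgroup.mem_map_of_mem π hg
    obtain ⟨m, hm, hmg⟩ := h1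
    have hz : m⁻¹ * g ∈ Subgroup.center G := QuotientGroup.eq.1 hmg
    have e : ρ g = ρ (m⁻¹ * g) := by
      rw [map_mul, map_inv, show ρ m = 1 from (QuotientGroup.eq_one_iff m).2 hm, inv_one, one_mul]
    rw [e]
    refine Subgroup.mem_center_iff.2 fun q => ?_
    obtain ⟨q, rfl⟩ := QuotientGroup.mk'_surjective M q
    rw [← map_mul, ← map_mul, Subgroup.mem_center_iff.1 hz q]
  have heq : ∀ a ∈ D, ∀ b ∈ D, ¬ Commute a b → ρ a = ρ b := by
    intro a ha b hb hab
    have hbr := braid hT ha hb hab
    rw [cj_def, cj_def] at hbr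
    have hzz : Commute (ρ a) (ρ (a * b)) :=
      Subgroup.mem_center_iff.1 (hcen _ (mul_mem_commutator hT ha hb)) (ρ a)
    have h1 : ρ (a * (a * b)) = ρ (a * b * a) := by rw [map_mul, hzz.eq, ← map_mul]
    rw [← mul_assoc, mul_self hT ha, one_mul, hbr, map_mul, map_mul] at h1
    have h2 : ρ a * ρ b = 1 := by
      rw [mul_assoc] at h1
      exact mul_left_cancel (a := ρ b) (by rw [← h1, mul_one])
    rw [eq_inv_of_mul_eq_one_right h2, ← map_inv, inv_eq hT ha]
  obtain ⟨d, hd⟩ := hT.ne
  have hall : ∀ x ∈ D, ρ x = ρ d := by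
    intro x hx
    by_cases h : Commute x d
    · by_cases hxd : x = d
      · rw [hxd]
      obtain ⟨y, hy, h1, h2⟩ := hS.link x hx d hd hxd h
      rw [heq x hx y hy h1, heq d hd y hy h2]
    · exact heq x hx d hd h
  have hcyc : ∀ q, q ∈ Subgroup.zpowers (ρ d) := by
    intro q
    obtain ⟨g, rfl⟩ := QuotientGroup.mk'_surjective M q
    have hle : Subgroup.closure D ≤ (Subgroup.zpowers (ρ d)).comap ρ :=
      (Subgroup.closure_le _).2 fun x hx => by
        show ρ x ∈ Subgroup.zpowers (ρ d)
        rw [hall x hx]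
        exact Subgroup.mem_zpowers _
    exact hle (hT.gen ▸ Subgroup.mem_top g)
  rw [commutator_def, Subgroup.commutator_le]
  intro u _ v _
  refine (QuotientGroup.eq_one_iff _).1 ?_
  show ρ ⁅u, v⁆ = 1
  obtain ⟨i, hi⟩ := hcyc (ρ u)
  obtain ⟨j, hj⟩ := hcyc (ρ v)
  rw [map_commutatorElement, commutatorElement_eq_one_iff_mul_comm]
  rw [← hi, ← hj]
  exact (Commute.zpow_zpow_self (ρ d) i j).eq

/-- The derived group is quasisimple. -/
theorem Geometric.derived_quasisimple : Cfsg.IsQuasisimple ↥(commutator G) := by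
  have hperf : Group.IsPerfect ↥(commutator G) := Subgroup.isPerfect_iff.2 hS.derived_perfect
  refine ⟨hperf, ?_⟩
  set C := commutator G with hCdef
  set π := QuotientGroup.mk' (Subgroup.center G) with hπ
  have hsimple := hS.quotient_derived_simple
  have hmap : C.map π = commutator (G ⧸ Subgroup.center G) :=
    derived_le_top_map π (QuotientGroup.mk'_surjective _)
  let f : C →* ↥(commutator (G ⧸ Subgroup.center G)) := (π.comp C.subtype).codRestrict _ fun c =>
    hmap ▸ Subgroup.mem_map_of_mem π c.2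
  have hf : Function.Surjective f := by
    rintro ⟨y, hy⟩
    rw [← hmap] at hy
    obtain ⟨c, hc, rfl⟩ := hy
    exact ⟨⟨c, hc⟩, Subtype.ext rfl⟩
  have hna : ∃ u v : C, f u * f v ≠ f v * f u := by
    obtain ⟨p, q, hp, hq, hpq⟩ := hS.quotient_nonabelian
    refine ⟨⟨p, hp⟩, ⟨q, hq⟩, fun h => hpq ((QuotientGroup.eq_one_iff _).1 ?_)⟩
    show π ⁅p, q⁆ = 1
    rw [map_commutatorElement, commutatorElement_eq_one_iff_mul_comm]
    exact congrArg Subtype.val h
  have hker : f.ker = Subgroup.center C := by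
    refine le_antisymm (fun c hc => Subgroup.mem_center_iff.2 fun y => Subtype.ext ?_) fun c hc => ?_
    · exact Subgroup.mem_center_iff.1
        ((QuotientGroup.eq_one_iff (c : G)).1 (congrArg Subtype.val (MonoidHom.mem_ker.1 hc))) y
    · have hn : ((Subgroup.center C).map f).Normal :=
        Subgroup.Normal.map inferInstance f hf
      rcases hn.eq_bot_or_eq_top with h | h
      · exact MonoidHom.mem_ker.2 (Subgroup.mem_bot.1 (h ▸ Subgroup.mem_map_of_mem f hc))
      · exfalso
        obtain ⟨u, v, huv⟩ := hna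
        obtain ⟨z, hz, hzu⟩ : f u ∈ (Subgroup.center C).map f := h ▸ Subgroup.mem_top _
        refine huv ?_
        rw [← hzu, ← map_mul, ← map_mul, Subgroup.mem_center_iff.1 hz v]
  exact ((QuotientGroup.quotientMulEquivOfEq hker).symm.trans
    (QuotientGroup.quotientKerEquivOfSurjective f hf)).isSimpleGroup

/-- The derived group has trivial centralizer modulo the centre. -/
theorem Geometric.centralizer_derived :
    Subgroup.centralizer ((commutator G : Subgroup G) : Set G) ≤ Subgroup.center G := by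
  have hT := hS.trans
  intro g hg
  have hfix : ∀ a ∈ D, g * a * g⁻¹ = a := by
    intro a ha
    have hr : g * a * g⁻¹ ∈ D := hT.conj g a ha
    obtain ⟨r, hrr⟩ : ∃ r, r = g * a * g⁻¹ := ⟨_, rfl⟩
    rw [← hrr] at hr ⊢
    have hcomm : ∀ h ∈ commutator G, (a * r) * h = h * (a * r) := by
      intro h hh
      have h1 : a * h * a ∈ commutator G := by
        simpa [inv_eq hT ha] using (inferInstance : (commutator G).Normal).conj_mem h hh a
      have c1 : g⁻¹ * h * g = h := by
        rw [mul_assoc, Subgroup.mem_centralizer_iff.1 hg h hh, inv_mul_cancel_left]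
      have c2 : g * (a * h * a) * g⁻¹ = a * h * a := by
        rw [← Subgroup.mem_centralizer_iff.1 hg _ h1, mul_inv_cancel_right]
      have e : r * h * r = a * h * a := by
        calc r * h * r = g * (a * (g⁻¹ * h * g) * a) * g⁻¹ := by rw [hrr]; group
          _ = a * h * a := by rw [c1, c2]
      calc a * r * h = a * (r * h * r) * r := by
            simp only [mul_assoc]; rw [mul_self hT hr, mul_one]
        _ = a * a * h * (a * r) := by rw [e]; simp only [mul_assoc]
        _ = h * (a * r) := by rw [mul_self hT ha, one_mul]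
    by_contra hne
    by_cases hc : Commute a r
    · obtain ⟨x, hx, hax, hrx⟩ := hS.side a ha r hr (Ne.symm hne) hc
      refine hax ?_
      have h1 := hcomm (a * x) (mul_mem_commutator hT ha hx)
      have h2 : r * x = a * x * a * r := by
        calc r * x = a * a * r * x := by rw [mul_self hT ha, one_mul]
          _ = a * (r * a) * x := by rw [← hc.eq]; simp only [mul_assoc]
          _ = a * r * (a * x) := by simp only [mul_assoc]
          _ = a * x * a * r := by rw [h1]; simp only [mul_assoc]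
      have h3 : x = a * x * a := by
        rw [hrx.eq] at h2
        exact mul_right_cancel h2
      calc a * x = a * (a * x * a) := by rw [← h3]
        _ = x * a := by rw [← mul_assoc, ← mul_assoc, mul_self hT ha, one_mul]
    · obtain ⟨w, hw, haw, hrw⟩ := hS.common a ha r hr hc
      refine hc ?_
      have h1 := hcomm (a * w) (mul_mem_commutator hT ha hw)
      have h2 : w * r = w * (a * r * a) := by
        calc w * r = a * a * (w * r) := by rw [mul_self hT ha, one_mul]
          _ = a * (w * a) * r := by rw [← haw.eq]; simp only [mul_assoc]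
          _ = a * w * (a * r) := by simp only [mul_assoc]
          _ = a * r * (a * w) := h1.symm
          _ = a * r * a * w := by simp only [mul_assoc]
          _ = w * (a * r * a) := ((haw.symm.mul_right hrw.symm).mul_right haw.symm).eq.symm
      have h3 : r = a * r * a := mul_left_cancel h2
      calc a * r = a * (a * r * a) := by rw [← h3]
        _ = r * a := by rw [← mul_assoc, ← mul_assoc, mul_self hT ha, one_mul]
  refine Subgroup.mem_center_iff.2 fun x => ?_
  have hle : Subgroup.closure D ≤ Subgroup.centralizer ({g} : Set G) :=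
    (Subgroup.closure_le _).2 fun a ha => Subgroup.mem_centralizer_singleton_iff.2
      (mul_inv_eq_iff_eq_mul.1 (hfix a ha)).symm
  exact Subgroup.mem_centralizer_singleton_iff.1 (hle (hT.gen ▸ Subgroup.mem_top x))

/-- The structure of the group. -/
theorem Geometric.structure :
    Cfsg.IsQuasisimple ↥(commutator G) ∧ (commutator G).index ≤ 2 ∧
      Cfsg.generalizedFittingSubgroup G = Subgroup.center G ⊔ commutator G ∧
      Cfsg.IsPrimitiveUnderConj D := by
  have hcomp : Cfsg.IsComponent (commutator G) :=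
    ⟨Subgroup.Normal.isSubnormal inferInstance, hS.derived_quasisimple⟩
  refine ⟨hS.derived_quasisimple,
    index_le_two hS.trans _ (fun a ha b hb => mul_mem_commutator hS.trans ha hb),
    le_antisymm (sup_le ?_ ?_) (sup_le ?_ ?_), hS.primitive⟩
  · refine le_sup_of_le_right ?_
    rw [← Core.layer_perfect]
    exact Subgroup.commutator_mono le_top le_top
  · refine le_sup_of_le_left (le_trans ?_ hS.centralizer_derived)
    rw [← Subgroup.commutator_eq_bot_iff_le_centralizer, Subgroup.commutator_comm]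
    exact Core.component_commute_fitting hcomp
  · exact (Core.center_le_fittingSubgroup).trans Core.fitting_le_generalizedFitting
  · exact (Core.le_layer hcomp).trans Core.layer_le_generalizedFitting

end Cfsg.Lib.Fischer
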