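import Cfsg.Agent.Lib.Fischer.Component

/-!
# Fischer's rank-three property
-/

set_option autoImplicit false

namespace Cfsg.Lib.Fischer

variable {G : Type*} [Group G] [Finite G] {D : Set G} (hF : IsFischer D) {x : G}

include hF

/-- The neighbourhood of `x` is one class of the group it generates. -/
theorem perp_transitive (hx : x ∈ D) {y y' : G} (hy : y ∈ perp D x) (hy' : y' ∈ perp D x) :
    ∃ g ∈ Subgroup.closure (perp D x), g * y * g⁻¹ = y' := by
  have hD := hF.toTrans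
  refine comp_all hF hx hy hy' (fun z => ∃ g ∈ Subgroup.closure (perp D x), g * y * g⁻¹ = z)
    (fun u hu v hv hn ⟨g, hg, e⟩ => ⟨u * v * g,
      mul_mem (mul_mem (Subgroup.subset_closure hu) (Subgroup.subset_closure hv)) hg, ?_⟩)
    ⟨1, one_mem _, by simp⟩
  calc u * v * g * y * (u * v * g)⁻¹ = u * v * (g * y * g⁻¹) * (v⁻¹ * u⁻¹) := by group
    _ = cj u (cj v u) := by rw [e, inv_eq hD hu.1, inv_eq hD hv.1]; simp only [cj_def, mul_assoc]
    _ = v := by rw [← braid hD hu.1 hv.1 hn, cj_cj hD hu.1]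

theorem commute_of_mem_closure (hx : x ∈ D) {g : G}
    (hg : g ∈ Subgroup.closure (insert x (perp D x))) : Commute g x := by
  have h := (conj_mem_perp hF.toTrans hx hg).1
  exact (mul_inv_eq_iff_eq_mul.1 h)

theorem orb_all (hx : x ∈ D) {b c : G} (hb : b ∈ D) (hc : c ∈ D) (hxb : ¬ Commute x b) (hxc : ¬ Commute x c) :
    Orb D x b c := by
  classical
  have hD := hF.toTrans
  obtain ⟨b₀, ⟨hb₀, hxb₀⟩, hmax⟩ := Set.exists_max_image {b | b ∈ D ∧ ¬ Commute x b}
    (fun b => (common D x b).ncard) (Set.toFinite _) ⟨b, hb, hxb⟩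
  suffices h : ∀ e, e ∈ D → ¬ Commute x e → Orb D x b₀ e from
    orb_trans hD (orb_symm hD (h b hb hxb)) (h c hc hxc)
  intro e he hxe
  by_contra hno
  -- the common neighbours of everything in the largest orbit
  have hstep : ∀ d, d ∈ common D x e → ∀ b', Orb D x b₀ b' → Commute b' d := by
    intro d hd b' hb'
    obtain ⟨g, hg, rfl⟩ := hb'
    have hgx := (conj_mem_perp hD hx hg).1
    have hb'D : g * b₀ * g⁻¹ ∈ D := hD.conj g b₀ hb₀
    have hxb' : ¬ Commute x (g * b₀ * g⁻¹) := fun h => hxb₀ ((Commute.conj_iff g).1 (hgx.symm ▸ h))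
    have hno' : ¬ Orb D x (g * b₀ * g⁻¹) e := fun h => hno (orb_trans hD ⟨g, hg, rfl⟩ h)
    rcases common_comparable hD hx hb'D he hxb' hxe hno' with h | h
    · have h1 : (common D x e).ncard ≤ (common D x (g * b₀ * g⁻¹)).ncard :=
        (hmax e ⟨he, hxe⟩).trans (orb_common hD hx ⟨g, hg, rfl⟩).1
      rw [← Set.eq_of_subset_of_ncard_le h h1 (Set.toFinite _)] at hd
      exact hd.2
    · exact (h hd).2
  obtain ⟨d₀, hd₀⟩ := common_nonempty hF hx he hxe
  let T := fun d => d ∈ perp D x ∧ ∀ b', Orb D x b₀ b' → Commute b' d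
  have hT : ∀ d ∈ perp D x, T d := by
    intro d hd
    refine comp_all hF hx hd₀.1 hd T ?_ ⟨hd₀.1, hstep d₀ hd₀⟩
    rintro u hu v hv hn ⟨-, huT⟩
    refine ⟨hv, fun b' hb' => ?_⟩
    have h1 := huT _ (orb_trans hD hb' (orb_cj hD hx (Set.mem_insert_of_mem _ hv)))
    have h2 : Commute b' (cj v u) := (commute_cj_left hD hv.1).1 h1
    rw [← braid hD hu.1 hv.1 hn] at h2
    exact (commute_cj_of hD hu.1 (huT b' hb').symm).1 h2
  exact hxb₀ (eq_of_perp_subset hF hx hb₀ (fun d hd =>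
    ⟨hd.1, fun h => hxb₀ (h ▸ hd.2.2), (hT d hd).2 b₀ (orb_refl hD)⟩) ▸ Commute.refl x)

omit hF in
theorem exists_perp (hF : IsFischer D) (hx : x ∈ D) : ∃ b ∈ D, b ≠ x ∧ Commute x b := by
  obtain ⟨a, ha, b, hb, hne, hc⟩ := exists_commute hF.toTrans hF.sol
  obtain ⟨g, rfl⟩ := hF.trans a ha x hx
  exact ⟨g * b * g⁻¹, hF.conj g b hb, fun h => hne (by simpa using h.symm), (Commute.conj_iff g).2 hc⟩

theorem exists_not_commute (hx : x ∈ D) : ∃ c ∈ D, ¬ Commute x c := by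
  by_contra h
  push Not at h
  have hD := hF.toTrans
  refine ne_one hD hx (Subgroup.mem_bot.1 (hF.sol (Subgroup.zpowers x) ?_ inferInstance ▸ Subgroup.mem_zpowers x))
  refine ⟨fun n hn g => ?_⟩
  have hcomm : Subgroup.closure D ≤ Subgroup.centralizer {x} := by
    rw [Subgroup.closure_le]
    intro d hd
    rw [SetLike.mem_coe, Subgroup.mem_centralizer_singleton_iff]
    exact (h d hd).eq.symm
  have hg : Commute g x := Subgroup.mem_centralizer_singleton_iff.1 (hcomm (hF.gen ▸ Subgroup.mem_top g))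
  obtain ⟨k, rfl⟩ := hn
  rw [(hg.zpow_right k).eq, mul_inv_cancel_right]
  exact ⟨k, rfl⟩

theorem rank_three (hx : x ∈ D) :
    (∃ b ∈ D, b ≠ x ∧ Commute x b) ∧ (∃ c ∈ D, ¬ Commute x c) ∧
      (∀ b ∈ D, ∀ b' ∈ D, b ≠ x → b' ≠ x → Commute x b → Commute x b' →
        ∃ g : G, Commute g x ∧ g * b * g⁻¹ = b') ∧
      ∀ c ∈ D, ∀ c' ∈ D, ¬ Commute x c → ¬ Commute x c' → ∃ g : G, Commute g x ∧ g * c * g⁻¹ = c' := by
  refine ⟨exists_perp hF hx, exists_not_commute hF hx, fun b hb b' hb' h1 h2 h3 h4 => ?_,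
    fun c hc c' hc' h1 h2 => ?_⟩
  · obtain ⟨g, hg, e⟩ := perp_transitive hF hx ⟨hb, h1, h3⟩ ⟨hb', h2, h4⟩
    exact ⟨g, commute_of_mem_closure hF hx (Subgroup.closure_mono (Set.subset_insert _ _) hg), e⟩
  · obtain ⟨g, hg, e⟩ := orb_all hF hx hc hc' h1 h2
    exact ⟨g, commute_of_mem_closure hF hx hg, e⟩

/-- Two maximal commuting sets through two members are conjugate fixing both. -/
theorem maximal_commuting {E : Set G} (hE : E ⊆ D) (hc : ∀ a ∈ E, ∀ b ∈ E, Commute a b)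
    (hmax : ∀ E' : Set G, E' ⊆ D → (∀ a ∈ E', ∀ b ∈ E', Commute a b) → E'.ncard ≤ E.ncard) :
    (∃ P : Sylow 2 G, (P : Subgroup G) ≤ Subgroup.normalizer E) ∧
      ∀ a ∈ E, ∀ b ∈ E, ∀ c ∈ E, ∀ d ∈ E, a ≠ b → c ≠ d →
        ∃ g ∈ Subgroup.normalizer E, g * a * g⁻¹ = c ∧ g * b * g⁻¹ = d := by
  classical
  haveI : Fact (Nat.Prime 2) := ⟨Nat.prime_two⟩
  have hD := hF.toTrans
  have hgrp : ∀ F : Set G, F ⊆ D → (∀ a ∈ F, ∀ b ∈ F, Commute a b) → IsPGroup 2 (Subgroup.closure F) := by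
    intro F hFD hFc u
    haveI : IsMulCommutative (Subgroup.closure F) :=
      Subgroup.isMulCommutative_closure (fun a ha b hb => hFc a ha b hb)
    refine ⟨1, Subtype.ext ?_⟩
    rw [SubmonoidClass.coe_pow, Subgroup.coe_one, pow_one]
    obtain ⟨u, hu⟩ := u
    show u ^ 2 = 1
    induction hu using Subgroup.closure_induction with
    | mem a ha => rw [pow_two, mul_self hD (hFD ha)]
    | one => exact one_pow _
    | mul a b ha hb iha ihb =>
      have hcom : Commute a b := congrArg Subtype.val (mul_comm' (⟨a, ha⟩ : Subgroup.closure F) ⟨b, hb⟩)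
      rw [hcom.mul_pow, iha, ihb, one_mul]
    | inv a _ iha => rw [inv_pow, iha, inv_one]
  -- members in a 2-subgroup commute
  have htwo : ∀ {T : Subgroup G}, IsPGroup 2 T → ∀ a ∈ D, a ∈ T → ∀ b ∈ D, b ∈ T → Commute a b := by
    intro T hT a ha haT b hb hbT
    by_contra hn
    obtain ⟨k, hk⟩ := hT ⟨a * b, mul_mem haT hbT⟩
    have hk' : orderOf (a * b) ∣ 2 ^ k := orderOf_dvd_of_pow_eq_one (by simpa using congrArg Subtype.val hk)
    have h1 : orderOf (a * b) = 1 := Nat.eq_one_of_dvd_coprimes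
      (((Nat.coprime_primes Nat.prime_two Nat.prime_three).2 (by decide)).pow_left k) hk'
      (orderOf_dvd_of_pow_eq_one (orderOf_mul hD a b ha hb hn))
    rw [orderOf_eq_one_iff] at h1
    exact hn (by rw [eq_inv_of_mul_eq_one_right h1, inv_eq hD ha])
  -- a 2-subgroup containing a maximal commuting set has exactly that set
  have hfull : ∀ {F : Set G}, F ⊆ D → (∀ a ∈ F, ∀ b ∈ F, Commute a b) → E.ncard ≤ F.ncard →
      ∀ {T : Subgroup G}, IsPGroup 2 T → F ⊆ T → {d | d ∈ D ∧ d ∈ T} = F := by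
    intro F hFD _ hcard T hT hFT
    exact (Set.eq_of_subset_of_ncard_le (show F ⊆ {d | d ∈ D ∧ d ∈ T} from fun d hd => ⟨hFD hd, hFT hd⟩)
      ((hmax _ (fun d hd => hd.1) (fun a ha b hb => htwo hT a ha.1 ha.2 b hb.1 hb.2)).trans hcard)
      (Set.toFinite _)).symm
  refine ⟨?_, fun a ha b hb c hc' d hd hab hcd => ?_⟩
  · obtain ⟨P, hP⟩ := (hgrp E hE hc).exists_le_sylow
    refine ⟨P, fun g hg => ?_⟩
    have heq := hfull hE hc le_rfl P.2 (fun d hd => hP (Subgroup.subset_closure hd))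
    show ∀ z, z ∈ E ↔ g * z * g⁻¹ ∈ E
    intro z
    constructor
    · intro hz
      rw [← heq] at hz ⊢
      exact ⟨hD.conj g z hz.1, mul_mem (mul_mem hg hz.2) (inv_mem hg)⟩
    · intro hz
      rw [← heq] at hz ⊢
      refine ⟨by simpa [mul_assoc] using hD.conj g⁻¹ _ hz.1, ?_⟩
      simpa [mul_assoc] using mul_mem (mul_mem (inv_mem hg) hz.2) hg
  · obtain ⟨g₁, hg₁⟩ := hD.trans a (hE ha) c (hE hc')
    have hgb : g₁ * b * g₁⁻¹ ∈ perp D c := by
      have hpb : b ∈ perp D a := ⟨hE hb, hab.symm, hc a ha b hb⟩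
      rw [← hg₁]
      exact conj_perp hF g₁ a hpb
    obtain ⟨g₂, hg₂, e₂⟩ := perp_transitive hF (hE hc') hgb ⟨hE hd, hcd.symm, hc c hc' d hd⟩
    have hg₂c : Commute g₂ c :=
      commute_of_mem_closure hF (hE hc') (Subgroup.closure_mono (Set.subset_insert _ _) hg₂)
    set g := g₂ * g₁ with hg
    have hga : g * a * g⁻¹ = c := by
      rw [hg, show g₂ * g₁ * a * (g₂ * g₁)⁻¹ = g₂ * (g₁ * a * g₁⁻¹) * g₂⁻¹ by group, hg₁, hg₂c.eq,
        mul_inv_cancel_right]
    have hgb' : g * b * g⁻¹ = d := by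
      rw [hg, show g₂ * g₁ * b * (g₂ * g₁)⁻¹ = g₂ * (g₁ * b * g₁⁻¹) * g₂⁻¹ by group, e₂]
    set E' := (fun e => g * e * g⁻¹) '' E with hE'
    have hE'D : E' ⊆ D := by rintro _ ⟨e, he, rfl⟩; exact hD.conj g e (hE he)
    have hE'c : ∀ u ∈ E', ∀ v ∈ E', Commute u v := by
      rintro _ ⟨u, hu, rfl⟩ _ ⟨v, hv, rfl⟩; exact (Commute.conj_iff g).2 (hc u hu v hv)
    have hE'card : E.ncard ≤ E'.ncard :=
      (Set.ncard_image_of_injective _ fun u v e => by simpa using e).ge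
    set C := Subgroup.centralizer ({c, d} : Set G) with hC
    have hmemC : ∀ {F : Set G}, (∀ u ∈ F, ∀ v ∈ F, Commute u v) → c ∈ F → d ∈ F → Subgroup.closure F ≤ C := by
      intro F hFc hcF hdF
      rw [Subgroup.closure_le]
      intro u hu
      rw [SetLike.mem_coe, Subgroup.mem_centralizer_iff]
      rintro z (rfl | rfl)
      exacts [(hFc _ hcF u hu).eq, (hFc _ hdF u hu).eq]
    have h1 := hmemC hc hc' hd
    have h2 := hmemC hE'c ⟨a, ha, hga⟩ ⟨b, hb, hgb'⟩
    obtain ⟨S, hS⟩ := ((hgrp E hE hc).comap_subtype (K := C)).exists_le_sylow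
    obtain ⟨S', hS'⟩ := ((hgrp E' hE'D hE'c).comap_subtype (K := C)).exists_le_sylow
    obtain ⟨h, hh⟩ := MulAction.exists_smul_eq C S' S
    refine ⟨(h : G) * g, ?_, ?_, ?_⟩
    · have heq := hfull hE hc le_rfl (T := (S : Subgroup C).map C.subtype) (S.2.map C.subtype)
        (fun e he => ⟨⟨e, h1 (Subgroup.subset_closure he)⟩, hS (Subgroup.subset_closure he), rfl⟩)
      have hto : ∀ e ∈ E, (h : G) * g * e * ((h : G) * g)⁻¹ ∈ E := by
        intro e he
        rw [← heq]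
        refine ⟨hD.conj _ e (hE he), ?_⟩
        have hin : g * e * g⁻¹ ∈ E' := ⟨e, he, rfl⟩
        refine ⟨MulAut.conj h ⟨g * e * g⁻¹, h2 (Subgroup.subset_closure hin)⟩, ?_, ?_⟩
        · show MulAut.conj h _ ∈ (S : Subgroup C)
          rw [← hh, Sylow.coe_subgroup_smul]
          exact ⟨_, hS' (Subgroup.subset_closure hin), rfl⟩
        · simp [mul_assoc]
      show ∀ z, z ∈ E ↔ (h : G) * g * z * ((h : G) * g)⁻¹ ∈ E
      intro z
      refine ⟨fun hz => hto z hz, fun hz => ?_⟩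
      obtain ⟨w, hw, ew⟩ : (h : G) * g * z * ((h : G) * g)⁻¹ ∈
          (fun e => (h : G) * g * e * ((h : G) * g)⁻¹) '' E := by
        rw [Set.eq_of_subset_of_ncard_le
          (show (fun e => (h : G) * g * e * ((h : G) * g)⁻¹) '' E ⊆ E from Set.image_subset_iff.2 hto)
          (Set.ncard_image_of_injective _ (fun u v e => by simpa using e)).ge (Set.toFinite _)]
        exact hz
      have : w = z := by simpa using ew
      exact this ▸ hw
    · rw [show (h : G) * g * a * ((h : G) * g)⁻¹ = h * (g * a * g⁻¹) * (h : G)⁻¹ by group, hga,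
        ← (Subgroup.mem_centralizer_iff.1 h.2 c (Or.inl rfl)), mul_inv_cancel_right]
    · rw [show (h : G) * g * b * ((h : G) * g)⁻¹ = h * (g * b * g⁻¹) * (h : G)⁻¹ by group, hgb',
        ← (Subgroup.mem_centralizer_iff.1 h.2 d (Or.inr rfl)), mul_inv_cancel_right]

end Cfsg.Lib.Fischer
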