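import Cfsg.Agent.Lib.Fischer.Structure
import Cfsg.Agent.Lib.Fischer.RankThree

/-!
# Primitive classes of 3-transpositions
-/

set_option autoImplicit false
set_option linter.style.haveILetI false

namespace Cfsg.Lib.Fischer

open Cfsg
open scoped commutatorElement

variable {G : Type*} [Group G] {D : Set G}

/-- A normal subgroup containing all products of two members has index at most 2. -/
theorem index_le_two (hD : Trans D) (N : Subgroup G) [N.Normal] (h : ∀ a ∈ D, ∀ b ∈ D, a * b ∈ N) :
    N.index ≤ 2 := by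
  obtain ⟨d, hd⟩ := hD.ne
  have hall : ∀ g : G, (g : G ⧸ N) = 1 ∨ (g : G ⧸ N) = (d : G ⧸ N) := by
    intro g
    have hg : g ∈ Subgroup.closure D := hD.gen ▸ Subgroup.mem_top g
    have hdd : ((d : G ⧸ N)) * (d : G ⧸ N) = 1 := by
      rw [← QuotientGroup.mk_mul, mul_self hD hd, QuotientGroup.mk_one]
    induction hg using Subgroup.closure_induction with
    | mem e he =>
      refine Or.inr (QuotientGroup.eq.2 ?_)
      rw [inv_eq hD he]
      exact h e he d hd
    | one => exact Or.inl rfl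
    | mul u v _ _ hu hv =>
      rw [QuotientGroup.mk_mul]
      rcases hu with hu | hu <;> rcases hv with hv | hv <;> rw [hu, hv] <;> simp [hdd]
    | inv u _ hu =>
      rw [QuotientGroup.mk_inv]
      rcases hu with hu | hu <;> rw [hu]
      · simp
      · exact Or.inr (inv_eq_of_mul_eq_one_right hdd)
  rw [Subgroup.index]
  refine (Nat.card_le_card_of_surjective (fun b : Bool => bif b then (d : G ⧸ N) else 1) fun x => ?_).trans (by simp)
  obtain ⟨g, rfl⟩ := QuotientGroup.mk_surjective x
  rcases hall g with hg | hg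
  · exact ⟨false, hg.symm⟩
  · exact ⟨true, hg.symm⟩

theorem mul_mem_commutator (hD : Trans D) {a b : G} (ha : a ∈ D) (hb : b ∈ D) : a * b ∈ commutator G := by
  obtain ⟨g, rfl⟩ := hD.trans a ha b hb
  have h := Subgroup.commutator_mem_commutator (Subgroup.mem_top a) (Subgroup.mem_top g)
  rwa [← commutator_def, commutatorElement_def, inv_eq hD ha, mul_assoc a g a, mul_assoc] at h

variable [Finite G]

/-- A connected commuting graph puts the class into a single coset of the component. -/
theorem index_le_two_of_connected (hD : Trans D) {L : Subgroup G} (hL : IsComponent L) [L.Normal]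
    (hconn : (commutingGraph D).Connected) : L.index ≤ 2 := by
  refine index_le_two hD L fun a ha b hb => ?_
  have hrel : ∀ u v : D, (commutingGraph D).Reachable u v → (u : G) * v ∈ L := by
    rintro u v ⟨w⟩
    induction w with
    | nil => rename_i u; rw [mul_self hD u.2]; exact one_mem L
    | cons hadj _ ih =>
      rename_i u v w _
      have hc : Commute (u : G) v := by
        rw [commutingGraph, SimpleGraph.fromRel_adj] at hadj
        exact hadj.2.elim id Commute.symm
      have h1 : (u : G) * v ∈ L := quotient_width_one hD hL u.2 v.2 (by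
        rw [hc.eq, mul_assoc (v : G), mul_inv_cancel, mul_one, mul_inv_cancel]; exact one_mem L)
      have h2 := mul_mem h1 ih
      rwa [mul_assoc (u : G), ← mul_assoc (v : G) v, mul_self hD v.2, one_mul] at h2
  exact hrel ⟨a, ha⟩ ⟨b, hb⟩ (hconn.preconnected _ _)

theorem centralizer_le_center (hD : Trans D) (h2 : pCore 2 G ≤ Subgroup.center G)
    (h3 : pCore 3 G ≤ Subgroup.center G) {L : Subgroup G} [L.Normal]
    (hF : generalizedFittingSubgroup G = L ⊔ Subgroup.center G) :
    Subgroup.centralizer (L : Set G) ≤ Subgroup.center G := by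
  have hle : Subgroup.centralizer (L : Set G) ≤ L ⊔ Subgroup.center G := by
    rw [← hF]
    intro x hx
    refine Lib.Core.centralizer_generalizedFitting_le ?_
    have h1 : L ⊔ Subgroup.center G ≤ Subgroup.centralizer {x} := sup_le
      (fun l hl => Subgroup.mem_centralizer_singleton_iff.2 (Subgroup.mem_centralizer_iff.1 hx l hl))
      (fun z hz => Subgroup.mem_centralizer_singleton_iff.2 (Subgroup.mem_center_iff.1 hz x).symm)
    exact Subgroup.mem_centralizer_iff.2 fun y hy => Subgroup.mem_centralizer_singleton_iff.1 (h1 (hF ▸ hy))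
  haveI : IsMulCommutative (Subgroup.centralizer (L : Set G)) := ⟨⟨fun x y => Subtype.ext (by
    have h1 : L ⊔ Subgroup.center G ≤ Subgroup.centralizer {(x : G)} := sup_le
      (fun l hl => Subgroup.mem_centralizer_singleton_iff.2 (Subgroup.mem_centralizer_iff.1 x.2 l hl))
      (fun z hz => Subgroup.mem_centralizer_singleton_iff.2 (Subgroup.mem_center_iff.1 hz x).symm)
    exact (Subgroup.mem_centralizer_singleton_iff.1 (h1 (hle y.2))).symm)⟩⟩
  haveI : Group.IsNilpotent (Subgroup.centralizer (L : Set G)) := by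
    letI : CommGroup (Subgroup.centralizer (L : Set G)) := { mul_comm := fun a b => mul_comm' a b }
    infer_instance
  exact (Lib.Core.le_fittingSubgroup' inferInstance ‹_›).trans (fitting_le_center hD h2 h3)

theorem commutator_eq_bot_of_inf_le (hD : Trans D) {L K : Subgroup G} (hL : IsComponent L) [L.Normal] [K.Normal]
    (h : K.subgroupOf L ≤ Subgroup.center L) : K ≤ Subgroup.centralizer (L : Set G) := by
  have h1 : ⁅⁅K, L⁆, L⁆ = ⊥ := by
    rw [Subgroup.commutator_eq_bot_iff_le_centralizer]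
    intro x hx
    have hxK : x ∈ K := Subgroup.commutator_le_left K L hx
    have hxL : x ∈ L := Subgroup.commutator_le_right K L hx
    refine Subgroup.mem_centralizer_iff.2 fun l hl => ?_
    exact congrArg Subtype.val (Subgroup.mem_center_iff.1 (h (show (⟨x, hxL⟩ : L) ∈ _ from hxK)) ⟨l, hl⟩)
  have h2 : ⁅⁅L, K⁆, L⁆ = ⊥ := by rwa [Subgroup.commutator_comm L K]
  have h3 := Subgroup.commutator_commutator_eq_bot_of_rotate h2 h1
  rw [Lib.Core.IsComponent.commutator_eq hL, Subgroup.commutator_comm,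
    Subgroup.commutator_eq_bot_iff_le_centralizer] at h3
  exact h3

theorem eq_of_mul_mem_center (hD : Trans D) (hne : ∃ a ∈ D, ∃ b ∈ D, a ≠ b)
    (h2 : pCore 2 G ≤ Subgroup.center G) {a b : G} (ha : a ∈ D) (hb : b ∈ D)
    (h : a * b ∈ Subgroup.center G) : a = b := by
  classical
  have hc : Commute a b := by
    have h1 : a * (a * b) = (a * b) * a := Subgroup.mem_center_iff.1 h a
    rw [← mul_assoc, mul_self hD ha, one_mul] at h1
    calc a * b = a * (a * b * a) := by rw [← h1]
      _ = b * a := by rw [← mul_assoc, ← mul_assoc, mul_self hD ha, one_mul]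
  have hs : Subgroup.zpowers (a * b) ≤ pCore 2 G := by
    refine Lib.Core.le_pCore' ⟨fun x hx g => ?_⟩ (IsPGroup.of_card (p := 2)
      (n := if a * b = 1 then 0 else 1) ?_)
    · rw [Subgroup.mem_center_iff.1 ((Subgroup.zpowers_le.2 h) hx) g, mul_inv_cancel_right]
      exact hx
    · rw [Nat.card_zpowers]
      split_ifs with h1
      · simp [h1]
      · rw [pow_one]
        exact orderOf_eq_prime (by rw [hc.mul_pow, pow_two, pow_two, mul_self hD ha, mul_self hD hb, one_mul]) h1
  obtain ⟨g, hg, rfl⟩ := orbit_two hD hne ha hb ((sameComm_iff hD ha hb).2 (hs (Subgroup.mem_zpowers _)))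
  rw [← Subgroup.mem_center_iff.1 (h2 hg) a, mul_inv_cancel_right]

/-- Index at most 2 gives primitivity. -/
theorem primitive_of_index (hD : Trans D) (hne : ∃ a ∈ D, ∃ b ∈ D, a ≠ b)
    (h2 : pCore 2 G ≤ Subgroup.center G) (h3 : pCore 3 G ≤ Subgroup.center G) {L : Subgroup G}
    (hL : IsComponent L) [L.Normal] (hF : generalizedFittingSubgroup G = L ⊔ Subgroup.center G)
    (hidx : L.index ≤ 2) : IsPrimitiveUnderConj D := by
  classical
  refine ⟨hD.trans, hne, fun B hB hblock => ?_⟩
  by_contra hcon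
  obtain ⟨hns, hnD⟩ := not_or.1 hcon
  obtain ⟨a, haB, b, hbB, hab⟩ := Set.not_subsingleton_iff.1 hns
  have ha := hB haB
  have hb := hB hbB
  let R : G → G → Prop := fun u v => ∀ g : G, g * u * g⁻¹ ∈ B ↔ g * v * g⁻¹ ∈ B
  have hblk : ∀ g u : G, u ∈ B → g * u * g⁻¹ ∈ B → ∀ v ∈ B, g * v * g⁻¹ ∈ B := by
    intro g u hu hgu v hv
    rcases hblock g with e | e
    · exact e ▸ Set.mem_image_of_mem _ hv
    · exact absurd hgu (Set.disjoint_left.1 e ⟨u, hu, rfl⟩)
  have hRab : R a b := fun g => ⟨fun h => hblk g a haB h b hbB, fun h => hblk g b hbB h a haB⟩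
  have hinv : ∀ g : G, ∀ u ∈ D, ∀ v ∈ D, R u v → R (g * u * g⁻¹) (g * v * g⁻¹) := by
    intro g u _ v _ h k
    have := h (k * g)
    simpa [mul_assoc] using this
  have hR : Blocks D R := by
    refine blocks_of_uniform hD (fun _ _ _ => Iff.rfl) (fun _ _ _ _ h g => (h g).symm)
      (fun _ _ _ _ _ _ h h' g => (h g).trans (h' g)) hinv (fun u hu v hv huv e he hne' hc => ?_)
    by_contra hn
    have h1 := inv_cj hD hinv he hu hv huv
    rw [cj_of_commute hD he hc.symm, braid hD he hv fun h => hn h.symm] at h1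
    have h4 := inv_cj hD hinv hv hu (cj_mem hD hv he) h1
    rw [cj_cj hD hv] at h4
    have h5 := inv_cj hD hinv hv hv hu fun g => (huv g).symm
    rw [cj_self hD hv] at h5
    exact hne' fun g => ((huv g).trans (h5 g)).trans (h4 g)
  let K : Subgroup G :=
    { carrier := {g | ∀ e ∈ D, R e (g * e * g⁻¹)}
      one_mem' := fun e he => by simpa using hR.refl e he
      mul_mem' := fun {g h} hg hh e he => by
        have h1 := hh e he
        have h2 := hg _ (hD.conj h e he)
        simpa [mul_assoc] using hR.trans _ he _ (hD.conj h e he) _ (hD.conj g _ (hD.conj h e he)) h1 h2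
      inv_mem' := fun {g} hg e he => by
        have h1 := hg _ (hD.conj g⁻¹ e he)
        simp [mul_assoc] at h1 ⊢
        exact hR.symm _ (by simpa [mul_assoc] using hD.conj g⁻¹ e he) _ he h1 }
  haveI hKn : K.Normal := ⟨fun k hk g e he => by
    have h1 := hR.inv g _ (hD.conj g⁻¹ e he) _ (hD.conj k _ (hD.conj g⁻¹ e he)) (hk _ (hD.conj g⁻¹ e he))
    simpa [mul_assoc] using h1⟩
  have habK : a * b ∈ K := fun e he => by
    have h1 := hR.kern a ha b hb hRab e he
    simpa [cj_def, mul_assoc, _root_.mul_inv_rev, inv_eq hD ha, inv_eq hD hb] using h1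
  rcases Lib.Core.quasisimple_normal hL.2 (N := K.subgroupOf L) with h | h
  · exact hab (eq_of_mul_mem_center hD hne h2 ha hb
      (centralizer_le_center hD h2 h3 hF (commutator_eq_bot_of_inf_le hD hL h habK)))
  · rw [Subgroup.subgroupOf_eq_top] at h
    refine hnD (Set.Subset.antisymm hB fun x hx => ?_)
    obtain ⟨g, rfl⟩ := hD.trans a ha x hx
    have hk : ∃ k ∈ L, k * a * k⁻¹ = g * a * g⁻¹ := by
      by_cases hg : g ∈ L
      · exact ⟨g, hg, rfl⟩
      refine ⟨g * a, ?_, by simp [mul_assoc]⟩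
      have hi : L.index = 2 := by
        have h1 : L.index ≠ 0 := Subgroup.index_ne_zero_of_finite
        have h2 : L.index ≠ 1 := fun h => hg (Subgroup.index_eq_one.1 h ▸ Subgroup.mem_top g)
        omega
      have haL : a ∉ L := fun haL => hg (by
        have : L = ⊤ := by
          rw [eq_top_iff, ← hD.gen, Subgroup.closure_le]
          intro e he
          obtain ⟨u, rfl⟩ := hD.trans a ha e he
          exact Subgroup.Normal.conj_mem inferInstance a haL u
        rw [this]; exact Subgroup.mem_top g)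
      exact (Subgroup.mul_mem_iff_of_index_two hi).2 (iff_of_false hg haL)
    obtain ⟨k, hk, hke⟩ := hk
    rw [← hke]
    simpa using (h hk a ha 1).1 (by simpa using haB)

theorem not_all_commute (hD : Trans D) (hne : ∃ a ∈ D, ∃ b ∈ D, a ≠ b) {d : G} (hd : d ∈ D) :
    Subgroup.closure {y : G | y ∈ D ∧ Commute d y} ≠ ⊤ := by
  intro h
  obtain ⟨e, he, hn⟩ := exists_noncommuting hD hne hd
  have hle : Subgroup.closure {y : G | y ∈ D ∧ Commute d y} ≤ Subgroup.centralizer {d} :=
    (Subgroup.closure_le _).2 fun y hy => Subgroup.mem_centralizer_singleton_iff.2 hy.2.eq.symm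
  exact hn (Subgroup.mem_centralizer_singleton_iff.1 (hle (h ▸ Subgroup.mem_top e))).symm

/-- The commuting data of a primitive class of width at least 2. -/
theorem core_le_center_of_primitive (hD : Trans D) (hprim : IsPrimitiveUnderConj D)
    (hw : ∃ a ∈ D, ∃ b ∈ D, a ≠ b ∧ Commute a b) :
    pCore 2 G ≤ Subgroup.center G ∧ pCore 3 G ≤ Subgroup.center G := by
  obtain ⟨d, hd⟩ := hD.ne
  have hblock : ∀ {R : G → G → Prop}, Blocks D R → ({x | x ∈ D ∧ R d x} : Set G).Subsingleton ∨
      ∀ x ∈ D, R d x := by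
    intro R hR
    refine (hprim.2.2 {x | x ∈ D ∧ R d x} (fun x hx => hx.1) fun g => ?_).imp id
      fun h x hx => ((Set.ext_iff.1 h x).2 hx).2
    by_cases hg : R d (g * d * g⁻¹)
    · refine Or.inl ?_
      ext z
      constructor
      · rintro ⟨x, hx, rfl⟩
        exact ⟨hD.conj g x hx.1, hR.trans _ hd _ (hD.conj g d hd) _ (hD.conj g x hx.1) hg (hR.inv g _ hd _ hx.1 hx.2)⟩
      · intro hz
        have hx : g⁻¹ * z * g ∈ D := by simpa using hD.conj g⁻¹ z hz.1
        refine ⟨g⁻¹ * z * g, ⟨hx, ?_⟩, by simp [mul_assoc]⟩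
        have h1 := hR.inv g⁻¹ _ (hD.conj g d hd) _ hz.1
          (hR.trans _ (hD.conj g d hd) _ hd _ hz.1 (hR.symm _ hd _ (hD.conj g d hd) hg) hz.2)
        simpa [mul_assoc] using h1
    · refine Or.inr (Set.disjoint_left.2 ?_)
      rintro _ ⟨x, hx, rfl⟩ hz
      exact hg (hR.trans _ hd _ (hD.conj g x hx.1) _ (hD.conj g d hd) hz.2
        (hR.symm _ (hD.conj g d hd) _ (hD.conj g x hx.1) (hR.inv g _ hd _ hx.1 hx.2)))
  have key : ∀ {R : G → G → Prop}, Blocks D R → ∀ p : ℕ, (¬ ∀ x ∈ D, R d x) →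
      (∀ g ∈ pCore p G, R d (g * d * g⁻¹)) → pCore p G ≤ Subgroup.center G := by
    intro R hR p hall horb
    by_contra h
    obtain ⟨g, hg, hgd⟩ := exists_moved hD h hd
    rcases hblock hR with hs | hs
    · exact hgd (hs ⟨hD.conj g d hd, horb g hg⟩ ⟨hd, hR.refl d hd⟩)
    · exact hall hs
  obtain ⟨a, ha, b, hb, hne, hc⟩ := hw
  refine ⟨key (blocks_sameComm hD) 2 (fun hall => ?_)
    fun g hg => (sameComm_iff hD hd (hD.conj g d hd)).2 (mul_conj_mem hD hd hg),
    key (blocks_samePerp hD) 3 (fun hall => ?_)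
    fun g hg => (samePerp_iff hD hd (hD.conj g d hd)).2 (mul_conj_mem hD hd hg)⟩
  · obtain ⟨e, he, hn⟩ := exists_noncommuting hD ⟨a, ha, b, hb, hne⟩ hd
    exact hn (commute_of_sameComm hd (hall e he))
  · exact hne (eq_of_samePerp_commute hb ((hall a ha).symm.trans (hall b hb)) hc)

theorem connected_of_primitive (hD : Trans D) (hprim : IsPrimitiveUnderConj D)
    (hw : ∃ a ∈ D, ∃ b ∈ D, a ≠ b ∧ Commute a b) : (commutingGraph D).Connected := by
  obtain ⟨a, ha, b, hb, hne, hc⟩ := hw
  let Γ := commutingGraph D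
  have hab : Γ.Reachable ⟨a, ha⟩ ⟨b, hb⟩ := by
    refine SimpleGraph.Adj.reachable ?_
    simp only [Γ, commutingGraph, SimpleGraph.fromRel_adj]
    exact ⟨fun h => hne (congrArg Subtype.val h), Or.inl hc⟩
  let cg : ∀ g : G, Γ →g Γ := fun g =>
    { toFun := fun x => ⟨g * x * g⁻¹, hD.conj g x x.2⟩
      map_rel' := fun {x y} h => by
        simp only [Γ, commutingGraph, SimpleGraph.fromRel_adj] at h ⊢
        refine ⟨fun e => h.1 (Subtype.ext (by simpa using congrArg Subtype.val e)), ?_⟩
        exact h.2.imp (Commute.conj_iff g).2 (Commute.conj_iff g).2 }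
  let B : Set G := {x | ∃ hx : x ∈ D, Γ.Reachable ⟨a, ha⟩ ⟨x, hx⟩}
  have hB : ∀ x ∈ D, x ∈ B := by
    refine (hprim.2.2 B (fun x hx => hx.1) fun g => ?_).elim
      (fun h => absurd (h ⟨ha, SimpleGraph.Reachable.refl _⟩ ⟨hb, hab⟩) hne) fun h x hx => h.symm ▸ hx
    by_cases hg : g * a * g⁻¹ ∈ B
    · refine Or.inl (Set.Subset.antisymm ?_ ?_)
      · rintro _ ⟨x, ⟨hx, hr⟩, rfl⟩
        exact ⟨hD.conj g x hx, hg.2.trans (hr.map (cg g))⟩
      · rintro z ⟨hz, hr⟩
        have h1 := (hg.2.symm.trans hr).map (cg g⁻¹)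
        refine ⟨g⁻¹ * z * g, ⟨by simpa using hD.conj g⁻¹ z hz, ?_⟩, by simp [mul_assoc]⟩
        simpa [cg, mul_assoc] using h1
    · refine Or.inr (Set.disjoint_left.2 ?_)
      rintro _ ⟨x, ⟨hx, hr⟩, rfl⟩ ⟨hz, hr'⟩
      exact hg ⟨hD.conj g a ha, hr'.trans (hr.map (cg g)).symm⟩
  haveI : Nonempty D := ⟨⟨a, ha⟩⟩
  exact ⟨fun u v => (hB u u.2).2.symm.trans (hB v v.2).2⟩

theorem commutator_eq (hD : Trans D) {L : Subgroup G} (hL : IsComponent L) [L.Normal]
    (hidx : L.index ≤ 2) : commutator G = L := by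
  refine le_antisymm ?_ ?_
  · have h0 : L.index ≠ 0 := Subgroup.index_ne_zero_of_finite
    rcases (show L.index = 1 ∨ L.index = 2 by omega) with h | h
    · rw [Subgroup.index_eq_one.1 h]; exact le_top
    · haveI : Fact (Nat.Prime 2) := ⟨Nat.prime_two⟩
      haveI : IsCyclic (G ⧸ L) := isCyclic_of_prime_card (p := 2) h
      rw [commutator_def, Subgroup.commutator_le]
      intro u _ v _
      rw [← QuotientGroup.eq_one_iff]
      change (QuotientGroup.mk' L) ⁅u, v⁆ = 1
      rw [map_commutatorElement, commutatorElement_eq_one_iff_mul_comm]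
      exact mul_comm' _ _
  · rw [← Lib.Core.IsComponent.commutator_eq hL, commutator_def]
    exact Subgroup.commutator_mono le_top le_top

/-- The transpositions commuting with a member span a maximal subgroup spanned by transpositions. -/
theorem closure_maximal (hD : Trans D) (hprim : IsPrimitiveUnderConj D)
    (hw : ∃ a ∈ D, ∃ b ∈ D, a ≠ b ∧ Commute a b) {d : G} (hd : d ∈ D) (H : Subgroup G)
    (hH : IsDSubgroup D H) (hle : Subgroup.closure {y : G | y ∈ D ∧ Commute d y} ≤ H) :
    H = Subgroup.closure {y : G | y ∈ D ∧ Commute d y} ∨ H = ⊤ := by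
  have hne : ∃ a ∈ D, ∃ b ∈ D, a ≠ b := hprim.2.1
  obtain ⟨h2, h3⟩ := core_le_center_of_primitive hD hprim hw
  obtain ⟨L, hLn, hL, -, hF⟩ := exists_quasisimple hD hne h2 h3
  haveI := hLn
  have hidx := index_le_two_of_connected hD hL (connected_of_primitive hD hprim hw)
  by_cases hin : ∀ y ∈ D, y ∈ H → Commute d y
  · refine Or.inl (le_antisymm ?_ hle)
    rw [← hH]
    exact Subgroup.closure_mono fun y hy => ⟨hy.1, hin y hy.1 hy.2⟩
  right
  push Not at hin
  obtain ⟨b, hb, hbH, hbn⟩ := hin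
  let Z := Subgroup.center G
  let π := QuotientGroup.mk' Z
  have hinj : ∀ {u v : G}, u ∈ D → v ∈ D → π u = π v → u = v := fun {u v} hu hv h =>
    eq_of_mul_mem_center hD hne h2 hu hv (by
      rw [← QuotientGroup.eq_one_iff]
      show π (u * v) = 1
      rw [map_mul, h, ← map_mul, mul_self hD hv, map_one])
  have hcomm : ∀ {u v : G}, u ∈ D → v ∈ D → Commute (π u) (π v) → Commute u v := by
    intro u v hu hv h
    by_contra hn
    have h3 : (π u * π v) ^ 3 = 1 := by rw [← map_mul, ← map_pow, orderOf_mul hD u v hu hv hn, map_one]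
    rw [pow_succ, h.mul_pow, ← map_pow, ← map_pow, pow_two, pow_two, mul_self hD hu, mul_self hD hv,
      map_one, one_mul, one_mul] at h3
    refine hn (hinj hu hv ?_ ▸ Commute.refl u)
    rw [eq_inv_of_mul_eq_one_left h3, ← map_inv, inv_eq hD hv]
  have hq : IsFischer (π '' D) := by
    refine ⟨⟨⟨?_, ?_⟩, ?_, ?_, ?_, hD.ne.image π⟩, ?_, ?_⟩
    · rintro _ ⟨x, hx, rfl⟩
      refine orderOf_eq_prime ?_ fun h => ?_
      · rw [← map_pow, pow_two, mul_self hD hx, map_one]
      obtain ⟨e, he, hn⟩ := exists_noncommuting hD hne hx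
      exact hn (Subgroup.mem_center_iff.1 ((QuotientGroup.eq_one_iff x).1 h) e).symm
    · rintro _ ⟨x, hx, rfl⟩ _ ⟨e, he, rfl⟩
      exact (hD.set.2 x hx e he).imp (fun h => by rw [← map_mul, ← map_pow, h, map_one])
        (fun h => by rw [← map_mul, ← map_pow, h, map_one])
    · rintro g _ ⟨x, hx, rfl⟩
      obtain ⟨g, rfl⟩ := QuotientGroup.mk'_surjective Z g
      exact ⟨_, hD.conj g x hx, by simp [π]⟩
    · rintro _ ⟨x, hx, rfl⟩ _ ⟨e, he, rfl⟩
      obtain ⟨g, rfl⟩ := hD.trans x hx e he
      exact ⟨π g, by simp⟩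
    · rw [← MonoidHom.map_closure, hD.gen, Subgroup.map_top_of_surjective _ (QuotientGroup.mk'_surjective Z)]
    · intro N hN hNs
      haveI := hN
      let M := N.comap π
      haveI : Group.IsSolvable Z := Lib.Core.isSolvable_of_isMulCommutative _
      haveI : Group.IsSolvable M := by
        haveI := hNs
        refine Group.isSolvable_of_ker_le_range (Subgroup.inclusion (show Z ≤ M from fun z hz => by
          rw [Subgroup.mem_comap, show π z = 1 from (QuotientGroup.eq_one_iff z).2 hz]; exact one_mem N))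
          (π.subgroupComap N) ?_
        intro x hx
        have h1 : π x = 1 := congrArg Subtype.val (MonoidHom.mem_ker.1 hx)
        exact ⟨⟨x, (QuotientGroup.eq_one_iff _).1 h1⟩, rfl⟩
      have hLM := Lib.Core.component_commute_solvable hL (H := M) inferInstance Subgroup.le_normalizer_of_normal
      rw [Subgroup.commutator_comm, Subgroup.commutator_eq_bot_iff_le_centralizer] at hLM
      rw [eq_bot_iff]
      intro x hx
      obtain ⟨x, rfl⟩ := QuotientGroup.mk'_surjective Z x
      exact Subgroup.mem_bot.2 ((QuotientGroup.eq_one_iff x).2 (centralizer_le_center hD h2 h3 hF (hLM hx)))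
    · have hc : commutator (G ⧸ Z) = L.map π := by
        rw [← commutator_eq hD hL hidx, commutator_def, commutator_def, Subgroup.map_commutator,
          Subgroup.map_top_of_surjective _ (QuotientGroup.mk'_surjective Z)]
      rw [hc, ← Subgroup.map_commutator, Lib.Core.IsComponent.commutator_eq hL]
  rw [eq_top_iff, ← hD.gen, Subgroup.closure_le]
  intro c hc
  by_cases hdc : Commute d c
  · exact hle (Subgroup.subset_closure ⟨hc, hdc⟩)
  obtain ⟨g, hg, hgc⟩ := orb_all hq (x := π d) ⟨d, hd, rfl⟩ ⟨b, hb, rfl⟩ ⟨c, hc, rfl⟩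
    (fun h => hbn (hcomm hd hb h)) (fun h => hdc (hcomm hd hc h))
  have hg' : g ∈ (Subgroup.closure {y : G | y ∈ D ∧ Commute d y}).map π := by
    rw [MonoidHom.map_closure]
    refine Subgroup.closure_mono ?_ hg
    rintro z (rfl | ⟨⟨y, hy, rfl⟩, -, hyc⟩)
    · exact ⟨d, ⟨hd, Commute.refl d⟩, rfl⟩
    · exact ⟨y, ⟨hy, hcomm hd hy hyc⟩, rfl⟩
  obtain ⟨k, hk, rfl⟩ := hg'
  have he : k * b * k⁻¹ = c := hinj (hD.conj k b hb) hc (by rw [map_mul, map_mul, map_inv, hgc])
  rw [← he]
  exact mul_mem (mul_mem (hle hk) hbH) (inv_mem (hle hk))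

end Cfsg.Lib.Fischer
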