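import Cfsg.Agent.Lib.Fischer.Basic
import Cfsg.Agent.Lib.Invol.IsolatedSylow
import Cfsg.Agent.Lib.Kazarin.Radical

/-!
# A class of 3-transpositions in which no two members commute generates a solvable group
-/

set_option autoImplicit false

namespace Cfsg.Lib.Fischer

variable {G : Type*} [Group G] [Finite G] {D : Set G} (hD : Trans D)

include hD

theorem orderOf_mul (a b : G) (ha : a ∈ D) (hb : b ∈ D) (h : ¬ Commute a b) : (a * b) ^ 3 = 1 :=
  (hD.set.2 a ha b hb).resolve_left fun h2 => h (by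
    rw [pow_two, ← eq_inv_iff_mul_eq_one, mul_inv_rev, inv_eq hD ha, inv_eq hD hb] at h2
    exact h2)

theorem isolated_of_noncommuting (h : ∀ a ∈ D, ∀ b ∈ D, Commute a b → a = b) {a : G} (ha : a ∈ D) :
    Cfsg.IsIsolatedInvolution a :=
  ⟨hD.set.1 a ha, fun g hc => (h a ha _ (hD.conj g a ha) hc).symm⟩

/-- Sylow subgroups for primes other than three centralize a member normalizing them. -/
theorem sylow_le_centralizer (h : ∀ a ∈ D, ∀ b ∈ D, Commute a b → a = b) {a : G} (ha : a ∈ D) (p : ℕ)
    [hp : Fact p.Prime] (hp3 : p ≠ 3) {P : Sylow p G} (hP : a ∈ Subgroup.normalizer ((P : Subgroup G) : Set G)) :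
    (P : Subgroup G) ≤ Subgroup.centralizer {a} := by
  intro x hx
  rw [Subgroup.mem_centralizer_singleton_iff]
  have hb : x⁻¹ * a * x ∈ D := by simpa using hD.conj x⁻¹ a ha
  by_cases hc : Commute a (x⁻¹ * a * x)
  · have e := h a ha _ hb hc
    calc x * a = x * (x⁻¹ * a * x) := by rw [← e]
      _ = a * x := by group
  exfalso
  have h3 := orderOf_mul hD a _ ha hb hc
  have hy : a * (x⁻¹ * a * x) ∈ (P : Subgroup G) := by
    have h1 := (Subgroup.mem_normalizer_iff.1 hP x⁻¹).1 (inv_mem hx)
    rw [inv_eq hD ha] at h1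
    rw [show a * (x⁻¹ * a * x) = (a * x⁻¹ * a) * x by group]
    exact mul_mem h1 hx
  obtain ⟨k, hk⟩ := P.2 ⟨_, hy⟩
  have hk' : orderOf (a * (x⁻¹ * a * x)) ∣ p ^ k :=
    orderOf_dvd_of_pow_eq_one (by simpa using congrArg Subtype.val hk)
  have h1 : orderOf (a * (x⁻¹ * a * x)) = 1 := Nat.eq_one_of_dvd_coprimes
    (((Nat.coprime_primes hp.out Nat.prime_three).2 hp3).pow_left k) hk' (orderOf_dvd_of_pow_eq_one h3)
  rw [orderOf_eq_one_iff] at h1
  apply hc
  rw [eq_inv_of_mul_eq_one_right h1, inv_eq hD ha]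

theorem isSolvable_of_noncommuting (h : ∀ a ∈ D, ∀ b ∈ D, Commute a b → a = b) : Group.IsSolvable G := by
  obtain ⟨a, ha⟩ := hD.ne
  have hz := isolated_of_noncommuting hD h ha
  set C := Subgroup.centralizer ({a} : Set G) with hC
  have hidx : ∀ p : ℕ, p.Prime → p ∣ C.index → p = 3 := by
    intro p hp hdvd
    by_contra hp3
    haveI : Fact p.Prime := ⟨hp⟩
    obtain ⟨P, hP⟩ := Lib.Invol.exists_invariant_sylow hz p
    exact P.not_dvd_index (hdvd.trans (Subgroup.index_dvd_of_le (sylow_le_centralizer hD h ha p hp3 hP)))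
  haveI : Fact (Nat.Prime 3) := ⟨Nat.prime_three⟩
  obtain ⟨P, hP⟩ := Lib.Invol.exists_invariant_sylow hz 3
  -- `P` is transitive on the cosets of `C`
  have hdvd : C.index ∣ C.relIndex (P : Subgroup G) := by
    refine Nat.Coprime.dvd_of_dvd_mul_right (n := (P : Subgroup G).index) ?_ ?_
    · refine Nat.coprime_of_dvd fun p hp h1 h2 => ?_
      obtain rfl := hidx p hp h1
      exact P.not_dvd_index h2
    · rw [← Subgroup.inf_relIndex_right, Subgroup.relIndex_mul_index inf_le_right]
      exact Subgroup.index_dvd_of_le inf_le_left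
  have hsurj : ∀ g : G, ∃ x ∈ (P : Subgroup G), g * a * g⁻¹ = x * a * x⁻¹ := by
    classical
    let f : (P : Subgroup G) ⧸ C.subgroupOf P → G ⧸ C :=
      Quotient.map' (fun x => (x : G)) fun x y hxy => by
        rw [QuotientGroup.leftRel_apply] at hxy ⊢
        simpa [Subgroup.mem_subgroupOf] using hxy
    have hf : Function.Injective f := by
      intro u v
      induction u using QuotientGroup.induction_on with | _ u => ?_
      induction v using QuotientGroup.induction_on with | _ v => ?_
      intro huv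
      have huv' : (QuotientGroup.mk (u : G) : G ⧸ C) = QuotientGroup.mk (v : G) := huv
      rw [QuotientGroup.eq] at huv' ⊢
      simpa [Subgroup.mem_subgroupOf] using huv'
    have hbij : Function.Bijective f :=
      hf.bijective_of_nat_card_le (Nat.le_of_dvd Nat.card_pos hdvd)
    intro g
    obtain ⟨u, hu⟩ := hbij.2 (QuotientGroup.mk g)
    induction u using QuotientGroup.induction_on with | _ u => ?_
    have hu' : (QuotientGroup.mk (u : G) : G ⧸ C) = QuotientGroup.mk g := hu
    rw [QuotientGroup.eq] at hu'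
    refine ⟨u, u.2, ?_⟩
    rw [hC, Subgroup.mem_centralizer_singleton_iff] at hu'
    calc g * a * g⁻¹ = (u : G) * ((u : G)⁻¹ * g * a) * g⁻¹ := by group
      _ = (u : G) * (a * ((u : G)⁻¹ * g)) * g⁻¹ := by rw [hu']
      _ = u * a * (u : G)⁻¹ := by group
  -- the group is `P` extended by `a`
  let M := (P : Subgroup G) ⊔ Subgroup.zpowers a
  have hM : M = ⊤ := by
    rw [eq_top_iff, ← hD.gen, Subgroup.closure_le]
    intro b hb
    obtain ⟨g, rfl⟩ := hD.trans a ha b hb
    obtain ⟨x, hx, e⟩ := hsurj g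
    rw [e]
    exact mul_mem (mul_mem (Subgroup.mem_sup_left hx) (Subgroup.mem_sup_right (Subgroup.mem_zpowers a)))
      (inv_mem (Subgroup.mem_sup_left hx))
  have hnorm : (P : Subgroup G).Normal := by
    rw [← Subgroup.normalizer_eq_top_iff, eq_top_iff, ← hM]
    exact sup_le Subgroup.le_normalizer ((Subgroup.zpowers_le).2 hP)
  have hs : Group.IsSolvable M := by
    rw [show M = Subgroup.zpowers a ⊔ (P : Subgroup G) from sup_comm _ _]
    haveI := P.2.isNilpotent
    exact Lib.Kazarin.isSolvable_normal_sup _ _ inferInstance inferInstance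
  rw [hM] at hs
  exact Group.isSolvable_of_surjective (f := (⊤ : Subgroup G).subtype) (fun g => ⟨⟨g, trivial⟩, rfl⟩)

/-- With trivial solvable radical two distinct members commute. -/
theorem exists_commute (hsol : ∀ N : Subgroup G, N.Normal → Group.IsSolvable ↥N → N = ⊥) :
    ∃ a ∈ D, ∃ b ∈ D, a ≠ b ∧ Commute a b := by
  by_contra h
  push Not at h
  haveI := isSolvable_of_noncommuting hD fun a ha b hb hc => by_contra fun hne => h a ha b hb hne hc
  obtain ⟨a, ha⟩ := hD.ne
  have h1 := hsol ⊤ inferInstance inferInstance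
  exact ne_one hD ha (Subgroup.mem_bot.1 (h1 ▸ Subgroup.mem_top a))

end Cfsg.Lib.Fischer
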