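import Cfsg.Agent.Lib.Fischer.Block
import Cfsg.Agent.Lib.Fischer.Solvable

/-!
# Modules of the commuting graph of a 3-transposition class
-/

set_option autoImplicit false

namespace Cfsg.Lib.Fischer

variable {G : Type*} [Group G]

/-- A 3-transposition class in a group with trivial solvable radical and perfect derived group. -/
structure IsFischer (D : Set G) : Prop extends Trans D where
  sol : ∀ N : Subgroup G, N.Normal → Group.IsSolvable ↥N → N = ⊥
  perf : ⁅commutator G, commutator G⁆ = commutator G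

/-- The members commuting with `x` other than `x`. -/
def perp (D : Set G) (x : G) : Set G := {y : G | y ∈ D ∧ y ≠ x ∧ Commute x y}

theorem mem_perp {D : Set G} {x y : G} : y ∈ perp D x ↔ y ∈ D ∧ y ≠ x ∧ Commute x y := Iff.rfl

variable {D : Set G}

theorem inv_cj {R : G → G → Prop} (hD : Trans D)
    (inv : ∀ g : G, ∀ a ∈ D, ∀ b ∈ D, R a b → R (g * a * g⁻¹) (g * b * g⁻¹)) {d a b : G} (hd : d ∈ D)
    (ha : a ∈ D) (hb : b ∈ D) (h : R a b) : R (cj d a) (cj d b) := by
  rw [cj_conj hD hd, cj_conj hD hd]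
  exact inv d a ha b hb h

/-- An invariant equivalence is a block system when equivalent members look alike from outside. -/
theorem blocks_of_uniform {R : G → G → Prop} (hD : Trans D) (refl : ∀ a ∈ D, R a a)
    (symm : ∀ a ∈ D, ∀ b ∈ D, R a b → R b a) (trans : ∀ a ∈ D, ∀ b ∈ D, ∀ c ∈ D, R a b → R b c → R a c)
    (inv : ∀ g : G, ∀ a ∈ D, ∀ b ∈ D, R a b → R (g * a * g⁻¹) (g * b * g⁻¹))
    (uni : ∀ a ∈ D, ∀ b ∈ D, R a b → ∀ e ∈ D, ¬ R a e → Commute a e → Commute b e) : Blocks D R := by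
  refine ⟨refl, symm, trans, inv, fun a ha b hb hab e he => ?_⟩
  have hc : ∀ {d u v : G}, d ∈ D → u ∈ D → v ∈ D → R u v → R (cj d u) (cj d v) :=
    fun {d u v} hd hu hv h => inv_cj hD inv hd hu hv h
  have hbe := cj_mem hD hb he
  by_cases hae : R a e
  · have h1 : R (cj b e) b := by
      have := hc hb he hb (trans e he a ha b hb (symm a ha e he hae) hab)
      rwa [cj_self hD hb] at this
    have h2 : R (cj a (cj b e)) (cj a b) := hc ha hbe hb h1
    have h3 : R (cj a b) a := by
      have := hc ha hb ha (symm a ha b hb hab)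
      rwa [cj_self hD ha] at this
    exact symm _ (cj_mem hD ha hbe) _ he
      (trans _ (cj_mem hD ha hbe) _ (cj_mem hD ha hb) _ he h2 (trans _ (cj_mem hD ha hb) _ ha _ he h3 hae))
  · by_cases hce : Commute a e
    · rw [cj_of_commute hD hb (uni a ha b hb hab e he hae hce), cj_of_commute hD ha hce]
      exact refl e he
    · have hbe' : ¬ R b e := fun h => hae (trans a ha b hb e he hab h)
      have hcb : ¬ Commute b e := fun h => hce (uni b hb a ha (symm a ha b hb hab) e he hbe' h)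
      have h1 := hc he ha hb hab
      rw [← braid hD ha he hce, ← braid hD hb he hcb] at h1
      have h2 := hc ha (cj_mem hD ha he) hbe h1
      rwa [cj_cj hD ha] at h2

variable [Finite G] (hF : IsFischer D)

include hF

/-- Members with the same commuting members are equal. -/
theorem eq_of_commute_iff {a b : G} (ha : a ∈ D) (hb : b ∈ D)
    (h : ∀ e ∈ D, Commute a e ↔ Commute b e) : a = b := by
  have hD := hF.toTrans
  have hB : Blocks D fun u v => ∀ e ∈ D, Commute u e ↔ Commute v e := by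
    refine blocks_of_uniform hD (fun _ _ _ _ => Iff.rfl) (fun _ _ _ _ h e he => (h e he).symm)
      (fun _ _ _ _ _ _ h h' e he => (h e he).trans (h' e he)) (fun g u _ v _ h e he => ?_)
      (fun u _ v _ h e he _ hc => (h e he).1 hc)
    have e1 : e = g * (g⁻¹ * e * g) * g⁻¹ := by group
    rw [e1, Commute.conj_iff g, Commute.conj_iff g]
    exact h _ (by simpa using hD.conj g⁻¹ e he)
  exact hB.eq_of_rel hD hF.sol ha ha
    (fun u hu v _ hau hav => (((hav u hu).1 ((hau u hu).2 (Commute.refl u))).symm)) ha hb h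

theorem conj_perp (g x : G) {y : G} (hy : y ∈ perp D x) : g * y * g⁻¹ ∈ perp D (g * x * g⁻¹) :=
  ⟨hF.conj g y hy.1, fun h => hy.2.1 (by simpa using h), (Commute.conj_iff g).2 hy.2.2⟩

/-- Members with the same commuting other members are equal. -/
theorem eq_of_perp_eq {a b : G} (ha : a ∈ D) (hb : b ∈ D) (h : perp D a = perp D b) : a = b := by
  have hD := hF.toTrans
  have hB : Blocks D fun u v => perp D u = perp D v := by
    refine blocks_of_uniform hD (fun _ _ => rfl) (fun _ _ _ _ h => h.symm)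
      (fun _ _ _ _ _ _ h h' => h.trans h') (fun g u _ v _ h => ?_) (fun u _ v _ h e he hne hc => ?_)
    · have key : ∀ w z : G, z ∈ perp D (g * w * g⁻¹) ↔ g⁻¹ * z * g ∈ perp D w := by
        intro w z
        refine ⟨fun hz => ?_, fun hz => ?_⟩
        · simpa [mul_assoc] using conj_perp hF g⁻¹ _ hz
        · simpa [mul_assoc] using conj_perp hF g _ hz
      ext z
      rw [key, key, h]
    · have he' : e ∈ perp D u := ⟨he, fun e1 => hne (by rw [e1]), hc⟩
      exact (h ▸ he' : e ∈ perp D v).2.2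
  obtain ⟨a₀, ha₀, n₀, hn₀, hne, hc⟩ := exists_commute hD hF.sol
  refine hB.eq_of_rel hD hF.sol ha₀ hn₀ (fun u hu v _ hau hnv => ?_) ha hb h
  have h1 : n₀ ∈ perp D u := hau ▸ (⟨hn₀, Ne.symm hne, hc⟩ : n₀ ∈ perp D a₀)
  have h2 : u ∈ perp D v := hnv ▸ (⟨hu, Ne.symm h1.2.1, h1.2.2.symm⟩ : u ∈ perp D n₀)
  exact h2.2.2.symm

theorem eq_of_perp_subset {a b : G} (ha : a ∈ D) (hb : b ∈ D) (h : perp D a ⊆ perp D b) : a = b := by
  refine eq_of_perp_eq hF ha hb (Set.eq_of_subset_of_ncard_le h ?_ (Set.toFinite _))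
  obtain ⟨g, hg⟩ := hF.trans b hb a ha
  rw [← hg, ← Set.ncard_image_of_injective (perp D b) (MulAut.conj g).injective]
  refine Set.ncard_le_ncard ?_ (Set.toFinite _)
  rintro _ ⟨y, hy, rfl⟩
  exact conj_perp hF g b hy

theorem eq_of_commute_subset {a b : G} (ha : a ∈ D) (hb : b ∈ D)
    (h : ∀ e ∈ D, Commute a e → Commute b e) : a = b := by
  refine eq_of_commute_iff hF ha hb ?_
  have h1 : {e | e ∈ D ∧ Commute a e} = {e | e ∈ D ∧ Commute b e} := by
    refine Set.eq_of_subset_of_ncard_le (fun e he => ⟨he.1, h e he.1 he.2⟩) ?_ (Set.toFinite _)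
    obtain ⟨g, hg⟩ := hF.trans b hb a ha
    rw [← Set.ncard_image_of_injective {e | e ∈ D ∧ Commute b e} (MulAut.conj g).injective]
    refine Set.ncard_le_ncard ?_ (Set.toFinite _)
    rintro _ ⟨y, hy, rfl⟩
    exact ⟨hF.conj g y hy.1, hg ▸ (Commute.conj_iff g).2 hy.2⟩
  exact fun e he => ⟨h e he, fun hc => ((Set.ext_iff.1 h1 e).2 ⟨he, hc⟩).2⟩

/-- A property closed under commuting holds for every member. -/
theorem commuting_connected {p : G → Prop} (hp : ∀ x ∈ D, ∀ y ∈ D, Commute x y → p x → p y) {a b : G}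
    (ha : a ∈ D) (hb : b ∈ D) (hpa : p a) : p b := by
  classical
  have hD := hF.toTrans
  let R : G → G → Prop := fun u v => ∀ q : G → Prop,
    (∀ x ∈ D, ∀ y ∈ D, Commute x y → q x → q y) → q u → q v
  have hsymm : ∀ u ∈ D, ∀ v ∈ D, R u v → R v u := fun u _ v _ h q hq hv => by
    by_contra hu
    exact h (fun z => ¬ q z) (fun x hx y hy hc hnx hy' => hnx (hq y hy x hx hc.symm hy')) hu hv
  have hcomm : ∀ u ∈ D, ∀ v ∈ D, Commute u v → R u v := fun u hu v hv hc q hq hqu => hq u hu v hv hc hqu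
  have hB : Blocks D R := by
    refine blocks_of_uniform hD (fun _ _ q _ h => h) hsymm (fun _ _ _ _ _ _ h h' q hq hu => h' q hq (h q hq hu))
      (fun g u _ v _ h q hq => ?_) (fun u hu v _ _ e he hne hc => absurd (hcomm u hu e he hc) hne)
    exact h (fun z => q (g * z * g⁻¹))
      (fun x hx y hy hc => hq _ (hD.conj g x hx) _ (hD.conj g y hy) ((Commute.conj_iff g).2 hc))
  by_contra hpb
  have hab : ¬ R a b := fun h => hpb (h p hp hpa)
  let K : Subgroup G :=
    { carrier := {g | ∀ e ∈ D, R e (g * e * g⁻¹)}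
      one_mem' := fun e he => by simpa using hB.refl e he
      mul_mem' := fun {g h} hg hh e he => by
        have h1 := hh e he
        have h2 := hg _ (hD.conj h e he)
        simpa [mul_assoc] using hB.trans _ he _ (hD.conj h e he) _ (hD.conj g _ (hD.conj h e he)) h1 h2
      inv_mem' := fun {g} hg e he => by
        have h1 := hg _ (hD.conj g⁻¹ e he)
        simp [mul_assoc] at h1 ⊢
        exact hB.symm _ (by simpa [mul_assoc] using hD.conj g⁻¹ e he) _ he h1 }
  haveI hKn : K.Normal := ⟨fun k hk g e he => by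
    have h1 := hB.inv g _ (hD.conj g⁻¹ e he) _ (hD.conj k _ (hD.conj g⁻¹ e he)) (hk _ (hD.conj g⁻¹ e he))
    simpa [mul_assoc] using h1⟩
  -- a commutator of two members in `K` puts them into the same class
  have key : ∀ u ∈ D, ∀ v ∈ D, u * v * u * v ∈ K → R u v := by
    intro u hu v hv hk
    by_cases hc : Commute u v
    · exact hcomm u hu v hv hc
    have e0 : cj u (cj v (cj u (cj v u))) = cj u v := by
      rw [show cj v u = cj u v from (braid hD hu hv hc).symm, cj_cj hD hu, cj_self hD hv]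
    have h1 : R u (cj u v) := by
      rw [← e0]
      simpa [cj_def, mul_assoc, _root_.mul_inv_rev, inv_eq hD hu, inv_eq hD hv] using hk u hu
    have h2 := inv_cj hD hB.inv hu hu (cj_mem hD hu hv) h1
    rwa [cj_self hD hu, cj_cj hD hu] at h2
  have hnotK : ∀ u ∈ D, u ∉ K := by
    intro u hu hk
    have hu' : ∀ v ∈ D, R u v := fun v hv => key u hu v hv (by
      have := mul_mem hk (hKn.conj_mem u hk v)
      simpa [mul_assoc, inv_eq hD hv] using this)
    exact hab (hB.trans a ha u hu b hb (hB.symm u hu a ha (hu' a ha)) (hu' b hb))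
  let π := QuotientGroup.mk' K
  have hq : Trans (π '' D) := by
    refine ⟨⟨?_, ?_⟩, ?_, ?_, ?_, hD.ne.image π⟩
    · rintro _ ⟨d, hd, rfl⟩
      refine orderOf_eq_prime ?_ fun h => hnotK d hd ((QuotientGroup.eq_one_iff d).1 h)
      rw [← map_pow, pow_two, mul_self hD hd, map_one]
    · rintro _ ⟨d, hd, rfl⟩ _ ⟨e, he, rfl⟩
      exact (hD.set.2 d hd e he).imp (fun h => by rw [← map_mul, ← map_pow, h, map_one])
        (fun h => by rw [← map_mul, ← map_pow, h, map_one])
    · rintro g _ ⟨d, hd, rfl⟩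
      obtain ⟨g, rfl⟩ := QuotientGroup.mk'_surjective K g
      exact ⟨_, hD.conj g d hd, by simp [π]⟩
    · rintro _ ⟨d, hd, rfl⟩ _ ⟨e, he, rfl⟩
      obtain ⟨g, rfl⟩ := hD.trans d hd e he
      exact ⟨π g, by simp⟩
    · rw [← MonoidHom.map_closure, hD.gen, Subgroup.map_top_of_surjective _ (QuotientGroup.mk'_surjective K)]
  haveI : Group.IsSolvable (G ⧸ K) := by
    refine isSolvable_of_noncommuting hq ?_
    rintro _ ⟨u, hu, rfl⟩ _ ⟨v, hv, rfl⟩ hc
    have huv : u * v * u * v ∈ K := by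
      rw [← QuotientGroup.eq_one_iff, show ((u * v * u * v : G) : G ⧸ K) = π u * π v * π u * π v from rfl,
        hc.eq, mul_assoc (π v), ← map_mul π u, mul_self hD hu, map_one, mul_one, ← map_mul,
        mul_self hD hv, map_one]
    have h1 : v * u ∈ K := fun e he => by
      have h1 := hB.kern v hv u hu (hB.symm u hu v hv (key u hu v hv huv)) e he
      simpa [cj_def, mul_assoc, _root_.mul_inv_rev, inv_eq hD hu, inv_eq hD hv] using h1
    have h2 : ((v * u : G) : G ⧸ K) = 1 := (QuotientGroup.eq_one_iff _).2 h1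
    have h3 : π v * π u = 1 := h2
    rw [eq_inv_of_mul_eq_one_right h3, ← map_inv, inv_eq hD hv]
  obtain ⟨n, hn⟩ := (inferInstance : Group.IsSolvable (G ⧸ K))
  have hder : ∀ k, commutator G ≤ derivedSeries G k := by
    intro k
    induction k with
    | zero => simp
    | succ k ih => rw [derivedSeries_succ, ← hF.perf]; exact Subgroup.commutator_mono ih ih
  have hle : commutator G ≤ K := by
    intro z hz
    have h1 := map_derivedSeries_le_derivedSeries π n (Subgroup.mem_map_of_mem π (hder n hz))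
    rw [hn, Subgroup.mem_bot] at h1
    exact (QuotientGroup.eq_one_iff z).1 h1
  refine hab (key a ha b hb (hle ?_))
  have h4 := Subgroup.commutator_mem_commutator (Subgroup.mem_top a) (Subgroup.mem_top b)
  rw [commutatorElement_def, inv_eq hD ha, inv_eq hD hb, ← commutator_def] at h4
  exact h4

/-- A block of members looking alike from outside which some outside member centralizes is a single element. -/
theorem module_subsingleton {M : Set G} (hM : M ⊆ D)
    (huni : ∀ e ∈ D, e ∉ M → ∀ u ∈ M, ∀ v ∈ M, Commute u e → Commute v e)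
    (hblock : ∀ g : G, ∀ u ∈ M, g * u * g⁻¹ ∈ M → ∀ v ∈ M, g * v * g⁻¹ ∈ M)
    {n : G} (hn : n ∈ D) (hnM : n ∉ M) (hnc : ∀ u ∈ M, Commute n u) : M.Subsingleton := by
  classical
  intro a ha b hb
  have hD := hF.toTrans
  let R : G → G → Prop := fun u v => ∃ g : G, g⁻¹ * u * g ∈ M ∧ g⁻¹ * v * g ∈ M
  have hmove : ∀ {g h u w : G}, g⁻¹ * u * g ∈ M → h⁻¹ * u * h ∈ M → h⁻¹ * w * h ∈ M → g⁻¹ * w * g ∈ M := by
    intro g h u w h1 h2 h3
    simpa [mul_assoc] using hblock (g⁻¹ * h) _ h2 (by simpa [mul_assoc] using h1) _ h3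
  have hB : Blocks D R := by
    refine blocks_of_uniform hD (fun u hu => ?_) (fun u _ v _ ⟨g, h1, h2⟩ => ⟨g, h2, h1⟩)
      (fun u _ v _ w _ ⟨g, h1, h2⟩ ⟨h, h3, h4⟩ => ⟨g, h1, hmove h2 h3 h4⟩)
      (fun k u _ v _ ⟨g, h1, h2⟩ => ⟨k * g, by simpa [mul_assoc] using h1, by simpa [mul_assoc] using h2⟩)
      (fun u _ v _ ⟨g, h1, h2⟩ e he hne hc => ?_)
    · obtain ⟨g, hg⟩ := hD.trans a (hM ha) u hu
      exact ⟨g, by rw [← hg]; simpa [mul_assoc] using ha, by rw [← hg]; simpa [mul_assoc] using ha⟩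
    · have he' : g⁻¹ * e * g ∈ D := by simpa using hD.conj g⁻¹ e he
      have heM : g⁻¹ * e * g ∉ M := fun h => hne ⟨g, h1, h⟩
      have hc' : Commute (g⁻¹ * u * g) (g⁻¹ * e * g) := by
        simpa using (Commute.conj_iff g⁻¹).2 hc
      have h := huni _ he' heM _ h1 _ h2 hc'
      simpa [mul_assoc] using (Commute.conj_iff g).2 h
  refine hB.eq_of_rel hD hF.sol (hM ha) hn (fun u _ v _ ⟨g, hg1, hg2⟩ ⟨h, hh1, hh2⟩ => ?_) (hM ha) (hM hb)
    ⟨1, by simpa using ha, by simpa using hb⟩
  have huM : u ∈ M := by simpa using hmove (g := 1) (by simpa using ha) hg1 hg2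
  have hu' : h⁻¹ * u * h ∉ M := by
    intro h'
    have h3 : h * (h⁻¹ * u * h) * h⁻¹ ∈ M := by simpa [mul_assoc] using huM
    exact hnM (by simpa [mul_assoc] using hblock h _ h' h3 _ hh1)
  have hc' : Commute (h⁻¹ * n * h) (h⁻¹ * u * h) := by
    simpa using (Commute.conj_iff h⁻¹).2 (hnc u huM)
  have h4 := huni _ (by simpa using hD.conj h⁻¹ u (hM huM)) hu' _ hh1 _ hh2 hc'
  simpa [mul_assoc] using ((Commute.conj_iff h).2 h4).symm

end Cfsg.Lib.Fischer
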