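import Cfsg.Prelude.Def_SporadicB
import Mathlib

/-!
# Conjugation inside a class of 3-transpositions
-/

set_option autoImplicit false

namespace Cfsg.Lib.Fischer

variable {G : Type*} [Group G]

/-- `a x a`: for an involution `a` this is the conjugate of `x` by `a`. -/
def cj (a x : G) : G := a * x * a

theorem cj_def (a x : G) : cj a x = a * x * a := rfl

/-- A generating class of 3-transpositions. -/
structure Trans (D : Set G) : Prop where
  set : Cfsg.IsThreeTranspositionSet D
  conj : ∀ g : G, ∀ d ∈ D, g * d * g⁻¹ ∈ D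
  trans : ∀ a ∈ D, ∀ b ∈ D, ∃ g : G, g * a * g⁻¹ = b
  gen : Subgroup.closure D = ⊤
  ne : D.Nonempty

theorem trans_of_class {D : Set G} (h : Cfsg.IsThreeTranspositionClass D) : Trans D := by
  obtain ⟨hs, ⟨d, hd, rfl⟩, hgen⟩ := h
  refine ⟨hs, fun g x hx => ?_, fun a ha b hb => ?_, hgen, ⟨d, hd⟩⟩
  · exact IsConj.trans hx (isConj_iff.2 ⟨g, rfl⟩)
  · exact isConj_iff.1 (IsConj.trans (IsConj.symm ha) hb)

variable {D : Set G} (hD : Trans D) {a b c x y : G}

include hD

theorem mul_self (ha : a ∈ D) : a * a = 1 := by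
  rw [← pow_two, ← hD.set.1 a ha, pow_orderOf_eq_one]

theorem inv_eq (ha : a ∈ D) : a⁻¹ = a := inv_eq_of_mul_eq_one_right (mul_self hD ha)

theorem ne_one (ha : a ∈ D) : a ≠ 1 := fun h => by simpa [h] using hD.set.1 a ha

theorem cj_conj (ha : a ∈ D) (x : G) : cj a x = a * x * a⁻¹ := by rw [inv_eq hD ha, cj_def]

theorem cj_mem (ha : a ∈ D) (hx : x ∈ D) : cj a x ∈ D := cj_conj hD ha x ▸ hD.conj a x hx

theorem cj_cj (ha : a ∈ D) (x : G) : cj a (cj a x) = x := by
  calc cj a (cj a x) = (a * a) * x * (a * a) := by simp only [cj_def, mul_assoc]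
    _ = x := by rw [mul_self hD ha, one_mul, mul_one]

theorem cj_inj (ha : a ∈ D) {x y : G} : cj a x = cj a y ↔ x = y :=
  ⟨fun h => by rw [← cj_cj hD ha x, h, cj_cj hD ha], fun h => by rw [h]⟩

theorem cj_self (ha : a ∈ D) : cj a a = a := by rw [cj_def, mul_self hD ha, one_mul]

theorem cj_eq_self (ha : a ∈ D) : cj a x = x ↔ Commute a x := by
  rw [cj_conj hD ha, mul_inv_eq_iff_eq_mul]; rfl

theorem cj_of_commute (ha : a ∈ D) (h : Commute a x) : cj a x = x := (cj_eq_self hD ha).2 h

/-- Conjugation distributes over conjugation. -/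
theorem cj_cj_dist (ha : a ∈ D) (b x : G) : cj a (cj b x) = cj (cj a b) (cj a x) := by
  calc cj a (cj b x) = a * b * 1 * x * 1 * b * a := by simp only [cj_def, mul_assoc, one_mul]
    _ = a * b * (a * a) * x * (a * a) * b * a := by rw [mul_self hD ha]
    _ = cj (cj a b) (cj a x) := by simp only [cj_def, mul_assoc]

theorem commute_cj (ha : a ∈ D) : Commute (cj a x) (cj a y) ↔ Commute x y := by
  rw [cj_conj hD ha, cj_conj hD ha]; exact Commute.conj_iff a

theorem commute_cj_left (ha : a ∈ D) : Commute (cj a x) y ↔ Commute x (cj a y) := by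
  conv_lhs => rw [← cj_cj hD ha y]
  exact commute_cj hD ha

/-- A member commuting with a member commutes with each of its conjugates exactly when with the member. -/
theorem commute_cj_of (ha : a ∈ D) (h : Commute a x) : Commute x (cj a y) ↔ Commute x y := by
  conv_lhs => rw [← cj_of_commute hD ha h]
  exact commute_cj hD ha

theorem braid (ha : a ∈ D) (hb : b ∈ D) (h : ¬ Commute a b) : cj a b = cj b a := by
  have hp : (a * b) ^ 3 = 1 := (hD.set.2 a ha b hb).resolve_left fun h2 => h (by
    rw [pow_two, ← eq_inv_iff_mul_eq_one, mul_inv_rev, inv_eq hD ha, inv_eq hD hb] at h2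
    exact h2)
  have h3 : (a * b * a) * (b * a * b) = 1 := by
    rw [pow_succ, pow_two] at hp
    simpa [mul_assoc] using hp
  rw [cj_def, cj_def, eq_inv_iff_mul_eq_one.2 h3]
  simp [mul_inv_rev, inv_eq hD ha, inv_eq hD hb, mul_assoc]

theorem not_commute_cj (ha : a ∈ D) (h : ¬ Commute a b) : ¬ Commute a (cj a b) := fun h' =>
  h ((commute_cj_of hD ha (Commute.refl a)).1 h')

theorem not_commute_cj' (ha : a ∈ D) (hb : b ∈ D) (h : ¬ Commute a b) : ¬ Commute b (cj a b) := by
  rw [braid hD ha hb h]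
  exact not_commute_cj hD hb fun h' => h h'.symm

/-- A property of members invariant under conjugation by members is invariant under the group. -/
theorem invariant {p : G → Prop} (h : ∀ d ∈ D, ∀ x ∈ D, p x → p (cj d x)) (g : G) :
    ∀ x ∈ D, (p x ↔ p (g * x * g⁻¹)) := by
  have hg : g ∈ Subgroup.closure D := hD.gen ▸ Subgroup.mem_top g
  induction hg using Subgroup.closure_induction with
  | mem d hd =>
    intro x hx
    rw [← cj_conj hD hd]
    exact ⟨h d hd x hx, fun h' => cj_cj hD hd x ▸ h d hd _ (cj_mem hD hd hx) h'⟩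
  | one => intro x _; simp
  | mul u v _ _ ihu ihv =>
    intro x hx
    rw [ihv x hx, ihu _ (hD.conj v x hx)]
    simp [mul_assoc]
  | inv u _ ihu =>
    intro x hx
    have := ihu _ (hD.conj u⁻¹ x hx)
    simp [mul_assoc] at this
    simp [mul_assoc, this]

/-- A nonempty set of members closed under non-commuting is everything. -/
theorem closed_eq {p : G → Prop} (ha : a ∈ D) (hpa : p a)
    (h : ∀ x ∈ D, ∀ y ∈ D, p x → ¬ Commute x y → p y) : ∀ x ∈ D, p x := by
  have hinv : ∀ d ∈ D, ∀ x ∈ D, p x → p (cj d x) := by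
    intro d hd x hx hp
    by_cases hc : Commute d x
    · rwa [cj_of_commute hD hd hc]
    · exact h x hx _ (cj_mem hD hd hx) hp (not_commute_cj' hD hd hx hc)
  intro x hx
  obtain ⟨g, rfl⟩ := hD.trans a ha x hx
  exact (invariant hD hinv g a ha).1 hpa

end Cfsg.Lib.Fischer
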