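import Cfsg.Agent.Lib.Fischer.Basic
import Cfsg.Agent.Lib.Kazarin.Radical
import Cfsg.Agent.S0144

/-!
# With trivial solvable radical there are no blocks centralizing another block
-/

set_option autoImplicit false

namespace Cfsg.Lib.Fischer

variable {G : Type*} [Group G]

/-- An invariant equivalence on `D` for which `a b` fixes every class whenever `a`, `b` are equivalent. -/
structure Blocks (D : Set G) (R : G → G → Prop) : Prop where
  refl : ∀ a ∈ D, R a a
  symm : ∀ a ∈ D, ∀ b ∈ D, R a b → R b a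
  trans : ∀ a ∈ D, ∀ b ∈ D, ∀ c ∈ D, R a b → R b c → R a c
  inv : ∀ g : G, ∀ a ∈ D, ∀ b ∈ D, R a b → R (g * a * g⁻¹) (g * b * g⁻¹)
  kern : ∀ a ∈ D, ∀ b ∈ D, R a b → ∀ e ∈ D, R e (cj a (cj b e))

variable [Finite G] {D : Set G}

theorem isSolvable_of_sq_or_cube {T : Subgroup G} (h : ∀ t ∈ T, t ^ 2 = 1 ∨ t ^ 3 = 1) :
    Group.IsSolvable T := by
  classical
  obtain ⟨u, v, huv⟩ : ∃ u v, Nat.card T = 2 ^ u * 3 ^ v := by
    refine ⟨(Nat.card T).factorization 2, (Nat.card T).factorization 3, ?_⟩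
    have hne : Nat.card T ≠ 0 := Nat.card_pos.ne'
    have hsub : (Nat.card T).factorization.support ⊆ {2, 3} := by
      intro p hp
      rw [Nat.support_factorization, Nat.mem_primeFactors] at hp
      haveI : Fact p.Prime := ⟨hp.1⟩
      obtain ⟨x, hx⟩ := exists_prime_orderOf_dvd_card' p hp.2.1
      have hx' : orderOf x ∣ 2 ∨ orderOf x ∣ 3 := by
        rcases h x x.2 with e | e
        · exact Or.inl (orderOf_dvd_of_pow_eq_one (Subtype.ext e))
        · exact Or.inr (orderOf_dvd_of_pow_eq_one (Subtype.ext e))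
      rw [hx] at hx'
      rcases hx' with e | e
      · simp [(Nat.prime_dvd_prime_iff_eq hp.1 Nat.prime_two).1 e]
      · simp [(Nat.prime_dvd_prime_iff_eq hp.1 Nat.prime_three).1 e]
    conv_lhs => rw [← Nat.prod_factorization_pow_eq_self hne]
    rw [Finsupp.prod_of_support_subset _ hsub _ (fun p _ => pow_zero p), Finset.prod_pair (by decide)]
  exact Cfsg.Agent.S0144.result 2 3 u v Nat.prime_two Nat.prime_three huv

theorem eq_bot_of_isSolvable (hsol : ∀ N : Subgroup G, N.Normal → Group.IsSolvable ↥N → N = ⊥)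
    {S T : Subgroup G} (hS : S.Normal) (hTS : T ≤ S) (hn : ∀ s ∈ S, ∀ t ∈ T, s * t * s⁻¹ ∈ T)
    (hT : Group.IsSolvable T) : T = ⊥ := by
  haveI := hS
  obtain ⟨N, hN, hNs, hle⟩ := Lib.Kazarin.exists_solvable_normal_over S (T.subgroupOf S)
    ⟨fun t ht s => hn s s.2 t ht⟩
    (Group.isSolvable_of_surjective (f := (Subgroup.subgroupOfEquivOfLe hTS).symm.toMonoidHom)
      (Subgroup.subgroupOfEquivOfLe hTS).symm.surjective)
  rw [Subgroup.map_subgroupOf_eq_of_le hTS, hsol N hN hNs] at hle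
  exact le_bot_iff.1 hle

/-- A minimal normal subgroup is simple. -/
theorem eq_of_normalized (hD : Trans D) (hsol : ∀ N : Subgroup G, N.Normal → Group.IsSolvable ↥N → N = ⊥)
    {S : Subgroup G} (hS : S.Normal) (hmin : ∀ N : Subgroup G, N.Normal → N ≤ S → N ≠ ⊥ → S ≤ N)
    {U : Subgroup G} (hUS : U ≤ S) (hU : ∀ s ∈ S, ∀ t ∈ U, s * t * s⁻¹ ∈ U) (hne : U ≠ ⊥) : U = S := by
  classical
  obtain ⟨T, ⟨hTU, hT0, hTn⟩, hTmin⟩ := Set.Finite.exists_minimal
    (s := {T : Subgroup G | T ≤ U ∧ T ≠ ⊥ ∧ ∀ s ∈ S, ∀ t ∈ T, s * t * s⁻¹ ∈ T}) (Set.toFinite _)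
    ⟨U, le_rfl, hne, hU⟩
  refine le_antisymm hUS ((hmin T ?_ (hTU.trans hUS) hT0).trans hTU)
  have hfix : ∀ d ∈ D, ∀ t ∈ T, d * t * d⁻¹ ∈ T := by
    intro d hd
    by_contra hcon
    let W : Subgroup G := T ⊓ T.map (MulAut.conj d).toMonoidHom
    have hT'n : ∀ s ∈ S, ∀ t ∈ T.map (MulAut.conj d).toMonoidHom, s * t * s⁻¹ ∈ T.map (MulAut.conj d).toMonoidHom := by
      rintro s hs _ ⟨t, ht, rfl⟩
      have hs' : d⁻¹ * s * d ∈ S := by simpa using hS.conj_mem s hs d⁻¹
      refine ⟨_, hTn _ hs' t ht, ?_⟩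
      simp [mul_assoc]
    have hW : W = ⊥ := by
      by_contra hW
      have hle : T ≤ W := hTmin (y := W) ⟨inf_le_left.trans hTU, hW, fun s hs t ht =>
        ⟨hTn s hs t ht.1, hT'n s hs t ht.2⟩⟩ inf_le_left
      apply hcon
      intro t ht
      obtain ⟨u, hu, e⟩ := (hle.trans inf_le_right) ht
      have e' : d * u * d⁻¹ = t := e
      rw [← e', inv_eq hD hd]
      have e2 : d * (d * u * d) * d = u := by
        calc d * (d * u * d) * d = (d * d) * u * (d * d) := by simp only [mul_assoc]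
          _ = u := by rw [mul_self hD hd, one_mul, mul_one]
      rw [e2]
      exact hu
    have hord : ∀ t ∈ T, t ^ 2 = 1 ∨ t ^ 3 = 1 := by
      intro t ht
      have ht' : d * t * d⁻¹ ∈ T.map (MulAut.conj d).toMonoidHom := ⟨t, ht, rfl⟩
      have htS : d * t * d⁻¹ ∈ S := hS.conj_mem t (hUS (hTU ht)) d
      have hcom : Commute (d * t * d⁻¹) t⁻¹ := by
        have h1 : d * t * d⁻¹ * t⁻¹ * (d * t * d⁻¹)⁻¹ * (t⁻¹)⁻¹ ∈ W := by
          refine Subgroup.mem_inf.2 ⟨?_, ?_⟩
          · exact mul_mem (hTn _ htS _ (inv_mem ht)) (inv_mem (inv_mem ht))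
          · have h2 := hT'n _ (inv_mem (hUS (hTU ht))) _ (inv_mem ht')
            have := mul_mem ht' h2
            simpa [mul_assoc] using this
        rw [hW, Subgroup.mem_bot, mul_inv_eq_one, mul_inv_eq_iff_eq_mul] at h1
        exact h1
      have hw : ∀ k, (d * (t * d * t⁻¹)) ^ k = 1 → t ^ k = 1 := by
        intro k hk
        have e : d * (t * d * t⁻¹) = d * t * d⁻¹ * t⁻¹ := by rw [inv_eq hD hd]; simp only [mul_assoc]
        rw [e, hcom.mul_pow, inv_pow, mul_inv_eq_one] at hk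
        have hmem : t ^ k ∈ W := ⟨pow_mem ht k, hk ▸ pow_mem ht' k⟩
        rwa [hW, Subgroup.mem_bot] at hmem
      exact (hD.set.2 d hd _ (hD.conj t d hd)).imp (hw 2) (hw 3)
    exact hT0 (eq_bot_of_isSolvable hsol hS (hTU.trans hUS) hTn (isSolvable_of_sq_or_cube hord))
  refine ⟨fun t ht g => ?_⟩
  have hg : g ∈ Subgroup.closure D := hD.gen ▸ Subgroup.mem_top g
  induction hg using Subgroup.closure_induction'' generalizing t with
  | mem d hd => exact hfix d hd t ht
  | inv_mem d hd => rw [inv_eq hD hd]; exact hfix d hd t ht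
  | one => simpa using ht
  | mul u v _ _ ihu ihv => simpa [mul_assoc] using ihu _ (ihv t ht)

/-- If the classes of two members commute elementwise then all classes are singletons. -/
theorem Blocks.eq_of_rel {R : G → G → Prop} (hR : Blocks D R) (hD : Trans D)
    (hsol : ∀ N : Subgroup G, N.Normal → Group.IsSolvable ↥N → N = ⊥) {a₀ n₀ : G} (ha₀ : a₀ ∈ D)
    (hn₀ : n₀ ∈ D) (hc : ∀ a ∈ D, ∀ b ∈ D, R a₀ a → R n₀ b → Commute a b) {a b : G} (ha : a ∈ D)
    (hb : b ∈ D) (hab : R a b) : a = b := by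
  classical
  by_contra hne
  let K : Subgroup G :=
    { carrier := {g | ∀ e ∈ D, R e (g * e * g⁻¹)}
      one_mem' := fun e he => by simpa using hR.refl e he
      mul_mem' := fun {g h} hg hh e he => by
        have h1 := hh e he
        have h2 := hg _ (hD.conj h e he)
        simpa [mul_assoc] using hR.trans _ he _ (hD.conj h e he) _ (hD.conj g _ (hD.conj h e he)) h1 h2
      inv_mem' := fun {g} hg e he => by
        have h1 := hg _ (hD.conj g⁻¹ e he)
        simp [mul_assoc] at h1 ⊢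
        exact hR.symm _ (by simpa [mul_assoc] using hD.conj g⁻¹ e he) _ he h1 }
  have hK : ∀ g ∈ K, ∀ e ∈ D, R e (g * e * g⁻¹) := fun g hg => hg
  have hKn : K.Normal := ⟨fun k hk g e he => by
    have h1 := hR.inv g _ (hD.conj g⁻¹ e he) _ (hD.conj k _ (hD.conj g⁻¹ e he)) (hk _ (hD.conj g⁻¹ e he))
    simpa [mul_assoc] using h1⟩
  have habK : a * b ∈ K := fun e he => by
    have h1 := hR.kern a ha b hb hab e he
    simpa [cj_def, mul_assoc, _root_.mul_inv_rev, inv_eq hD ha, inv_eq hD hb] using h1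
  obtain ⟨S, ⟨hSn, hSK, hS0⟩, hSmin⟩ := Set.Finite.exists_minimal
    (s := {S : Subgroup G | S.Normal ∧ S ≤ K ∧ S ≠ ⊥}) (Set.toFinite _)
    ⟨K, hKn, le_rfl, fun h => hne (by
      rw [h, Subgroup.mem_bot] at habK
      rw [eq_inv_of_mul_eq_one_left habK, inv_eq hD hb])⟩
  have hmin : ∀ N : Subgroup G, N.Normal → N ≤ S → N ≠ ⊥ → S ≤ N :=
    fun N hN hle h0 => hSmin (y := N) ⟨hN, hle.trans hSK, h0⟩ hle
  let L : G → Subgroup G := fun m => Subgroup.closure {z | ∃ a ∈ D, ∃ b ∈ D, R m a ∧ R m b ∧ z = a * b}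
  have hSL : ∀ m ∈ D, S ≤ L m := by
    intro m hm
    have hnorm : ∀ k ∈ K, ∀ z ∈ L m, k * z * k⁻¹ ∈ L m := by
      intro k hk z hz
      induction hz using Subgroup.closure_induction with
      | mem z hz =>
        obtain ⟨u, hu, v, hv, hmu, hmv, rfl⟩ := hz
        exact Subgroup.subset_closure ⟨_, hD.conj k u hu, _, hD.conj k v hv,
          hR.trans _ hm _ hu _ (hD.conj k u hu) hmu (hK k hk u hu),
          hR.trans _ hm _ hv _ (hD.conj k v hv) hmv (hK k hk v hv), by simp [mul_assoc]⟩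
      | one => simp
      | mul u v _ _ hu hv => simpa [mul_assoc] using mul_mem hu hv
      | inv u _ hu => simpa [mul_assoc] using inv_mem hu
    have hJ : ∀ s ∈ S, ∀ t ∈ L m ⊓ S, s * t * s⁻¹ ∈ L m ⊓ S := fun s hs t ht =>
      Subgroup.mem_inf.2 ⟨hnorm s (hSK hs) t ht.1, mul_mem (mul_mem hs (Subgroup.mem_inf.1 ht).2) (inv_mem hs)⟩
    by_cases h0 : L m ⊓ S = ⊥
    · exfalso
      have hcm : ∀ s ∈ S, Commute m s := by
        intro s hs
        have h1 : m * (s * m * s⁻¹) ∈ L m ⊓ S := by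
          refine Subgroup.mem_inf.2 ⟨Subgroup.subset_closure ⟨m, hm, _, hD.conj s m hm, hR.refl m hm, hK s (hSK hs) m hm, rfl⟩, ?_⟩
          rw [show m * (s * m * s⁻¹) = m * s * m⁻¹ * s⁻¹ by rw [inv_eq hD hm]; simp only [mul_assoc]]
          exact mul_mem (hSn.conj_mem s hs m) (inv_mem hs)
        rw [h0, Subgroup.mem_bot] at h1
        have h2 : s * m * s⁻¹ = m := by rw [eq_inv_of_mul_eq_one_right h1, inv_eq hD hm]
        exact ((mul_inv_eq_iff_eq_mul).1 h2).symm
      have hcen : S ≤ Subgroup.center G := by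
        intro s hs
        rw [Subgroup.mem_center_iff]
        intro g
        have hg : g ∈ Subgroup.centralizer {s} := by
          have : Subgroup.closure D ≤ Subgroup.centralizer {s} := by
            rw [Subgroup.closure_le]
            intro d hd
            obtain ⟨h, rfl⟩ := hD.trans m hm d hd
            rw [SetLike.mem_coe, Subgroup.mem_centralizer_singleton_iff]
            have h2 := (Commute.conj_iff h).2 (hcm _ (by simpa using hSn.conj_mem s hs h⁻¹))
            simpa [mul_assoc] using h2.eq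
          exact this (hD.gen ▸ Subgroup.mem_top g)
        exact Subgroup.mem_centralizer_singleton_iff.1 hg
      exact hS0 (hsol S hSn (Group.isSolvable_of_comm fun x y =>
        Subtype.ext ((Subgroup.mem_center_iff.1 (hcen y.2)) x)))
    · rw [← eq_of_normalized hD hsol hSn hmin inf_le_right hJ h0]
      exact inf_le_left
  have hLc : L a₀ ≤ Subgroup.centralizer (L n₀ : Set G) := by
    rw [Subgroup.le_centralizer_iff, Subgroup.closure_le]
    rintro _ ⟨u, hu, v, hv, hnu, hnv, rfl⟩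
    rw [SetLike.mem_coe, Subgroup.mem_centralizer_iff]
    intro z hz
    induction hz using Subgroup.closure_induction with
    | mem z hz =>
      obtain ⟨u', hu', v', hv', hu'', hv'', rfl⟩ := hz
      exact (((hc u' hu' u hu hu'' hnu).mul_left (hc v' hv' u hu hv'' hnu)).mul_right
        ((hc u' hu' v hv hu'' hnv).mul_left (hc v' hv' v hv hv'' hnv))).eq
    | one => simp
    | mul x y _ _ hx hy => exact (Commute.mul_left hx hy).eq
    | inv x _ hx => exact (Commute.inv_left hx).eq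
  exact hS0 (hsol S hSn (Group.isSolvable_of_comm fun x y => Subtype.ext
    (Subgroup.mem_centralizer_iff.1 (hLc (hSL a₀ ha₀ x.2)) y (hSL n₀ hn₀ y.2)).symm))

end Cfsg.Lib.Fischer
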