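import Cfsg.Agent.Lib.Fischer.Module
import Cfsg.Agent.Lib.Core.Cores
import Cfsg.Prelude.Def_FischerSpaces

/-!
# The two equivalences on a class of 3-transpositions and the cores at two and three
-/

set_option autoImplicit false
set_option linter.style.haveILetI false

namespace Cfsg.Lib.Fischer

open Cfsg

variable {G : Type*} [Group G] {D : Set G}

/-- Two distinct non-commuting members are conjugate by the third member of their line. -/
theorem cj_third (hD : Trans D) {a b : G} (ha : a ∈ D) (hb : b ∈ D) (h : ¬ Commute a b) :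
    cj (cj a b) a = b := by
  have := cj_cj_dist hD ha b a
  rw [cj_self hD ha, ← braid hD ha hb h, cj_cj hD ha] at this
  exact this.symm

/-- Without commuting pairs the group is a 3-group extended by one member. -/
theorem exists_three_normal [Finite G] (hD : Trans D) (h : ∀ a ∈ D, ∀ b ∈ D, Commute a b → a = b)
    {a : G} (ha : a ∈ D) :
    ∃ P : Sylow 3 G, (P : Subgroup G).Normal ∧ Subgroup.zpowers a ⊔ (P : Subgroup G) = ⊤ := by
  have hz := isolated_of_noncommuting hD h ha
  set C := Subgroup.centralizer ({a} : Set G) with hC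
  have hidx : ∀ p : ℕ, p.Prime → p ∣ C.index → p = 3 := by
    intro p hp hdvd
    by_contra hp3
    haveI : Fact p.Prime := ⟨hp⟩
    obtain ⟨P, hP⟩ := Lib.Invol.exists_invariant_sylow hz p
    exact P.not_dvd_index (hdvd.trans (Subgroup.index_dvd_of_le (sylow_le_centralizer hD h ha p hp3 hP)))
  haveI : Fact (Nat.Prime 3) := ⟨Nat.prime_three⟩
  obtain ⟨P, hP⟩ := Lib.Invol.exists_invariant_sylow hz 3
  have hPC : (P : Subgroup G) ⊔ Subgroup.zpowers a ≤ Subgroup.normalizer ((P : Subgroup G) : Set G) :=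
    sup_le Subgroup.le_normalizer (Subgroup.zpowers_le.2 hP)
  have hdvd : C.index ∣ C.relIndex (P : Subgroup G) := by
    refine Nat.Coprime.dvd_of_dvd_mul_right (n := (P : Subgroup G).index) ?_ ?_
    · refine Nat.coprime_of_dvd fun p hp h1 h2 => ?_
      obtain rfl := hidx p hp h1
      exact P.not_dvd_index h2
    · rw [← Subgroup.inf_relIndex_right, Subgroup.relIndex_mul_index inf_le_right]
      exact Subgroup.index_dvd_of_le inf_le_left
  have hM : (P : Subgroup G) ⊔ Subgroup.zpowers a = ⊤ := by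
    classical
    let f : (P : Subgroup G) ⧸ C.subgroupOf P → G ⧸ C :=
      Quotient.map' (fun x => (x : G)) fun x y hxy => by
        rw [QuotientGroup.leftRel_apply] at hxy ⊢
        simpa [Subgroup.mem_subgroupOf] using hxy
    have hf : Function.Injective f := by
      intro u v
      induction u using QuotientGroup.induction_on with | _ u => ?_
      induction v using QuotientGroup.induction_on with | _ v => ?_
      intro huv
      have huv' : (QuotientGroup.mk (u : G) : G ⧸ C) = QuotientGroup.mk (v : G) := huv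
      rw [QuotientGroup.eq] at huv' ⊢
      simpa [Subgroup.mem_subgroupOf] using huv'
    have hbij : Function.Bijective f := hf.bijective_of_nat_card_le (Nat.le_of_dvd Nat.card_pos hdvd)
    rw [eq_top_iff, ← hD.gen, Subgroup.closure_le]
    intro b hb
    obtain ⟨g, rfl⟩ := hD.trans a ha b hb
    obtain ⟨u, hu⟩ := hbij.2 (QuotientGroup.mk g)
    induction u using QuotientGroup.induction_on with | _ u => ?_
    have hu' : (QuotientGroup.mk (u : G) : G ⧸ C) = QuotientGroup.mk g := hu
    rw [QuotientGroup.eq, hC, Subgroup.mem_centralizer_singleton_iff] at hu'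
    have e : g * a * g⁻¹ = (u : G) * a * (u : G)⁻¹ := by
      calc g * a * g⁻¹ = (u : G) * ((u : G)⁻¹ * g * a) * g⁻¹ := by group
        _ = (u : G) * (a * ((u : G)⁻¹ * g)) * g⁻¹ := by rw [hu']
        _ = _ := by group
    rw [e]
    exact mul_mem (mul_mem (Subgroup.mem_sup_left u.2) (Subgroup.mem_sup_right (Subgroup.mem_zpowers a)))
      (inv_mem (Subgroup.mem_sup_left u.2))
  refine ⟨P, ?_, by rw [sup_comm]; exact hM⟩
  rw [← Subgroup.normalizer_eq_top_iff, eq_top_iff, ← hM]
  exact hPC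

/-- In that situation all products of two members lie in the normal 3-subgroup. -/
theorem mul_mem_three [Finite G] (hD : Trans D) {P : Subgroup G} (hP : P.Normal) {a b : G} (ha : a ∈ D)
    (hb : b ∈ D) (hsup : Subgroup.zpowers a ⊔ P = ⊤) : a * b ∈ P := by
  haveI := hP
  obtain ⟨g, rfl⟩ := hD.trans a ha b hb
  obtain ⟨w, hw, x, hx, rfl⟩ :=
    Subgroup.mem_sup_of_normal_right.1 (hsup.symm ▸ Subgroup.mem_top g : g ∈ Subgroup.zpowers a ⊔ P)
  obtain ⟨k, rfl⟩ := Subgroup.mem_zpowers_iff.1 hw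
  have hk : a ^ k * a = a * a ^ k := (Commute.self_zpow a k).symm
  have e : a * (a ^ k * x * a * (a ^ k * x)⁻¹) = a ^ k * ((a * x * a⁻¹) * x⁻¹) * (a ^ k)⁻¹ := by
    rw [inv_eq hD ha]
    calc a * (a ^ k * x * a * (a ^ k * x)⁻¹) = (a * a ^ k) * x * a * x⁻¹ * (a ^ k)⁻¹ := by group
      _ = (a ^ k * a) * x * a * x⁻¹ * (a ^ k)⁻¹ := by rw [hk]
      _ = _ := by simp only [mul_assoc]
  rw [e]
  exact hP.conj_mem _ (mul_mem (hP.conj_mem x hx a) (inv_mem hx)) _

/-- A subset closed under conjugation by its members with no commuting pair spans a 3-group up to one member. -/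
theorem exists_three_of_subset [Finite G] (hD : Trans D) {S : Set G} (hS : S ⊆ D)
    (hcl : ∀ u ∈ S, ∀ v ∈ S, cj u v ∈ S) (hnc : ∀ u ∈ S, ∀ v ∈ S, Commute u v → u = v) {a : G}
    (ha : a ∈ S) :
    ∃ P : Subgroup G, IsPGroup 3 P ∧ (∀ b ∈ S, a * b ∈ P) ∧
      ∀ g ∈ Subgroup.closure S, ∀ x ∈ P, g * x * g⁻¹ ∈ P := by
  let H := Subgroup.closure S
  have hSH : ∀ u ∈ S, u ∈ H := fun u hu => Subgroup.subset_closure hu
  have hconj : ∀ g ∈ H, ∀ v ∈ S, g * v * g⁻¹ ∈ S := by
    intro g hg
    induction hg using Subgroup.closure_induction'' with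
    | mem u hu => intro v hv; rw [← cj_conj hD (hS hu)]; exact hcl u hu v hv
    | inv_mem u hu => intro v hv; rw [inv_eq hD (hS hu), ← cj_conj hD (hS hu)]; exact hcl u hu v hv
    | one => intro v hv; simpa using hv
    | mul x y _ _ hx hy => intro v hv; simpa [mul_assoc] using hx _ (hy v hv)
  have hT : Trans {x : H | (x : G) ∈ S} :=
    { set := ⟨fun d hd => by rw [← Subgroup.orderOf_coe]; exact hD.set.1 _ (hS hd),
        fun d hd e he => (hD.set.2 _ (hS hd) _ (hS he)).imp (fun h => Subtype.ext (by simpa using h))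
          fun h => Subtype.ext (by simpa using h)⟩
      conj := fun g d hd => hconj g g.2 d hd
      trans := fun u hu v hv => by
        by_cases hc : Commute (u : G) v
        · exact ⟨1, Subtype.ext (by simpa using hnc u hu v hv hc)⟩
        · refine ⟨⟨cj (u : G) v, hSH _ (hcl u hu v hv)⟩, Subtype.ext ?_⟩
          show cj (u : G) v * u * (cj (u : G) v)⁻¹ = v
          rw [← cj_conj hD (hS (hcl u hu v hv))]
          exact cj_third hD (hS hu) (hS hv) hc
      gen := by
        rw [eq_top_iff]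
        rintro ⟨x, hx⟩ -
        have hx' := hx
        induction hx' using Subgroup.closure_induction with
        | mem y hy => exact Subgroup.subset_closure (show (⟨y, hx⟩ : H) ∈ {x : H | (x : G) ∈ S} from hy)
        | one => exact one_mem _
        | mul y z hy hz ihy ihz => exact mul_mem (ihy hy) (ihz hz)
        | inv y hy ih => exact inv_mem (ih hy)
      ne := ⟨⟨a, hSH a ha⟩, ha⟩ }
  haveI : Fact (Nat.Prime 3) := ⟨Nat.prime_three⟩
  obtain ⟨P, hPn, hsup⟩ := exists_three_normal hT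
    (fun u hu v hv h => Subtype.ext (hnc u hu v hv (congrArg Subtype.val h.eq)))
    (a := ⟨a, hSH a ha⟩) ha
  refine ⟨(P : Subgroup H).map H.subtype, P.2.map _, fun b hb => ?_, fun g hg x hx => ?_⟩
  · exact ⟨_, mul_mem_three hT hPn (a := ⟨a, hSH a ha⟩) (b := ⟨b, hSH b hb⟩) ha hb hsup, rfl⟩
  · obtain ⟨y, hy, rfl⟩ := hx
    exact ⟨_, hPn.conj_mem y hy ⟨g, hg⟩, rfl⟩

/-- Equivalent members differ by the `p`-core when each class spans a `p`-group. -/
theorem Blocks.mem_pCore [Finite G] {R : G → G → Prop} (hR : Blocks D R) (hD : Trans D) {p : ℕ}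
    (hp : ∀ m ∈ D, IsPGroup p (Subgroup.closure {z | ∃ a ∈ D, ∃ b ∈ D, R m a ∧ R m b ∧ z = a * b}))
    {a b : G} (ha : a ∈ D) (hb : b ∈ D) (hab : R a b) : a * b ∈ pCore p G := by
  let K : Subgroup G :=
    { carrier := {g | ∀ e ∈ D, R e (g * e * g⁻¹)}
      one_mem' := fun e he => by simpa using hR.refl e he
      mul_mem' := fun {g h} hg hh e he => by
        have h1 := hh e he
        have h2 := hg _ (hD.conj h e he)
        simpa [mul_assoc] using hR.trans _ he _ (hD.conj h e he) _ (hD.conj g _ (hD.conj h e he)) h1 h2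
      inv_mem' := fun {g} hg e he => by
        have h1 := hg _ (hD.conj g⁻¹ e he)
        simp [mul_assoc] at h1 ⊢
        exact hR.symm _ (by simpa [mul_assoc] using hD.conj g⁻¹ e he) _ he h1 }
  have hK : ∀ g ∈ K, ∀ e ∈ D, R e (g * e * g⁻¹) := fun g hg => hg
  haveI hKn : K.Normal := ⟨fun k hk g e he => by
    have h1 := hR.inv g _ (hD.conj g⁻¹ e he) _ (hD.conj k _ (hD.conj g⁻¹ e he)) (hk _ (hD.conj g⁻¹ e he))
    simpa [mul_assoc] using h1⟩
  have hmem : ∀ u ∈ D, ∀ v ∈ D, R u v → u * v ∈ K := fun u hu v hv huv e he => by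
    have h1 := hR.kern u hu v hv huv e he
    simpa [cj_def, mul_assoc, _root_.mul_inv_rev, inv_eq hD hu, inv_eq hD hv] using h1
  let M := Subgroup.closure {z | ∃ u ∈ D, ∃ v ∈ D, R a u ∧ R a v ∧ z = u * v}
  have hMK : M ≤ K := by
    refine (Subgroup.closure_le _).2 ?_
    rintro _ ⟨u, hu, v, hv, hau, hav, rfl⟩
    exact hmem u hu v hv (hR.trans _ hu _ ha _ hv (hR.symm _ ha _ hu hau) hav)
  have hMn : (M.subgroupOf K).Normal := by
    refine (Subgroup.normal_subgroupOf_iff_le_normalizer hMK).2 fun k hk => ?_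
    refine Subgroup.mem_normalizer_fintype fun z hz => ?_
    induction hz using Subgroup.closure_induction with
    | mem z hz =>
      obtain ⟨u, hu, v, hv, hau, hav, rfl⟩ := hz
      exact Subgroup.subset_closure ⟨_, hD.conj k u hu, _, hD.conj k v hv,
        hR.trans _ ha _ hu _ (hD.conj k u hu) hau (hK k hk u hu),
        hR.trans _ ha _ hv _ (hD.conj k v hv) hav (hK k hk v hv), by simp [mul_assoc]⟩
    | one => simp
    | mul u v _ _ hu hv => simpa [mul_assoc] using mul_mem hu hv
    | inv u _ hu => simpa [mul_assoc] using inv_mem hu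
  have h1 : M.subgroupOf K ≤ pCore p K :=
    Lib.Core.le_pCore' hMn ((hp a ha).of_equiv (Subgroup.subgroupOfEquivOfLe hMK).symm)
  have h2 : (pCore p K).map K.subtype ≤ pCore p G :=
    Lib.Core.le_pCore' inferInstance ((Lib.Core.pCore_isPGroup p K).map _)
  have habM : a * b ∈ M := Subgroup.subset_closure ⟨a, ha, b, hb, hR.refl a ha, hab, rfl⟩
  exact h2 ⟨⟨a * b, hMK habM⟩, h1 habM, rfl⟩

/-- The relation of having the same commuting members. -/
def SameComm (D : Set G) (a b : G) : Prop := ∀ e ∈ D, Commute a e ↔ Commute b e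

theorem blocks_sameComm (hD : Trans D) : Blocks D (SameComm D) := by
  refine blocks_of_uniform hD (fun _ _ _ _ => Iff.rfl) (fun _ _ _ _ h e he => (h e he).symm)
    (fun _ _ _ _ _ _ h h' e he => (h e he).trans (h' e he)) (fun g u _ v _ h e he => ?_)
    (fun u _ v _ h e he _ hc => (h e he).1 hc)
  have e1 : e = g * (g⁻¹ * e * g) * g⁻¹ := by group
  rw [e1, Commute.conj_iff g, Commute.conj_iff g]
  exact h _ (by simpa using hD.conj g⁻¹ e he)

theorem mem_perp_conj (hD : Trans D) (g x z : G) :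
    z ∈ perp D (g * x * g⁻¹) ↔ g⁻¹ * z * g ∈ perp D x := by
  refine ⟨fun ⟨h1, h2, h3⟩ => ⟨by simpa using hD.conj g⁻¹ z h1, fun h => h2 (by rw [← h]; group), ?_⟩,
    fun ⟨h1, h2, h3⟩ => ⟨?_, fun h => h2 (by rw [h]; group), ?_⟩⟩
  · simpa [mul_assoc] using (Commute.conj_iff g⁻¹).2 h3
  · simpa [mul_assoc] using hD.conj g _ h1
  · simpa [mul_assoc] using (Commute.conj_iff g).2 h3

theorem blocks_samePerp (hD : Trans D) : Blocks D (fun u v => perp D u = perp D v) := by
  refine blocks_of_uniform hD (fun _ _ => rfl) (fun _ _ _ _ h => h.symm)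
    (fun _ _ _ _ _ _ h h' => h.trans h') (fun g u _ v _ h => ?_) (fun u _ v _ h e he hne hc => ?_)
  · ext z
    rw [mem_perp_conj hD, mem_perp_conj hD, h]
  · have he' : e ∈ perp D u := ⟨he, fun e1 => hne (by rw [e1]), hc⟩
    exact (h ▸ he' : e ∈ perp D v).2.2

theorem commute_of_sameComm {a b : G} (ha : a ∈ D) (h : SameComm D a b) : Commute a b :=
  ((h a ha).1 (Commute.refl a)).symm

theorem eq_of_samePerp_commute {a b : G} (hb : b ∈ D) (h : perp D a = perp D b) (hc : Commute a b) :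
    a = b := by
  by_contra hne
  have h1 : b ∈ perp D a := ⟨hb, Ne.symm hne, hc⟩
  exact (h ▸ h1 : b ∈ perp D b).2.1 rfl

variable [Finite G]

theorem mul_mem_two_of_sameComm (hD : Trans D) {a b : G} (ha : a ∈ D) (hb : b ∈ D) (h : SameComm D a b) :
    a * b ∈ pCore 2 G := by
  refine (blocks_sameComm hD).mem_pCore hD (fun m hm => ?_) ha hb h
  set S := {x | x ∈ D ∧ SameComm D m x}
  have hSc : ∀ u ∈ S, ∀ v ∈ S, Commute u v := fun u hu v hv =>
    commute_of_sameComm hu.1 fun e he => (hu.2 e he).symm.trans (hv.2 e he)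
  have hle : Subgroup.closure {z | ∃ u ∈ D, ∃ v ∈ D, SameComm D m u ∧ SameComm D m v ∧ z = u * v} ≤
      Subgroup.closure S := by
    refine (Subgroup.closure_le _).2 ?_
    rintro _ ⟨u, hu, v, hv, h1, h2, rfl⟩
    exact mul_mem (Subgroup.subset_closure ⟨hu, h1⟩) (Subgroup.subset_closure ⟨hv, h2⟩)
  haveI : IsMulCommutative (Subgroup.closure S) :=
    Subgroup.isMulCommutative_closure (fun u hu v hv => hSc u hu v hv)
  refine IsPGroup.to_le (fun u => ⟨1, Subtype.ext ?_⟩) hle
  rw [SubmonoidClass.coe_pow, Subgroup.coe_one, pow_one]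
  obtain ⟨u, hu⟩ := u
  show u ^ 2 = 1
  induction hu using Subgroup.closure_induction with
  | mem a ha => rw [pow_two, mul_self hD ha.1]
  | one => exact one_pow _
  | mul a b ha hb iha ihb =>
    have hcom : Commute a b := congrArg Subtype.val (mul_comm' (⟨a, ha⟩ : Subgroup.closure S) ⟨b, hb⟩)
    rw [hcom.mul_pow, iha, ihb, one_mul]
  | inv a _ iha => rw [inv_pow, iha, inv_one]

theorem mul_mem_three_of_samePerp (hD : Trans D) {a b : G} (ha : a ∈ D) (hb : b ∈ D)
    (h : perp D a = perp D b) : a * b ∈ pCore 3 G := by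
  refine (blocks_samePerp hD).mem_pCore hD (fun m hm => ?_) ha hb h
  set S := {x | x ∈ D ∧ perp D m = perp D x}
  obtain ⟨P, hP, hPm, -⟩ := exists_three_of_subset hD (S := S) (fun x hx => hx.1)
    (fun u hu v hv => ⟨cj_mem hD hu.1 hv.1, hu.2.trans (by
      have h1 := inv_cj hD (blocks_samePerp hD).inv hu.1 hu.1 hv.1 (hu.2.symm.trans hv.2)
      simpa [cj_self hD hu.1] using h1)⟩)
    (fun u hu v hv hc => eq_of_samePerp_commute hv.1 (hu.2.symm.trans hv.2) hc)
    (a := m) ⟨hm, rfl⟩
  refine hP.to_le ((Subgroup.closure_le _).2 ?_)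
  rintro _ ⟨u, hu, v, hv, h1, h2, rfl⟩
  have e : u * v = (m * u)⁻¹ * (m * v) := by
    rw [_root_.mul_inv_rev, mul_assoc, inv_mul_cancel_left, inv_eq hD hu]
  rw [e]
  exact mul_mem (inv_mem (hPm u ⟨hu, h1⟩)) (hPm v ⟨hv, h2⟩)

/-- The product of two members in a normal 2-group makes them commute. -/
theorem commute_of_mem_two (hD : Trans D) {a b : G} (ha : a ∈ D) (hb : b ∈ D) (h : a * b ∈ pCore 2 G) :
    Commute a b := by
  by_contra hn
  obtain ⟨k, hk⟩ := Lib.Core.pCore_isPGroup 2 G ⟨_, h⟩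
  have hk' : orderOf (a * b) ∣ 2 ^ k := orderOf_dvd_of_pow_eq_one (by simpa using congrArg Subtype.val hk)
  have h1 : orderOf (a * b) = 1 := Nat.eq_one_of_dvd_coprimes
    (((Nat.coprime_primes Nat.prime_two Nat.prime_three).2 (by decide)).pow_left k) hk'
    (orderOf_dvd_of_pow_eq_one (orderOf_mul hD a b ha hb hn))
  rw [orderOf_eq_one_iff] at h1
  exact hn (by rw [eq_inv_of_mul_eq_one_right h1, inv_eq hD ha])

/-- Members differing by the 3-core are equal when they commute. -/
theorem eq_of_mem_three (hD : Trans D) {a b : G} (ha : a ∈ D) (hb : b ∈ D) (h : a * b ∈ pCore 3 G)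
    (hc : Commute a b) : a = b := by
  obtain ⟨k, hk⟩ := Lib.Core.pCore_isPGroup 3 G ⟨_, h⟩
  have hk' : orderOf (a * b) ∣ 3 ^ k := orderOf_dvd_of_pow_eq_one (by simpa using congrArg Subtype.val hk)
  have h1 : orderOf (a * b) = 1 := Nat.eq_one_of_dvd_coprimes
    (((Nat.coprime_primes Nat.prime_three Nat.prime_two).2 (by decide)).pow_left k) hk'
    (orderOf_dvd_of_pow_eq_one (by rw [hc.mul_pow, pow_two, pow_two, mul_self hD ha, mul_self hD hb, one_mul]))
  rw [orderOf_eq_one_iff] at h1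
  rw [eq_inv_of_mul_eq_one_right h1, inv_eq hD ha]

omit [Finite G] in
/-- Modulo a normal subgroup, commuting and non-commuting partners of congruent members. -/
theorem mul_mem_of_mixed (hD : Trans D) (N : Subgroup G) [N.Normal] {a b e : G} (ha : a ∈ D)
    (hb : b ∈ D) (he : e ∈ D) (h : a * b ∈ N) (hc : Commute a e) (hn : ¬ Commute b e) : a * e ∈ N := by
  have h3 : (b * e) ^ 3 = 1 := (hD.set.2 b hb e he).resolve_left fun h2 => hn (by
    rw [pow_two, ← eq_inv_iff_mul_eq_one, _root_.mul_inv_rev, inv_eq hD hb, inv_eq hD he] at h2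
    exact h2)
  have h2 : (a * e) ^ 2 = 1 := by rw [hc.mul_pow, pow_two, pow_two, mul_self hD ha, mul_self hD he, one_mul]
  rw [← QuotientGroup.eq_one_iff (N := N)]
  have hab : ((a : G) : G ⧸ N) = (b : G ⧸ N) := by
    rw [QuotientGroup.eq, inv_eq hD ha]
    exact h
  have e3 : ((a * e : G) : G ⧸ N) ^ 3 = 1 := by
    rw [QuotientGroup.mk_mul, hab, ← QuotientGroup.mk_mul, ← QuotientGroup.mk_pow, h3, QuotientGroup.mk_one]
  have e2 : ((a * e : G) : G ⧸ N) ^ 2 = 1 := by rw [← QuotientGroup.mk_pow, h2, QuotientGroup.mk_one]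
  rwa [pow_succ, e2, one_mul] at e3

theorem sameComm_iff (hD : Trans D) {a b : G} (ha : a ∈ D) (hb : b ∈ D) :
    SameComm D a b ↔ a * b ∈ pCore 2 G := by
  refine ⟨mul_mem_two_of_sameComm hD ha hb, fun h => ?_⟩
  have key : ∀ {x y e : G}, x ∈ D → y ∈ D → e ∈ D → x * y ∈ pCore 2 G → Commute x e → Commute y e := by
    intro x y e hx hy he hxy hc
    by_contra hn
    have h1 := mul_mem_of_mixed hD (pCore 2 G) hx hy he hxy hc hn
    refine hn (commute_of_mem_two hD hy he ?_)
    have := mul_mem (inv_mem hxy) h1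
    rwa [_root_.mul_inv_rev, mul_assoc, inv_mul_cancel_left, inv_eq hD hy] at this
  have h' : b * a ∈ pCore 2 G := by
    have := inv_mem h
    rwa [_root_.mul_inv_rev, inv_eq hD ha, inv_eq hD hb] at this
  exact fun e he => ⟨key ha hb he h, key hb ha he h'⟩

theorem samePerp_iff (hD : Trans D) {a b : G} (ha : a ∈ D) (hb : b ∈ D) :
    perp D a = perp D b ↔ a * b ∈ pCore 3 G := by
  refine ⟨mul_mem_three_of_samePerp hD ha hb, fun h => ?_⟩
  have key : ∀ {x y e : G}, x ∈ D → y ∈ D → x * y ∈ pCore 3 G → e ∈ perp D x → e ∈ perp D y := by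
    intro x y e hx hy hxy he
    refine ⟨he.1, fun e1 => he.2.1 (e1.trans ?_), ?_⟩
    · exact (eq_of_mem_three hD hx hy hxy (e1 ▸ he.2.2)).symm
    · by_contra hn
      exact he.2.1 (eq_of_mem_three hD hx he.1 (mul_mem_of_mixed hD _ hx hy he.1 hxy he.2.2 hn) he.2.2).symm
  have h' : b * a ∈ pCore 3 G := by
    have := inv_mem h
    rwa [_root_.mul_inv_rev, inv_eq hD ha, inv_eq hD hb] at this
  exact Set.Subset.antisymm (fun e he => key ha hb h he) fun e he => key hb ha h' he

omit [Finite G] in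
/-- With at least two members every member has a non-commuting partner. -/
theorem exists_noncommuting (hD : Trans D) (h2 : ∃ a ∈ D, ∃ b ∈ D, a ≠ b) {d : G} (hd : d ∈ D) :
    ∃ e ∈ D, ¬ Commute d e := by
  by_contra h
  push Not at h
  have hc : Subgroup.closure D ≤ Subgroup.centralizer {d} := by
    rw [Subgroup.closure_le]
    intro e he
    exact Subgroup.mem_centralizer_singleton_iff.2 (h e he).eq.symm
  have hone : ∀ x ∈ D, x = d := by
    intro x hx
    obtain ⟨g, rfl⟩ := hD.trans d hd x hx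
    have hg : g * d = d * g := Subgroup.mem_centralizer_singleton_iff.1 (hc (hD.gen ▸ Subgroup.mem_top g))
    rw [hg, mul_inv_cancel_right]
  obtain ⟨a, ha, b, hb, hne⟩ := h2
  exact hne ((hone a ha).trans (hone b hb).symm)

omit [Finite G] in
theorem mul_conj_mem {N : Subgroup G} [N.Normal] (hD : Trans D) {d g : G} (hd : d ∈ D) (hg : g ∈ N) :
    d * (g * d * g⁻¹) ∈ N := by
  have e : d * (g * d * g⁻¹) = (d * g * d⁻¹) * g⁻¹ := by rw [inv_eq hD hd]; simp only [mul_assoc]
  rw [e]
  exact mul_mem (Subgroup.Normal.conj_mem inferInstance g hg d) (inv_mem hg)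

theorem orbit_two (hD : Trans D) (h2 : ∃ a ∈ D, ∃ b ∈ D, a ≠ b) {d v : G} (hd : d ∈ D) (hv : v ∈ D)
    (h : SameComm D d v) : ∃ g ∈ pCore 2 G, v = g * d * g⁻¹ := by
  obtain ⟨e, he, hde⟩ := exists_noncommuting hD h2 hd
  have hve : ¬ Commute v e := fun hc => hde ((h e he).2 hc)
  have hdv : Commute d v := commute_of_sameComm hd h
  set e' := cj d (cj v e)
  have he' : e' ∈ D := cj_mem hD hd (cj_mem hD hv he)
  have hrel : SameComm D e e' := (blocks_sameComm hD).kern d hd v hv h e he
  refine ⟨e * e', mul_mem_two_of_sameComm hD he he' hrel, ?_⟩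
  have hn : ¬ Commute e' d := by
    intro hc
    rw [commute_cj_left hD hd, cj_self hD hd, commute_cj_left hD hv, cj_of_commute hD hv hdv.symm] at hc
    exact hde hc.symm
  have e1 : cj e' d = cj v e := by rw [braid hD he' hd hn, cj_cj hD hd]
  calc v = cj e (cj e v) := (cj_cj hD he v).symm
    _ = cj e (cj v e) := by rw [braid hD he hv fun hc => hve hc.symm]
    _ = cj e (cj e' d) := by rw [e1]
    _ = e * e' * d * (e * e')⁻¹ := by
      rw [_root_.mul_inv_rev, inv_eq hD he, inv_eq hD he']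
      simp only [cj_def, mul_assoc]

theorem orbit_three (hD : Trans D) {d w : G} (hd : d ∈ D) (hw : w ∈ D) (h : perp D d = perp D w) :
    ∃ g ∈ pCore 3 G, w = g * d * g⁻¹ := by
  by_cases hc : Commute d w
  · exact ⟨1, one_mem _, by simp [eq_of_samePerp_commute hw h hc]⟩
  refine ⟨d * w, mul_mem_three_of_samePerp hD hd hw h, ?_⟩
  calc w = cj d (cj d w) := (cj_cj hD hd w).symm
    _ = cj d (cj w d) := by rw [braid hD hd hw hc]
    _ = d * w * d * (d * w)⁻¹ := by
      rw [_root_.mul_inv_rev, inv_eq hD hd, inv_eq hD hw]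
      simp only [cj_def, mul_assoc]

omit [Finite G] in
/-- A 3-transposition group in which no two members commute has a single class. -/
theorem trans_of_noncommuting (hG : Cfsg.IsThreeTranspositionGroup D)
    (h : ∀ a ∈ D, ∀ b ∈ D, Commute a b → a = b) {d : G} (hd : d ∈ D) : Trans D := by
  obtain ⟨hs, hc, hgen⟩ := hG
  have hinv : ∀ a ∈ D, a⁻¹ = a := fun a ha =>
    inv_eq_of_mul_eq_one_right (by rw [← pow_two, ← hs.1 a ha, pow_orderOf_eq_one])
  refine ⟨hs, hc, fun a ha b hb => ?_, hgen, ⟨d, hd⟩⟩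
  by_cases hab : Commute a b
  · exact ⟨1, by simp [h a ha b hb hab]⟩
  have hp : (a * b) ^ 3 = 1 := (hs.2 a ha b hb).resolve_left fun h2 => hab (by
    rw [pow_two, ← eq_inv_iff_mul_eq_one, _root_.mul_inv_rev, hinv a ha, hinv b hb] at h2
    exact h2)
  refine ⟨a * b, ?_⟩
  rw [_root_.mul_inv_rev, hinv a ha, hinv b hb]
  rw [pow_succ, pow_two] at hp
  have e : a * b * a * (b * a) * b = 1 := by simpa [mul_assoc] using hp
  calc a * b * a * (b * a) = b⁻¹ := eq_inv_of_mul_eq_one_left e
    _ = b := hinv b hb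

omit [Finite G] in
theorem width_eq_one_iff [Finite G] {d : G} (hd : d ∈ D) :
    commutingWidth D = 1 ↔ ∀ a ∈ D, ∀ b ∈ D, Commute a b → a = b := by
  constructor
  · intro h a ha b hb hab
    by_contra hne
    have hmem : 2 ∈ {n : ℕ | ∃ E : Set G, E ⊆ D ∧ E.Finite ∧ (∀ a ∈ E, ∀ b ∈ E, Commute a b) ∧ E.ncard = n} := by
      refine ⟨{a, b}, ?_, Set.toFinite _, ?_, Set.ncard_pair hne⟩
      · rintro x (rfl | rfl) <;> assumption
      · rintro x (rfl | rfl) y (rfl | rfl) <;>
          first | exact Commute.refl _ | exact hab | exact hab.symm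
    have hbdd : BddAbove {n : ℕ | ∃ E : Set G, E ⊆ D ∧ E.Finite ∧ (∀ a ∈ E, ∀ b ∈ E, Commute a b) ∧ E.ncard = n} := by
      refine ⟨Nat.card G, ?_⟩
      rintro n ⟨E, -, -, -, rfl⟩
      rw [← Set.ncard_univ]
      exact Set.ncard_le_ncard (Set.subset_univ E) (Set.toFinite _)
    have := le_csSup hbdd hmem
    rw [commutingWidth] at h
    omega
  · intro h
    have heq : {n : ℕ | ∃ E : Set G, E ⊆ D ∧ E.Finite ∧ (∀ a ∈ E, ∀ b ∈ E, Commute a b) ∧ E.ncard = n} = {0, 1} := by
      ext n
      constructor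
      · rintro ⟨E, hE, -, hc, rfl⟩
        have : E.ncard ≤ 1 := (Set.ncard_le_one (Set.toFinite _)).2 fun a ha b hb => h a (hE ha) b (hE hb) (hc a ha b hb)
        simp only [Set.mem_insert_iff, Set.mem_singleton_iff]
        omega
      · rintro (rfl | rfl)
        · exact ⟨∅, Set.empty_subset _, Set.finite_empty, by simp, Set.ncard_empty G⟩
        · exact ⟨{d}, by simpa using hd, Set.finite_singleton d, by simp, Set.ncard_singleton d⟩
    rw [commutingWidth, heq]
    exact IsGreatest.csSup_eq ⟨by simp, by rintro x (rfl | rfl) <;> simp⟩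

end Cfsg.Lib.Fischer
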