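import Cfsg.Agent.Lib.Fischer.Module

/-!
# The members commuting with a transposition form one class of the group they generate
-/

set_option autoImplicit false

namespace Cfsg.Lib.Fischer

variable {G : Type*} [Group G]

/-- Connection inside `perp D x` by chains of non-commuting members. -/
def Comp (D : Set G) (x y z : G) : Prop :=
  ∀ q : G → Prop, (∀ u ∈ perp D x, ∀ v ∈ perp D x, ¬ Commute u v → q u → q v) → q y → q z

/-- Conjugacy under the group generated by `x` and the members commuting with it. -/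
def Orb (D : Set G) (x b c : G) : Prop := ∃ g ∈ Subgroup.closure (insert x (perp D x)), g * b * g⁻¹ = c

/-- The common commuting members. -/
def common (D : Set G) (x b : G) : Set G := {d | d ∈ perp D x ∧ Commute b d}

/-- `b` commutes with part of the component of `y`. -/
def Splits (D : Set G) (x y b : G) : Prop :=
  ∃ z w, Comp D x y z ∧ Comp D x y w ∧ Commute b z ∧ ¬ Commute b w

variable {D : Set G} (hD : Trans D) {x y z w b c d g : G}

theorem comp_trans (h : Comp D x y z) (h' : Comp D x z w) : Comp D x y w :=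
  fun q hq hy => h' q hq (h q hq hy)

theorem comp_adj (h : Comp D x y z) (hz : z ∈ perp D x) (hw : w ∈ perp D x) (hn : ¬ Commute z w) :
    Comp D x y w := fun q hq hy => hq z hz w hw hn (h q hq hy)

theorem comp_refl : Comp D x y y := fun _ _ h => h

theorem comp_symm (h : Comp D x y z) : Comp D x z y := fun q hq hz => by
  by_contra hy
  exact h (fun u => ¬ q u) (fun u hu v hv hn hnu hv' => hnu (hq v hv u hu (fun h' => hn h'.symm) hv')) hy hz

theorem comp_mem (hy : y ∈ perp D x) (h : Comp D x y z) : z ∈ perp D x :=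
  h (fun u => u ∈ perp D x) (fun _ _ _ hv _ _ => hv) hy

theorem commute_of_not_comp (h : Comp D x y z) (hz : z ∈ perp D x) (hw : w ∈ perp D x)
    (hn : ¬ Comp D x y w) : Commute z w :=
  by_contra fun h' => hn (comp_adj h hz hw h')

theorem uniform_of_not_splits (h : ¬ Splits D x y b) (hz : Comp D x y z) (hw : Comp D x y w)
    (hc : Commute b z) : Commute b w := by_contra fun h' => h ⟨z, w, hz, hw, hc, h'⟩

theorem Splits.exists_adj (hy : y ∈ perp D x) (h : Splits D x y b) :
    ∃ z w, Comp D x y z ∧ Comp D x y w ∧ ¬ Commute z w ∧ Commute b z ∧ ¬ Commute b w := by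
  by_contra hcon
  push Not at hcon
  obtain ⟨z, w, hz, hw, hbz, hbw⟩ := h
  exact hbw (((comp_trans (comp_symm hz) hw) (fun u => Comp D x y u ∧ Commute b u)
    (fun u hu v hv hn hq => ⟨comp_adj hq.1 hu hv hn, hcon u v hq.1 (comp_adj hq.1 hu hv hn) hn hq.2⟩)
    ⟨hz, hbz⟩).2)

include hD

theorem cj_mem_perp (hx : x ∈ D) (hd : d ∈ insert x (perp D x)) (hz : z ∈ perp D x) :
    cj d z ∈ perp D x ∧ Comp D x z (cj d z) := by
  rcases hd with rfl | hd
  · rw [cj_of_commute hD hx hz.2.2]; exact ⟨hz, comp_refl⟩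
  by_cases hc : Commute d z
  · rw [cj_of_commute hD hd.1 hc]; exact ⟨hz, comp_refl⟩
  have hm : cj d z ∈ perp D x := ⟨cj_mem hD hd.1 hz.1,
    fun h => hz.2.1 (by rw [← cj_cj hD hd.1 z, h, cj_of_commute hD hd.1 hd.2.2.symm]),
    (commute_cj_of hD hd.1 hd.2.2.symm).2 hz.2.2⟩
  exact ⟨hm, comp_adj comp_refl hz hm (not_commute_cj' hD hd.1 hz.1 hc)⟩

theorem conj_mem_perp (hx : x ∈ D) (hg : g ∈ Subgroup.closure (insert x (perp D x))) :
    g * x * g⁻¹ = x ∧ ∀ z ∈ perp D x, g * z * g⁻¹ ∈ perp D x ∧ Comp D x z (g * z * g⁻¹) := by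
  have hgen : ∀ d ∈ insert x (perp D x), d ∈ D ∧ Commute d x := by
    rintro d (rfl | hd)
    · exact ⟨hx, Commute.refl d⟩
    · exact ⟨hd.1, hd.2.2.symm⟩
  have hmem : ∀ d ∈ insert x (perp D x),
      d * x * d⁻¹ = x ∧ ∀ z ∈ perp D x, d * z * d⁻¹ ∈ perp D x ∧ Comp D x z (d * z * d⁻¹) := by
    intro d hd
    refine ⟨by rw [(hgen d hd).2.eq, mul_inv_cancel_right], fun z hz => ?_⟩
    rw [← cj_conj hD (hgen d hd).1]
    exact cj_mem_perp hD hx hd hz
  induction hg using Subgroup.closure_induction'' with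
  | mem d hd => exact hmem d hd
  | inv_mem d hd => rw [inv_eq hD (hgen d hd).1]; exact hmem d hd
  | one => exact ⟨by simp, fun z hz => by simpa using ⟨hz, (comp_refl : Comp D x z z)⟩⟩
  | mul u v _ _ hu hv =>
    refine ⟨?_, fun z hz => ?_⟩
    · rw [show u * v * x * (u * v)⁻¹ = u * (v * x * v⁻¹) * u⁻¹ by group, hv.1, hu.1]
    · have e : u * v * z * (u * v)⁻¹ = u * (v * z * v⁻¹) * u⁻¹ := by group
      rw [e]
      exact ⟨(hu.2 _ (hv.2 z hz).1).1, comp_trans (hv.2 z hz).2 (hu.2 _ (hv.2 z hz).1).2⟩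

theorem orb_refl : Orb D x b b := ⟨1, one_mem _, by simp⟩

theorem orb_symm (h : Orb D x b c) : Orb D x c b := by
  obtain ⟨g, hg, rfl⟩ := h
  exact ⟨g⁻¹, inv_mem hg, by group⟩

theorem orb_trans {e : G} (h : Orb D x b c) (h' : Orb D x c e) : Orb D x b e := by
  obtain ⟨g, hg, rfl⟩ := h
  obtain ⟨g', hg', rfl⟩ := h'
  exact ⟨g' * g, mul_mem hg' hg, by group⟩

theorem orb_cj (hx : x ∈ D) (hd : d ∈ insert x (perp D x)) : Orb D x b (cj d b) := by
  have hdD : d ∈ D := by rcases hd with rfl | hd; exacts [hx, hd.1]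
  exact ⟨d, Subgroup.subset_closure hd, (cj_conj hD hdD b).symm⟩

theorem orb_common (hx : x ∈ D) (h : Orb D x b c) :
    (common D x b).ncard ≤ (common D x c).ncard ∧ ((common D x b) = ∅ → common D x c = ∅) := by
  have key : ∀ {u v : G}, Orb D x u v → ∀ d ∈ common D x u, ∃ d', d' ∈ common D x v := by
    rintro u v ⟨g, hg, rfl⟩ d hd
    exact ⟨g * d * g⁻¹, ((conj_mem_perp hD hx hg).2 d hd.1).1, (Commute.conj_iff g).2 hd.2⟩
  refine ⟨?_, fun he => Set.eq_empty_iff_forall_notMem.2 fun d hd => ?_⟩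
  · obtain ⟨g, hg, rfl⟩ := h
    by_cases hfin : (common D x (g * b * g⁻¹)).Finite
    · rw [← Set.ncard_image_of_injective (common D x b) (MulAut.conj g).injective]
      refine Set.ncard_le_ncard ?_ hfin
      rintro _ ⟨d, hd, rfl⟩
      exact ⟨((conj_mem_perp hD hx hg).2 d hd.1).1, (Commute.conj_iff g).2 hd.2⟩
    · have h' : ¬ (common D x b).Finite := fun hf => hfin (by
        refine (hf.image (MulAut.conj g)).subset fun d hd => ⟨g⁻¹ * d * g, ⟨?_, ?_⟩, ?_⟩
        · simpa using ((conj_mem_perp hD hx (inv_mem hg)).2 d hd.1).1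
        · have := (Commute.conj_iff g⁻¹).2 hd.2; simpa [mul_assoc] using this
        · simp [mul_assoc])
      rw [Set.Infinite.ncard h']; exact Nat.zero_le _
  · obtain ⟨d', hd'⟩ := key (orb_symm hD h) d hd
    exact Set.notMem_empty _ (he ▸ hd')

theorem orb_splits (hx : x ∈ D) (hy : y ∈ perp D x) (h : Orb D x b c) (hs : Splits D x y b) : Splits D x y c := by
  obtain ⟨g, hg, rfl⟩ := h
  obtain ⟨z, w, hz, hw, hbz, hbw⟩ := hs
  exact ⟨g * z * g⁻¹, g * w * g⁻¹, comp_trans hz ((conj_mem_perp hD hx hg).2 z (comp_mem hy hz)).2,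
    comp_trans hw ((conj_mem_perp hD hx hg).2 w (comp_mem hy hw)).2,
    (Commute.conj_iff g).2 hbz, fun h => hbw ((Commute.conj_iff g).1 h)⟩

/-- Commuting members away from `x` are conjugate under its neighbours. -/
theorem orb_of_commute (hx : x ∈ D) (hb : b ∈ D) (hc : c ∈ D) (hxb : ¬ Commute x b) (hxc : ¬ Commute x c)
    (hbc : Commute b c) : Orb D x b c := by
  set u := cj c x with hu
  have hu' : u = cj x c := (braid hD hx hc hxc).symm
  set y := cj b u with hy
  have huD : u ∈ D := cj_mem hD hc hx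
  have hcxy : Commute x y := by
    rw [hy, ← commute_cj_left hD hb, ← braid hD hx hb hxb, hu', commute_cj hD hx]
    exact hbc
  by_cases hyx : y = x
  · have h1 : u = cj b x := by conv_rhs => rw [← hyx, hy, cj_cj hD hb]
    rw [hu', ← braid hD hx hb hxb, cj_inj hD hx] at h1
    exact h1 ▸ orb_refl hD
  have hub : cj u b = y := by
    have h1 : cj c (cj x b) = y := by
      rw [braid hD hx hb hxb, cj_cj_dist hD hc, cj_of_commute hD hc hbc.symm, hy]
    have h2 := cj_cj_dist hD hx c (cj x b)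
    rw [cj_cj hD hx b, h1, cj_of_commute hD hx hcxy, ← hu'] at h2
    exact h2.symm
  have hyb : cj y b = u := by
    have h := cj_cj_dist hD hb u b
    rw [cj_self hD hb, ← hy, hub] at h
    rw [← h, hy, cj_cj hD hb]
  have : c = cj x (cj y b) := by rw [hyb, hu', cj_cj hD hx]
  rw [this]
  exact orb_trans hD (orb_cj hD hx (Set.mem_insert_of_mem _ ⟨cj_mem hD hb huD, hyx, hcxy⟩))
    (orb_cj hD hx (Set.mem_insert _ _))

/-- If the third point of the line through two members lies in the neighbourhood of `x`, they are conjugate. -/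
theorem orb_of_cj_commute (hx : x ∈ D) (hb : b ∈ D) (hc : c ∈ D) (hbc : ¬ Commute b c)
    (h : Commute x (cj b c)) : Orb D x b c := by
  have he : cj (cj b c) b = c := by
    have := cj_cj_dist hD hb c b
    rw [cj_self hD hb, ← braid hD hb hc hbc, cj_cj hD hb] at this
    exact this.symm
  have hins : cj b c ∈ insert x (perp D x) := by
    by_cases he' : cj b c = x
    · exact Or.inl he'
    · exact Or.inr ⟨cj_mem hD hb hc, he', h⟩
  exact he ▸ orb_cj hD hx hins

theorem orb_of_extra (hx : x ∈ D) (hb : b ∈ D) (hc : c ∈ D) (hxb : ¬ Commute x b) (hxc : ¬ Commute x c)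
    (hbc : ¬ Commute b c) (hd : d ∈ perp D x) (hbd : Commute b d) (hcd : ¬ Commute c d) (hno : ¬ Orb D x b c) :
    Orb D x c (cj b c) := by
  have he : ¬ Commute x (cj b c) := fun h => hno (orb_of_cj_commute hD hx hb hc hbc h)
  have hdd : ¬ Commute x (cj d c) := fun h => hxc ((commute_cj_of hD hd.1 hd.2.2.symm).1 h)
  have hcomm : Commute (cj b c) (cj d c) := by
    rw [braid hD hb hc hbc, braid hD hd.1 hc (fun h => hcd h.symm), commute_cj hD hc]
    exact hbd
  exact orb_trans hD (orb_cj hD hx (Set.mem_insert_of_mem _ hd))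
    (orb_of_commute hD hx (cj_mem hD hd.1 hc) (cj_mem hD hb hc) hdd he hcomm.symm)

/-- The common neighbourhoods of two orbits are comparable. -/
theorem common_comparable (hx : x ∈ D) (hb : b ∈ D) (hc : c ∈ D) (hxb : ¬ Commute x b) (hxc : ¬ Commute x c)
    (hno : ¬ Orb D x b c) : common D x b ⊆ common D x c ∨ common D x c ⊆ common D x b := by
  by_contra hcon
  obtain ⟨h1, h2⟩ := not_or.1 hcon
  obtain ⟨d, ⟨hd, hbd⟩, hd'⟩ := Set.not_subset.1 h1
  obtain ⟨e, ⟨he, hce⟩, he'⟩ := Set.not_subset.1 h2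
  have hbc : ¬ Commute b c := fun h => hno (orb_of_commute hD hx hb hc hxb hxc h)
  have h3 := orb_of_extra hD hx hb hc hxb hxc hbc hd hbd (fun h => hd' ⟨hd, h⟩) hno
  have h4 := orb_of_extra hD hx hc hb hxc hxb (fun h => hbc h.symm) he hce (fun h => he' ⟨he, h⟩)
    (fun h => hno (orb_symm hD h))
  rw [← braid hD hb hc hbc] at h4
  exact hno (orb_trans hD h4 (orb_symm hD h3))

/-- A member cannot split two components. -/
theorem comp_of_two_splits (hx : x ∈ D) (hb : b ∈ D) (hxb : ¬ Commute x b) {y' : G} (hy : y ∈ perp D x)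
    (hy' : y' ∈ perp D x) (h : Splits D x y b) (h' : Splits D x y' b) : Comp D x y y' := by
  by_contra hne
  obtain ⟨p, u, hp, hu, hpu, hbp, hbu⟩ := h.exists_adj hy
  obtain ⟨p', v, hp', hv, hpv, hbp', hbv⟩ := h'.exists_adj hy'
  have hpm := comp_mem hy hp
  have hum := comp_mem hy hu
  have hpm' := comp_mem hy' hp'
  have hvm := comp_mem hy' hv
  have cross : ∀ {s t : G}, Comp D x y s → Comp D x y' t → s ∈ perp D x → t ∈ perp D x → Commute s t :=
    fun hs ht hsm htm => by_contra fun hn => hne (comp_trans (comp_adj hs hsm htm hn) (comp_symm ht))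
  have huv := cross hu hv hum hvm
  set f := cj b (cj x (cj u (cj v b))) with hf
  have hfD : f ∈ D := cj_mem hD hb (cj_mem hD hx (cj_mem hD hum.1 (cj_mem hD hvm.1 hb)))
  have hsym : cj u (cj v b) = cj v (cj u b) := by
    rw [cj_cj_dist hD hum.1, cj_of_commute hD hum.1 huv]
  have aux : ∀ {p u v : G}, p ∈ perp D x → u ∈ perp D x → v ∈ perp D x → ¬ Commute p u → Commute v p →
      Commute v u → Commute b p → ¬ Commute b u → ¬ Commute p (cj b (cj x (cj u (cj v b)))) := by
    intro p u v hp hu hv hpu hvp hvu hbp hbu h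
    rw [commute_cj_of hD hb hbp, commute_cj_of hD hx hp.2.2] at h
    rw [← commute_cj_left hD hu.1, braid hD hu.1 hp.1 (fun h' => hpu h'.symm), ← commute_cj_left hD hv.1,
      cj_cj_dist hD hv.1, cj_of_commute hD hv.1 hvp, cj_of_commute hD hv.1 hvu, commute_cj_left hD hp.1,
      cj_of_commute hD hp.1 hbp.symm] at h
    exact hbu h.symm
  have hn1 : ¬ Commute p f := aux hpm hum hvm hpu (cross hp hv hpm hvm).symm huv.symm hbp hbu
  have hn2 : ¬ Commute p' f := by
    rw [hf, hsym]
    exact aux hpm' hvm hum hpv (cross hu hp' hum hpm') huv hbp' hbv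
  have hxf : Commute x f := by
    rw [hf, ← commute_cj_left hD hb, ← braid hD hx hb hxb, commute_cj hD hx, ← commute_cj_left hD hum.1,
      braid hD hum.1 hb (fun h => hbu h.symm), braid hD hvm.1 hb (fun h => hbv h.symm), commute_cj hD hb]
    exact huv
  have hfm : f ∈ perp D x := ⟨hfD, fun h => hn1 (h ▸ hpm.2.2.symm), hxf⟩
  exact hne (comp_trans (comp_adj (comp_adj hp hpm hfm hn1) hfm hpm' fun h => hn2 h.symm) (comp_symm hp'))

variable [Finite G]

omit hD in
/-- A member away from `x` has a common commuting member with it. -/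
theorem common_nonempty (hF : IsFischer D) (hx : x ∈ D) {b : G} (hb : b ∈ D) (hxb : ¬ Commute x b) :
    (common D x b).Nonempty := by
  rw [Set.nonempty_iff_ne_empty]
  intro he
  have hD := hF.toTrans
  have h := commuting_connected hF (p := fun e => e ∈ D ∧ ¬ Commute x e ∧ common D x e = ∅)
    (fun u hu v hv huv ⟨_, hxu, hu0⟩ => ?_) hb hx ⟨hb, hxb, he⟩
  · exact h.2.1 (Commute.refl x)
  have hxv : ¬ Commute x v := fun h => by
    rcases eq_or_ne v x with rfl | hne
    · exact hxu huv.symm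
    · exact Set.notMem_empty v (hu0 ▸ (⟨⟨hv, hne, h⟩, huv⟩ : v ∈ common D x u))
  exact ⟨hv, hxv, (orb_common hD hx (orb_of_commute hD hx hu hv hxu hxv huv)).2 hu0⟩

omit hD in
/-- Every component of a neighbourhood is split. -/
theorem exists_splitter (hF : IsFischer D) (hx : x ∈ D) (hy : y ∈ perp D x) :
    ∃ b, b ∈ D ∧ ¬ Commute x b ∧ Splits D x y b := by
  classical
  have hD := hF.toTrans
  by_contra hcon
  push Not at hcon
  set M := {z | Comp D x y z} with hM
  have hsub : M ⊆ perp D x := fun z hz => comp_mem hy hz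
  have huni : ∀ e ∈ D, e ∉ M → ∀ u ∈ M, ∀ v ∈ M, Commute u e → Commute v e := by
    intro e he heM u hu v hv hc
    by_cases hex : Commute x e
    · rcases eq_or_ne e x with rfl | hne
      · exact (hsub hv).2.2.symm
      · exact commute_of_not_comp hv (hsub hv) ⟨he, hne, hex⟩ heM
    · exact (uniform_of_not_splits (hcon e he hex) hu hv hc.symm).symm
  have hsame : ∀ g : G, ∀ u ∈ M, g * u * g⁻¹ ∈ M → g * x * g⁻¹ ∉ M →
      ∀ v ∈ M, g⁻¹ * v * g ∈ M := by
    intro g u hu hgu hgx v hv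
    have hx' : g * x * g⁻¹ ∈ D := hD.conj g x hx
    have hperp : ∀ w ∈ M, g⁻¹ * w * g ∈ perp D x := by
      intro w hw
      have hc : Commute w (g * x * g⁻¹) :=
        huni _ hx' hgx _ hgu w hw ((Commute.conj_iff g).2 (hsub hu).2.2.symm)
      have hm : w ∈ perp D (g * x * g⁻¹) := ⟨(hsub hw).1, fun h => hgx (h ▸ hw), hc.symm⟩
      simpa [mul_assoc] using conj_perp hF g⁻¹ _ hm
    have h := (comp_trans (comp_symm hgu) hv) (fun w => w ∈ M ∧ g⁻¹ * w * g ∈ M)
      (fun s hs t ht hn ⟨hsM, hsg⟩ => ?_) ⟨hgu, by simpa [mul_assoc] using hu⟩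
    · exact h.2
    · have htM : t ∈ M := comp_adj hsM hs ht hn
      refine ⟨htM, comp_adj hsg (hperp s hsM) (hperp t htM) fun h => hn ?_⟩
      simpa [mul_assoc] using (Commute.conj_iff g).2 h
  have hinj : ∀ g : G, (∀ v ∈ M, g⁻¹ * v * g ∈ M) → ∀ v ∈ M, g * v * g⁻¹ ∈ M := by
    intro g h v hv
    have hmaps : Set.MapsTo (fun w => g⁻¹ * w * g) M M := h
    obtain ⟨w, hw, e⟩ : v ∈ (fun w => g⁻¹ * w * g) '' M := by
      rw [Set.eq_of_subset_of_ncard_le (Set.image_subset_iff.2 hmaps)
        (Set.ncard_image_of_injective _ (fun a b e => by simpa using e)).ge (Set.toFinite _)]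
      exact hv
    rw [← e]
    simpa [mul_assoc] using hw
  have hblock : ∀ g : G, ∀ u ∈ M, g * u * g⁻¹ ∈ M → ∀ v ∈ M, g * v * g⁻¹ ∈ M := by
    intro g u hu hgu
    by_cases h1 : g * x * g⁻¹ ∈ M
    swap
    · exact hinj g (hsame g u hu hgu h1)
    by_cases h2 : g⁻¹ * x * g ∈ M
    swap
    · have := hsame g⁻¹ _ hgu (by simpa [mul_assoc] using hu) (by simpa using h2)
      simpa using this
    exfalso
    obtain ⟨z, hz, w, hw, hzw, hzg, hwg⟩ : ∃ z, z ∈ M ∧ ∃ w, w ∈ M ∧ ¬ Commute z w ∧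
        g⁻¹ * z * g ∉ M ∧ g⁻¹ * w * g ∈ M := by
      by_contra hc
      push Not at hc
      have h := (comp_trans (comp_symm hgu) h1) (fun s => s ∈ M ∧ g⁻¹ * s * g ∈ M)
        (fun s hs t ht hn ⟨hsM, hsg⟩ => ⟨comp_adj hsM hs ht hn, by_contra fun htg =>
          hc t (comp_adj hsM hs ht hn) s hsM (fun h => hn h.symm) htg hsg⟩)
        ⟨hgu, by simpa [mul_assoc] using hu⟩
      have h3 : g⁻¹ * (g * x * g⁻¹) * g = x := by group
      exact (hsub (h3 ▸ h.2)).2.1 rfl
    refine hzw ?_
    have hzx : Commute (g⁻¹ * x * g) (g⁻¹ * z * g) := by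
      simpa using (Commute.conj_iff g⁻¹).2 (hsub hz).2.2
    have := huni _ (by simpa using hD.conj g⁻¹ z (hsub hz).1) hzg _ h2 _ hwg hzx
    simpa [mul_assoc] using ((Commute.conj_iff g).2 this).symm
  have hss := module_subsingleton hF (fun z hz => (hsub hz).1) huni hblock hx (fun h => (hsub h).2.1 rfl)
    fun u hu => (hsub hu).2.2
  refine hy.2.1 (eq_of_commute_subset hF hx hy.1 fun e he hxe => ?_).symm
  rcases eq_or_ne e x with rfl | hne
  · exact hy.2.2.symm
  · by_contra hn
    exact hn ((hss (show y ∈ M from comp_refl) (show e ∈ M from comp_adj comp_refl hy ⟨he, hne, hxe⟩ hn)) ▸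
      Commute.refl y)

omit hD in
/-- The neighbourhood of a member is connected by non-commuting pairs. -/
theorem comp_all (hF : IsFischer D) (hx : x ∈ D) {y₁ y₂ : G} (hy₁ : y₁ ∈ perp D x) (hy₂ : y₂ ∈ perp D x) :
    Comp D x y₁ y₂ := by
  classical
  have hD := hF.toTrans
  by_contra hcon
  obtain ⟨b, ⟨hb, hxb, y, hy, hby⟩, hmin⟩ := Set.exists_min_image
    {b | b ∈ D ∧ ¬ Commute x b ∧ ∃ y ∈ perp D x, Splits D x y b} (fun b => (common D x b).ncard) (Set.toFinite _)
    (by obtain ⟨b, hb⟩ := exists_splitter hF hx hy₁; exact ⟨b, hb.1, hb.2.1, y₁, hy₁, hb.2.2⟩)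
  have hother : ∃ y' ∈ perp D x, ¬ Comp D x y y' := by
    by_contra h
    push Not at h
    exact hcon (comp_trans (comp_symm (h _ hy₁)) (h _ hy₂))
  obtain ⟨bz, bw, hbz, hbw, hbzc, hbwc⟩ := id hby
  -- comparison with a splitter of another component
  have hcmp : ∀ c, c ∈ D → ¬ Commute x c → ∀ y' ∈ perp D x, ¬ Comp D x y y' → Splits D x y' c →
      ∀ z, Comp D x y z → Commute c z := by
    intro c hc hxc y' hy' hne hcy z hz
    have hno : ¬ Orb D x b c := fun h => hne (comp_of_two_splits hD hx hc hxc hy hy' (orb_splits hD hx hy h hby) hcy)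
    have hsub : common D x b ⊆ common D x c := by
      rcases common_comparable hD hx hb hc hxb hxc hno with h | h
      · exact h
      · exact (Set.eq_of_subset_of_ncard_le h (hmin c ⟨hc, hxc, y', hy', hcy⟩) (Set.toFinite _)).ge
    have h1 : Commute c bz := (hsub (⟨comp_mem hy hbz, hbzc⟩ : bz ∈ common D x b)).2
    exact uniform_of_not_splits (fun h => hne (comp_of_two_splits hD hx hc hxc hy hy' h hcy)) hbz hz h1
  -- splitters of the component of `y` commute with nothing outside it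
  have F1 : ∀ c, c ∈ D → ¬ Commute x c → Splits D x y c → ∀ y' ∈ perp D x, ¬ Comp D x y y' → ¬ Commute c y' := by
    intro c hc hxc hcy y' hy' hne hcy'
    obtain ⟨e, he, hxe, hey⟩ := exists_splitter hF hx hy'
    have heM := hcmp e he hxe y' hy' hne hey
    have hno : ¬ Orb D x c e := fun h => hne (comp_of_two_splits hD hx he hxe hy hy' (orb_splits hD hx hy h hcy) hey)
    obtain ⟨cz, cw, hcz, hcw, hczc, hcwc⟩ := id hcy
    have hsub : common D x c ⊆ common D x e := by
      rcases common_comparable hD hx hc he hxc hxe hno with h | h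
      · exact h
      · exact absurd ((h (⟨comp_mem hy hcw, heM cw hcw⟩ : cw ∈ common D x e)).2) hcwc
    obtain ⟨ez, ew, hez, hew, hezc, hewc⟩ := hey
    have hall : Commute c ew := uniform_of_not_splits
      (fun h => hne (comp_of_two_splits hD hx hc hxc hy hy' hcy h)) comp_refl hew hcy'
    exact hewc (hsub (⟨comp_mem hy' hew, hall⟩ : ew ∈ common D x c)).2
  -- everything else away from `x` commutes with the whole component
  have F2 : ∀ e, e ∈ D → ¬ Commute x e → ¬ Splits D x y e → ∀ z, Comp D x y z → Commute e z := by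
    intro e he hxe hey z hz
    have hno : ¬ Orb D x b e := fun h => hey (orb_splits hD hx hy h hby)
    rcases common_comparable hD hx hb he hxb hxe hno with h | h
    · exact uniform_of_not_splits hey hbz hz (h (⟨comp_mem hy hbz, hbzc⟩ : bz ∈ common D x b)).2
    · exfalso
      obtain ⟨d, hd⟩ := common_nonempty hF hx he hxe
      by_cases hdy : Comp D x y d
      · exact hbwc (h (⟨comp_mem hy hbw, uniform_of_not_splits hey hdy hbw hd.2⟩ : bw ∈ common D x e)).2
      · exact F1 b hb hxb hby d hd.1 hdy (h hd).2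
  set R := {e | e ∈ D ∧ ¬ Comp D x y e ∧ (Commute x e ∨ ¬ Splits D x y e)} with hR
  have hMperp : ∀ m, Comp D x y m → m ∈ perp D x := fun m hm => comp_mem hy hm
  have hMR : ∀ m, Comp D x y m → ∀ e ∈ R, Commute m e := by
    rintro m hm e ⟨he, hne, hor⟩
    by_cases hex : Commute x e
    · rcases eq_or_ne e x with rfl | hne'
      · exact (hMperp m hm).2.2.symm
      · exact commute_of_not_comp hm (hMperp m hm) ⟨he, hne', hex⟩ hne
    · exact (F2 e he hex (hor.resolve_left hex) m hm).symm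
  have hTR : ∀ c, c ∈ D → ¬ Commute x c → Splits D x y c → ∀ e ∈ R, ¬ Commute c e := by
    rintro c hc hxc hcy e ⟨he, hne, hor⟩ hce
    by_cases hex : Commute x e
    · rcases eq_or_ne e x with rfl | hne'
      · exact hxc hce.symm
      · exact F1 c hc hxc hcy e ⟨he, hne', hex⟩ hne hce
    · exact hor.resolve_left hex (orb_splits hD hx hy (orb_of_commute hD hx hc he hxc hex hce) hcy)
  have houtside : ∀ e ∈ D, e ∉ R → Comp D x y e ∨ (¬ Commute x e ∧ Splits D x y e) := by
    intro e he heR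
    by_contra h
    obtain ⟨h1, h2⟩ := not_or.1 h
    refine heR ⟨he, h1, ?_⟩
    by_contra h3
    obtain ⟨h4, h5⟩ := not_or.1 h3
    exact h2 ⟨h4, not_not.1 h5⟩
  have huni : ∀ e ∈ D, e ∉ R → ∀ u ∈ R, ∀ v ∈ R, Commute u e → Commute v e := by
    intro e he heR u hu v hv hc
    rcases houtside e he heR with h | ⟨h1, h2⟩
    · exact (hMR e h v hv).symm
    · exact absurd hc.symm (hTR e he h1 h2 u hu)
  have hblock : ∀ g : G, ∀ u ∈ R, g * u * g⁻¹ ∈ R → ∀ v ∈ R, g * v * g⁻¹ ∈ R := by
    intro g u hu hgu v hv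
    by_contra hq
    have hqD : g * v * g⁻¹ ∈ D := hD.conj g v hv.1
    -- an element of `R` outside the translate
    obtain ⟨r, hr, hrg⟩ : ∃ r ∈ R, g⁻¹ * r * g ∉ R := by
      by_contra h
      push Not at h
      obtain ⟨w, hw, e⟩ : v ∈ (fun w => g⁻¹ * w * g) '' R := by
        rw [Set.eq_of_subset_of_ncard_le (show (fun w => g⁻¹ * w * g) '' R ⊆ R from Set.image_subset_iff.2 fun w hw => h w hw)
          (Set.ncard_image_of_injective _ (fun a b e => by simpa using e)).ge (Set.toFinite _)]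
        exact hv
      apply hq
      rw [← e]
      simpa [mul_assoc] using hw
    have huni' : ∀ e ∈ D, g⁻¹ * e * g ∉ R → ∀ s t, g⁻¹ * s * g ∈ R → g⁻¹ * t * g ∈ R → Commute s e → Commute t e := by
      intro e he heg s t hs ht hc
      have h := huni _ (by simpa using hD.conj g⁻¹ e he) heg _ hs _ ht
        (by simpa using (Commute.conj_iff g⁻¹).2 hc)
      simpa [mul_assoc] using (Commute.conj_iff g).2 h
    have hp' : g⁻¹ * (g * u * g⁻¹) * g ∈ R := by simpa [mul_assoc] using hu
    have hq' : g⁻¹ * (g * v * g⁻¹) * g ∈ R := by simpa [mul_assoc] using hv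
    by_cases hM' : ∃ m, Comp D x y m ∧ g⁻¹ * m * g ∈ R
    · obtain ⟨m, hm, hmg⟩ := hM'
      have hall : ∀ w, Comp D x y w → g⁻¹ * w * g ∈ R := by
        intro w hw
        refine ((comp_trans (comp_symm hm) hw) (fun s => Comp D x y s ∧ g⁻¹ * s * g ∈ R)
          (fun s hs t ht hn ⟨hsM, hsg⟩ => ⟨comp_adj hsM hs ht hn, ?_⟩) ⟨hm, hmg⟩).2
        by_contra htg
        exact hn (huni' t ht.1 htg _ s hp' hsg (hMR t (comp_adj hsM hs ht hn) _ hgu).symm)
      by_cases hbg : g⁻¹ * b * g ∈ R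
      · exact hTR b hb hxb hby r hr (huni' r hr.1 hrg m b hmg hbg (hMR m hm r hr))
      · exact hTR b hb hxb hby _ hgu (huni' b hb hbg bz _ (hall bz hbz) hp' hbzc.symm).symm
    · push Not at hM'
      obtain h | ⟨h1, h2⟩ := houtside _ hqD hq
      · exact hM' _ h hq'
      obtain ⟨qz, qw, hqz, hqw, hqzc, hqwc⟩ := h2
      exact hqwc (huni' qw (hMperp qw hqw).1 (hM' qw hqw) _ _ hp' hq' (hMR qw hqw _ hgu).symm)
  obtain ⟨y', hy', hne⟩ := hother
  have hss := module_subsingleton hF (fun z hz => hz.1) huni hblock hy.1 (fun h => h.2.1 comp_refl)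
    (fun u hu => hMR y comp_refl u hu)
  exact hy'.2.1 (hss ⟨hy'.1, hne, Or.inl hy'.2.2⟩ ⟨hx, fun h => (hMperp x h).2.1 rfl, Or.inl (Commute.refl x)⟩)

end Cfsg.Lib.Fischer
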