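import Cfsg.Agent.Lib.Fischer.Classes
import Cfsg.Agent.S5344

/-!
# The line system of a set of 3-transpositions
-/

set_option autoImplicit false

namespace Cfsg.Lib.Fischer

open Cfsg

variable {G : Type*} [Group G] {D : Set G}

/-- `a` and `b` do not commute and `c` is the third member of their line. -/
def L3 (a b c : G) : Prop := ¬ Commute a b ∧ cj a b = c

/-- Conjugation invariant 3-transposition data. -/
structure Pre (D : Set G) : Prop where
  set : Cfsg.IsThreeTranspositionSet D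
  conj : ∀ g : G, ∀ d ∈ D, g * d * g⁻¹ ∈ D

variable (hD : Pre D) {a b c : G}

include hD

theorem Pre.sq (ha : a ∈ D) : a * a = 1 := by rw [← pow_two, ← hD.set.1 a ha, pow_orderOf_eq_one]

theorem Pre.inv_eq' (ha : a ∈ D) : a⁻¹ = a := inv_eq_of_mul_eq_one_right (hD.sq ha)

theorem Pre.cj_mem' (ha : a ∈ D) (hb : b ∈ D) : cj a b ∈ D := by
  have := hD.conj a b hb
  rwa [hD.inv_eq' ha] at this

theorem Pre.cj_cj' (ha : a ∈ D) (x : G) : cj a (cj a x) = x := by
  calc cj a (cj a x) = (a * a) * x * (a * a) := by simp only [cj_def, mul_assoc]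
    _ = x := by rw [hD.sq ha, one_mul, mul_one]

theorem Pre.dist (ha : a ∈ D) (b x : G) : cj a (cj b x) = cj (cj a b) (cj a x) := by
  calc cj a (cj b x) = a * b * 1 * x * 1 * b * a := by simp only [cj_def, mul_assoc, one_mul]
    _ = a * b * (a * a) * x * (a * a) * b * a := by rw [hD.sq ha]
    _ = cj (cj a b) (cj a x) := by simp only [cj_def, mul_assoc]

theorem Pre.commute_cj (ha : a ∈ D) {x y : G} : Commute (cj a x) (cj a y) ↔ Commute x y := by
  rw [show cj a x = a * x * a⁻¹ by rw [hD.inv_eq' ha, cj_def],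
    show cj a y = a * y * a⁻¹ by rw [hD.inv_eq' ha, cj_def]]
  exact Commute.conj_iff a

theorem Pre.braid' (ha : a ∈ D) (hb : b ∈ D) (h : ¬ Commute a b) : cj a b = cj b a := by
  have hp : (a * b) ^ 3 = 1 := (hD.set.2 a ha b hb).resolve_left fun h2 => h (by
    rw [pow_two, ← eq_inv_iff_mul_eq_one, _root_.mul_inv_rev, hD.inv_eq' ha, hD.inv_eq' hb] at h2
    exact h2)
  have h3 : (a * b * a) * (b * a * b) = 1 := by
    rw [pow_succ, pow_two] at hp
    simpa [mul_assoc] using hp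
  rw [cj_def, cj_def, eq_inv_iff_mul_eq_one.2 h3]
  simp [_root_.mul_inv_rev, hD.inv_eq' ha, hD.inv_eq' hb, mul_assoc]

theorem Pre.swap (ha : a ∈ D) (hb : b ∈ D) (h : L3 a b c) : L3 b a c :=
  ⟨fun h' => h.1 h'.symm, by rw [← hD.braid' ha hb h.1]; exact h.2⟩

theorem Pre.mem3 (ha : a ∈ D) (hb : b ∈ D) (h : L3 a b c) : c ∈ D := h.2 ▸ hD.cj_mem' ha hb

theorem Pre.rot (ha : a ∈ D) (h : L3 a b c) : L3 a c b := by
  refine ⟨fun h' => h.1 ?_, by rw [← h.2, hD.cj_cj' ha]⟩
  have hfix : cj a a = a := by rw [cj_def, hD.sq ha, one_mul]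
  rw [← h.2] at h'
  exact (hD.commute_cj ha).1 (by rwa [hfix])

theorem Pre.all6 (ha : a ∈ D) (hb : b ∈ D) (h : L3 a b c) :
    L3 a b c ∧ L3 b a c ∧ L3 a c b ∧ L3 c a b ∧ L3 b c a ∧ L3 c b a := by
  have hc := hD.mem3 ha hb h
  have h1 := hD.rot ha h
  have h2 := hD.swap ha hb h
  have h3 := hD.rot hb h2
  exact ⟨h, h2, h1, hD.swap ha hc h1, h3, hD.swap hb hc h3⟩

theorem Pre.line_mem {l : Set D} (hl : l ∈ threeTranspositionLines D) :
    ∃ x y z : D, L3 (x : G) y z ∧ l = {x, y, z} := by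
  obtain ⟨x, y, hxy, rfl⟩ := hl
  refine ⟨x, y, ⟨(y : G) * x * (y : G)⁻¹, hD.conj y x x.2⟩, ⟨hxy, ?_⟩, ?_⟩
  · show cj (x : G) y = (y : G) * x * (y : G)⁻¹
    rw [hD.braid' x.2 y.2 hxy, cj_def, hD.inv_eq' y.2]
  · ext u
    simp [Subtype.ext_iff]

theorem Pre.line_of {x y z : D} (h : L3 (x : G) y z) : ({x, y, z} : Set D) ∈ threeTranspositionLines D := by
  refine ⟨x, y, h.1, ?_⟩
  ext u
  have e : (y : G) * x * (y : G)⁻¹ = z := by rw [hD.inv_eq' y.2, ← h.2, hD.braid' x.2 y.2 h.1, cj_def]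
  simp [Subtype.ext_iff, e]

theorem Pre.ne_of {x y z : D} (h : L3 (x : G) y z) : x ≠ y ∧ x ≠ z ∧ y ≠ z := by
  obtain ⟨h1, -, h2, -, h3, -⟩ := hD.all6 x.2 y.2 h
  exact ⟨fun e => h1.1 (e ▸ Commute.refl _), fun e => h2.1 (e ▸ Commute.refl _),
    fun e => h3.1 (e ▸ Commute.refl _)⟩

/-- Any two points of a line have the third as their product point. -/
theorem Pre.two_points {l : Set D} (hl : l ∈ threeTranspositionLines D) {p q : D} (hp : p ∈ l) (hq : q ∈ l)
    (hne : p ≠ q) : ∃ r : D, L3 (p : G) q r ∧ l = {p, q, r} := by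
  obtain ⟨x, y, z, h, rfl⟩ := hD.line_mem hl
  obtain ⟨h1, h2, h3, h4, h5, h6⟩ := hD.all6 x.2 y.2 h
  simp only [Set.mem_insert_iff, Set.mem_singleton_iff] at hp hq
  rcases hp with rfl | rfl | rfl <;> rcases hq with rfl | rfl | rfl
  all_goals first
    | exact absurd rfl hne
    | exact ⟨_, h1, rfl⟩
    | exact ⟨_, h2, by ext u; simp only [Set.mem_insert_iff, Set.mem_singleton_iff]; tauto⟩
    | exact ⟨_, h3, by ext u; simp only [Set.mem_insert_iff, Set.mem_singleton_iff]; tauto⟩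
    | exact ⟨_, h4, by ext u; simp only [Set.mem_insert_iff, Set.mem_singleton_iff]; tauto⟩
    | exact ⟨_, h5, by ext u; simp only [Set.mem_insert_iff, Set.mem_singleton_iff]; tauto⟩
    | exact ⟨_, h6, by ext u; simp only [Set.mem_insert_iff, Set.mem_singleton_iff]; tauto⟩

theorem Pre.partialLinear : LineSystem.IsPartialLinear (threeTranspositionLines D) := by
  intro l hl m hm x y hne hxl hyl hxm hym
  obtain ⟨r, hr, rfl⟩ := hD.two_points hl hxl hyl hne
  obtain ⟨s, hs, rfl⟩ := hD.two_points hm hxm hym hne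
  rw [show r = s from Subtype.ext (hr.2.symm.trans hs.2)]

/-- A closed injective configuration is the subspace it generates, with the given lines. -/
theorem Pre.plane_iso {Y : Type*} {M : Set (Set Y)} (f : Y → D) (hf : Function.Injective f) {s : Set D}
    (hsub : s ⊆ Set.range f)
    (hM : ∀ m ∈ M, ∃ u v w, L3 (f u : G) (f v) (f w) ∧ m = {u, v, w})
    (hcl : ∀ u v, ¬ Commute (f u : G) (f v) → ∃ w, L3 (f u : G) (f v) (f w) ∧ ({u, v, w} : Set Y) ∈ M)
    (hgen : ∀ T : Set D, s ⊆ T → LineSystem.IsSubspace (threeTranspositionLines D) T → Set.range f ⊆ T) :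
    LineSystem.Isomorphic
      (LineSystem.restrict (threeTranspositionLines D) (LineSystem.span (threeTranspositionLines D) s)) M := by
  have hsp : LineSystem.span (threeTranspositionLines D) s = Set.range f := by
    refine Set.Subset.antisymm (Set.sInter_subset_of_mem ⟨hsub, ?_⟩) (Set.subset_sInter fun T hT => hgen T hT.1 hT.2)
    intro l hl x hx y hy hne hxl hyl
    obtain ⟨u, rfl⟩ := hx
    obtain ⟨v, rfl⟩ := hy
    obtain ⟨r, hr, rfl⟩ := hD.two_points hl hxl hyl hne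
    obtain ⟨w, hw, -⟩ := hcl u v hr.1
    intro z hz
    simp only [Set.mem_insert_iff, Set.mem_singleton_iff] at hz
    rcases hz with rfl | rfl | rfl
    exacts [⟨u, rfl⟩, ⟨v, rfl⟩, ⟨w, Subtype.ext (hw.2.symm.trans hr.2)⟩]
  rw [hsp]
  let e : Set.range f ≃ Y := (Equiv.ofInjective f hf).symm
  have he : ∀ y, e ⟨f y, y, rfl⟩ = y := fun y => (Equiv.symm_apply_eq _).2 rfl
  have himg : ∀ u v w, e '' {x : Set.range f | (x : D) ∈ ({f u, f v, f w} : Set D)} = {u, v, w} := by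
    intro u v w
    ext y
    constructor
    · rintro ⟨⟨_, y', rfl⟩, hy, rfl⟩
      rw [he]
      simpa [hf.eq_iff] using hy
    · intro hy
      exact ⟨⟨f y, y, rfl⟩, by simpa [hf.eq_iff] using hy, he y⟩
  refine ⟨e, fun m => ⟨?_, fun hm => ?_⟩⟩
  · rintro ⟨l, hl, hls, rfl⟩
    obtain ⟨x, y, z, h, rfl⟩ := hD.line_mem hl
    obtain ⟨u, rfl⟩ := hls (Set.mem_insert _ _)
    obtain ⟨v, rfl⟩ := hls (Set.mem_insert_of_mem _ (Set.mem_insert _ _))
    obtain ⟨w, hw, hwM⟩ := hcl u v h.1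
    obtain rfl : z = f w := Subtype.ext (h.2.symm.trans hw.2)
    rwa [himg]
  · obtain ⟨u, v, w, h, he'⟩ := hM _ hm
    refine ⟨{f u, f v, f w}, hD.line_of h, ?_, ?_⟩
    · rintro z (rfl | rfl | rfl) <;> exact ⟨_, rfl⟩
    · refine e.injective.image_injective ?_
      rw [he', himg]

/-- The transposition of a two-element subset. -/
def pairPerm (s : DualAffinePoint) : Equiv.Perm (Fin 4) :=
  Equiv.swap (s.1.min' (Finset.card_pos.1 (by rw [s.2]; decide))) (s.1.max' (Finset.card_pos.1 (by rw [s.2]; decide)))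

omit hD in
theorem pairPerm_inj : ∀ s t : DualAffinePoint, pairPerm s = pairPerm t → s = t := by decide +kernel

omit hD in
theorem pairPerm_close : ∀ s t : DualAffinePoint, pairPerm s * pairPerm t ≠ pairPerm t * pairPerm s →
    ∃ u, pairPerm s * pairPerm t * pairPerm s = pairPerm u ∧ ∃ i : Fin 4, ∀ x : DualAffinePoint,
      i ∉ x.val ↔ x = s ∨ x = t ∨ x = u := by decide +kernel

omit hD in
theorem pairPerm_line : ∀ i : Fin 4, ∃ s t u : DualAffinePoint, pairPerm s * pairPerm t ≠ pairPerm t * pairPerm s ∧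
    pairPerm s * pairPerm t * pairPerm s = pairPerm u ∧
      ∀ x : DualAffinePoint, i ∉ x.val ↔ x = s ∨ x = t ∨ x = u := by decide +kernel

omit hD in
theorem pairPerm_six : ∀ s : DualAffinePoint, pairPerm s = Equiv.swap 0 1 ∨ pairPerm s = Equiv.swap 1 2 ∨
    pairPerm s = Equiv.swap 2 3 ∨ pairPerm s = Equiv.swap 0 2 ∨ pairPerm s = Equiv.swap 1 3 ∨
      pairPerm s = Equiv.swap 0 3 := by decide +kernel

omit hD in
theorem exists_pairPerm : ∀ i j : Fin 4, i ≠ j → ∃ s, pairPerm s = Equiv.swap i j := by decide +kernel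

/-- A 3-string generates a dual affine plane. -/
theorem Pre.plane_dual {b a c ab ac : D} (h1 : L3 (a : G) b ab) (h2 : L3 (a : G) c ac) (hne : b ≠ c)
    (hbc : Commute (b : G) c) :
    LineSystem.Isomorphic (LineSystem.restrict (threeTranspositionLines D)
      (LineSystem.span (threeTranspositionLines D) ({a, b, ab} ∪ {a, c, ac}))) dualAffinePlaneTwo := by
  obtain ⟨φ, hφ, e1, e2, e3⟩ := Cfsg.Agent.S5344.result hD.set b.2 a.2 c.2
    (fun h => hne (Subtype.ext h)) hbc (fun h => h1.1 h.symm) h2.1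
  have e4 : φ (Equiv.swap 0 2) = ab := by
    rw [← h1.2, cj_def, ← e1, ← e2, ← map_mul, ← map_mul]
    exact congrArg φ (by decide)
  have e5 : φ (Equiv.swap 1 3) = ac := by
    rw [← h2.2, cj_def, ← e2, ← e3, ← map_mul, ← map_mul]
    exact congrArg φ (by decide)
  have e6 : φ (Equiv.swap 0 3) = cj (ab : G) c := by
    rw [cj_def, ← e3, ← e4, ← map_mul, ← map_mul]
    exact congrArg φ (by decide)
  have hmem : ∀ s, φ (pairPerm s) ∈ D := fun s => by
    rcases pairPerm_six s with h | h | h | h | h | h <;> rw [h]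
    · exact e1 ▸ b.2
    · exact e2 ▸ a.2
    · exact e3 ▸ c.2
    · exact e4 ▸ ab.2
    · exact e5 ▸ ac.2
    · exact e6 ▸ hD.cj_mem' ab.2 c.2
  let f : DualAffinePoint → D := fun s => ⟨φ (pairPerm s), hmem s⟩
  have hl3 : ∀ s t u, pairPerm s * pairPerm t ≠ pairPerm t * pairPerm s →
      pairPerm s * pairPerm t * pairPerm s = pairPerm u → L3 (f s : G) (f t) (f u) := by
    intro s t u hn he
    refine ⟨fun hc => hn (hφ ?_), ?_⟩
    · rw [map_mul, map_mul]; exact hc
    · show cj (φ _) (φ _) = φ _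
      rw [cj_def, ← map_mul, ← map_mul, he]
  refine hD.plane_iso f (fun s t h => pairPerm_inj s t (hφ (congrArg Subtype.val h))) ?_ ?_ ?_ ?_
  · intro z hz
    simp only [Set.mem_union, Set.mem_insert_iff, Set.mem_singleton_iff] at hz
    rcases hz with (rfl | rfl | rfl) | rfl | rfl | rfl
    · obtain ⟨s, hs⟩ := exists_pairPerm 1 2 (by decide); exact ⟨s, Subtype.ext (show φ _ = _ by rw [hs, e2])⟩
    · obtain ⟨s, hs⟩ := exists_pairPerm 0 1 (by decide); exact ⟨s, Subtype.ext (show φ _ = _ by rw [hs, e1])⟩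
    · obtain ⟨s, hs⟩ := exists_pairPerm 0 2 (by decide); exact ⟨s, Subtype.ext (show φ _ = _ by rw [hs, e4])⟩
    · obtain ⟨s, hs⟩ := exists_pairPerm 1 2 (by decide); exact ⟨s, Subtype.ext (show φ _ = _ by rw [hs, e2])⟩
    · obtain ⟨s, hs⟩ := exists_pairPerm 2 3 (by decide); exact ⟨s, Subtype.ext (show φ _ = _ by rw [hs, e3])⟩
    · obtain ⟨s, hs⟩ := exists_pairPerm 1 3 (by decide); exact ⟨s, Subtype.ext (show φ _ = _ by rw [hs, e5])⟩
  · rintro m ⟨i, rfl⟩
    obtain ⟨s, t, u, hn, he, hx⟩ := pairPerm_line i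
    exact ⟨s, t, u, hl3 s t u hn he, Set.ext fun x => by simpa using hx x⟩
  · intro s t hn
    obtain ⟨u, he, i, hx⟩ := pairPerm_close s t fun h => hn (by
      show φ _ * φ _ = φ _ * φ _
      rw [← map_mul, ← map_mul, h])
    refine ⟨u, hl3 s t u (fun h => hn (by show φ _ * φ _ = φ _ * φ _; rw [← map_mul, ← map_mul, h])) he,
      i, Set.ext fun x => by simpa using (hx x).symm⟩
  · intro T hT hsub
    rintro _ ⟨s, rfl⟩
    rcases pairPerm_six s with h | h | h | h | h | h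
    · rw [show f s = b from Subtype.ext (show φ _ = _ by rw [h, e1])]; exact hT (by simp)
    · rw [show f s = a from Subtype.ext (show φ _ = _ by rw [h, e2])]; exact hT (by simp)
    · rw [show f s = c from Subtype.ext (show φ _ = _ by rw [h, e3])]; exact hT (by simp)
    · rw [show f s = ab from Subtype.ext (show φ _ = _ by rw [h, e4])]; exact hT (by simp)
    · rw [show f s = ac from Subtype.ext (show φ _ = _ by rw [h, e5])]; exact hT (by simp)
    · have hx : L3 (ab : G) c (f s) := by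
        refine ⟨fun hc => ?_, show _ = φ _ by rw [h, e6]⟩
        rw [← e4, ← e3, commute_iff_eq, ← map_mul, ← map_mul] at hc
        exact absurd (hφ hc) (by decide)
      exact hsub _ (hD.line_of hx) ab (hT (by simp)) c (hT (by simp)) (hD.ne_of hx).1 (by simp) (by simp) (by simp)

/-- Without commuting cross pairs two meeting lines generate an affine plane of order 3. -/
theorem Pre.plane_affine {a b b' c c' : D} (h1 : L3 (a : G) b b') (h2 : L3 (a : G) c c')
    (n1 : ¬ Commute (b : G) c) (n2 : ¬ Commute (b : G) c') (n3 : ¬ Commute (b' : G) c)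
    (n4 : ¬ Commute (b' : G) c') :
    LineSystem.Isomorphic (LineSystem.restrict (threeTranspositionLines D)
      (LineSystem.span (threeTranspositionLines D) ({a, b, b'} ∪ {a, c, c'}))) affinePlaneThree := by
  obtain ⟨ha, hb, hb'⟩ := (⟨a.2, b.2, b'.2⟩ : (a : G) ∈ D ∧ (b : G) ∈ D ∧ (b' : G) ∈ D)
  obtain ⟨hc, hc'⟩ := (⟨c.2, c'.2⟩ : (c : G) ∈ D ∧ (c' : G) ∈ D)
  obtain ⟨-, hba, hab', hb'a, hbb', hb'b⟩ := hD.all6 ha hb h1
  obtain ⟨-, hca, hac', hc'a, hcc', hc'c⟩ := hD.all6 ha hc h2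
  let p11 : D := ⟨cj (b' : G) c', hD.cj_mem' hb' hc'⟩
  let p12 : D := ⟨cj (b' : G) c, hD.cj_mem' hb' hc⟩
  let p21 : D := ⟨cj (b : G) c', hD.cj_mem' hb hc'⟩
  let p22 : D := ⟨cj (b : G) c, hD.cj_mem' hb hc⟩
  have k1 : L3 (b : G) c p22 := ⟨n1, rfl⟩
  have k2 : L3 (b : G) c' p21 := ⟨n2, rfl⟩
  have k3 : L3 (b' : G) c p12 := ⟨n3, rfl⟩
  have k4 : L3 (b' : G) c' p11 := ⟨n4, rfl⟩
  -- a pair `x`, `cj y z` commutes exactly when `cj y x`, `z` do
  have hmove : ∀ {x y z : G}, y ∈ D → Commute x (cj y z) → Commute (cj y x) z := fun {x y z} hy h => by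
    have := (hD.commute_cj hy).2 h
    rwa [hD.cj_cj' hy] at this
  have k5 : L3 (a : G) p22 p11 := ⟨fun h => n3 (hba.2 ▸ hmove hb h), by
    show cj (a : G) (cj (b : G) (c : G)) = cj (b' : G) (c' : G)
    rw [hD.dist ha, h1.2, h2.2]⟩
  have k6 : L3 (a : G) p21 p12 := ⟨fun h => n4 (hba.2 ▸ hmove hb h), by
    show cj (a : G) (cj (b : G) (c' : G)) = cj (b' : G) (c : G)
    rw [hD.dist ha, h1.2, hac'.2]⟩
  have k7 : L3 (b : G) p11 p12 := ⟨fun h => hac'.1 (hb'b.2 ▸ hmove hb' h), by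
    show cj (b : G) (cj (b' : G) (c' : G)) = (p12 : G)
    rw [hD.dist hb, hbb'.2]; exact k6.2⟩
  have k8 : L3 (b' : G) p21 p22 := ⟨fun h => hac'.1 (hbb'.2 ▸ hmove hb h), by
    show cj (b' : G) (cj (b : G) (c' : G)) = cj (b : G) (c : G)
    rw [hD.dist hb', hb'b.2]
    show cj (a : G) (p11 : G) = (p22 : G)
    exact (hD.all6 ha p22.2 k5).2.2.1.2⟩
  have k9 : L3 (c : G) p11 p21 := by
    have e : (p11 : G) = cj (c' : G) b' := hD.braid' hb' hc' n4
    refine ⟨fun h => hab'.1 (hc'c.2 ▸ hmove hc' (e ▸ h)), ?_⟩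
    rw [e, hD.dist hc, hcc'.2, ← hD.braid' hb' hc n3]
    show cj (a : G) (p12 : G) = (p21 : G)
    exact (hD.all6 ha p21.2 k6).2.2.1.2
  have k10 : L3 (c' : G) p12 p22 := by
    have e : (p12 : G) = cj (c : G) b' := hD.braid' hb' hc n3
    refine ⟨fun h => hab'.1 (hcc'.2 ▸ hmove hc (e ▸ h)), ?_⟩
    rw [e, hD.dist hc', hc'c.2, ← hD.braid' hb' hc' n4]
    show cj (a : G) (p11 : G) = (p22 : G)
    exact (hD.all6 ha p22.2 k5).2.2.1.2
  let tbl : ZMod 3 → ZMod 3 → D := fun i j => ![![a, c, c'], ![b, p11, p12], ![b', p21, p22]] i j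
  obtain ⟨l01, l02, l03, l04, l05, l06⟩ := hD.all6 ha hb h1
  obtain ⟨l11, l12, l13, l14, l15, l16⟩ := hD.all6 ha hc h2
  obtain ⟨l21, l22, l23, l24, l25, l26⟩ := hD.all6 hb hc k1
  obtain ⟨l31, l32, l33, l34, l35, l36⟩ := hD.all6 hb hc' k2
  obtain ⟨l41, l42, l43, l44, l45, l46⟩ := hD.all6 hb' hc k3
  obtain ⟨l51, l52, l53, l54, l55, l56⟩ := hD.all6 hb' hc' k4
  obtain ⟨l61, l62, l63, l64, l65, l66⟩ := hD.all6 ha p22.2 k5
  obtain ⟨l71, l72, l73, l74, l75, l76⟩ := hD.all6 ha p21.2 k6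
  obtain ⟨l81, l82, l83, l84, l85, l86⟩ := hD.all6 hb p11.2 k7
  obtain ⟨l91, l92, l93, l94, l95, l96⟩ := hD.all6 hb' p21.2 k8
  obtain ⟨m11, m12, m13, m14, m15, m16⟩ := hD.all6 hc p11.2 k9
  obtain ⟨m21, m22, m23, m24, m25, m26⟩ := hD.all6 hc' p12.2 k10
  have key : ∀ i j k l : ZMod 3, (i, j) ≠ (k, l) →
      L3 (tbl i j : G) (tbl k l) (tbl (-(i + k)) (-(j + l))) := by
    intro i j k l hne
    fin_cases i <;> fin_cases j <;> fin_cases k <;> fin_cases l
    all_goals first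
      | exact absurd rfl hne
      | assumption
  let f : (Fin 2 → ZMod 3) → D := fun v => tbl (v 0) (v 1)
  have keyv : ∀ u v : Fin 2 → ZMod 3, u ≠ v → L3 (f u : G) (f v) (f (-(u + v))) := fun u v huv => by
    refine key _ _ _ _ fun h => huv (funext fun i => ?_)
    obtain ⟨h1, h2⟩ := Prod.mk.injEq .. ▸ h
    fin_cases i <;> assumption
  have haff : ∀ u v : Fin 2 → ZMod 3, {x | ∃ t : ZMod 3, x = u + t • (v - u)} =
      ({u, v, -(u + v)} : Set (Fin 2 → ZMod 3)) := by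
    intro u v
    ext x
    simp only [Set.mem_setOf_eq, Set.mem_insert_iff, Set.mem_singleton_iff]
    constructor
    · rintro ⟨t, rfl⟩
      have hval : ∀ (t p q : ZMod 3), t = 0 ∧ p + t * (q - p) = p ∨ t = 1 ∧ p + t * (q - p) = q ∨
          t = 2 ∧ p + t * (q - p) = -(p + q) := by decide
      rcases (by decide : ∀ t : ZMod 3, t = 0 ∨ t = 1 ∨ t = 2) t with rfl | rfl | rfl
      · left; simp
      · right; left; simp
      · right; right; funext i
        have := (by decide : ∀ p q : ZMod 3, p + 2 * (q - p) = -(p + q)) (u i) (v i)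
        simpa using this
    · rintro (rfl | rfl | rfl)
      · exact ⟨0, by simp⟩
      · exact ⟨1, by simp⟩
      · refine ⟨2, funext fun i => ?_⟩
        have := (by decide : ∀ p q : ZMod 3, -(p + q) = p + 2 * (q - p)) (u i) (v i)
        simpa using this
  have hinj : Function.Injective f := fun u v huv => by
    by_contra hne
    exact (keyv u v hne).1 (huv ▸ Commute.refl _)
  refine hD.plane_iso f hinj ?_ ?_ ?_ ?_
  · intro z hz
    simp only [Set.mem_union, Set.mem_insert_iff, Set.mem_singleton_iff] at hz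
    rcases hz with (rfl | rfl | rfl) | rfl | rfl | rfl
    exacts [⟨![0, 0], rfl⟩, ⟨![1, 0], rfl⟩, ⟨![2, 0], rfl⟩, ⟨![0, 0], rfl⟩, ⟨![0, 1], rfl⟩, ⟨![0, 2], rfl⟩]
  · rintro m ⟨u, w, hw, rfl⟩
    refine ⟨u, u + w, _, keyv u (u + w) (by simpa using hw), ?_⟩
    rw [← haff, add_sub_cancel_left]
  · intro u v hn
    have hne : u ≠ v := fun h => hn (h ▸ Commute.refl _)
    exact ⟨_, keyv u v hne, u, v - u, sub_ne_zero.2 (Ne.symm hne), (haff u v).symm⟩
  · intro T hT hsub
    have hadd : ∀ {x y z : D}, L3 (x : G) y z → x ∈ T → y ∈ T → z ∈ T := fun {x y z} h hx hy =>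
      hsub _ (hD.line_of h) x hx y hy (hD.ne_of h).1 (by simp) (by simp) (by simp)
    have t1 : b ∈ T := hT (by simp)
    have t2 : b' ∈ T := hT (by simp)
    have t3 : c ∈ T := hT (by simp)
    have t4 : c' ∈ T := hT (by simp)
    have t5 : a ∈ T := hT (by simp)
    rintro _ ⟨v, rfl⟩
    show tbl (v 0) (v 1) ∈ T
    generalize v 0 = i
    generalize v 1 = j
    fin_cases i <;> fin_cases j
    exacts [t5, t3, t4, t1, hadd k4 t2 t4, hadd k3 t2 t3, t2, hadd k2 t1 t4, hadd k1 t1 t3]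

theorem Pre.isFischerSpace : IsFischerSpace (threeTranspositionLines D) := by
  refine ⟨hD.partialLinear, fun l hl => ?_, fun l hl m hm hne ⟨a, hal, ham⟩ => ?_⟩
  · obtain ⟨x, y, z, h, rfl⟩ := hD.line_mem hl
    obtain ⟨h1, h2, h3⟩ := hD.ne_of h
    exact Set.ncard_eq_three.2 ⟨x, y, z, h1, h2, h3, rfl⟩
  have hget : ∀ {k : Set D}, k ∈ threeTranspositionLines D → a ∈ k →
      ∃ b b' : D, L3 (a : G) b b' ∧ k = {a, b, b'} := by
    intro k hk hak
    obtain ⟨x, y, z, h, rfl⟩ := hD.line_mem hk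
    obtain ⟨h1, h2, h3⟩ := hD.ne_of h
    rcases hak with rfl | rfl | rfl
    · exact ⟨y, z, h, rfl⟩
    · obtain ⟨r, hr, he⟩ := hD.two_points hk (Set.mem_insert_of_mem _ (Set.mem_insert _ _)) (Set.mem_insert x _) h1.symm
      exact ⟨x, r, hr, he⟩
    · obtain ⟨r, hr, he⟩ := hD.two_points hk (show a ∈ ({x, y, a} : Set D) by simp) (Set.mem_insert x _) h2.symm
      exact ⟨x, r, hr, he⟩
  obtain ⟨b, b', h1, rfl⟩ := hget hl hal
  obtain ⟨c, c', h2, rfl⟩ := hget hm ham
  have hcross : ∀ {p p' q q' : D}, L3 (a : G) p p' → L3 (a : G) q q' → ({a, p, p'} : Set D) = {a, b, b'} →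
      ({a, q, q'} : Set D) = {a, c, c'} → Commute (p : G) q → LineSystem.Isomorphic
        (LineSystem.restrict (threeTranspositionLines D)
          (LineSystem.span (threeTranspositionLines D) ({a, b, b'} ∪ {a, c, c'}))) dualAffinePlaneTwo := by
    intro p p' q q' hp hq e1 e2 hpq
    have hpne : p ≠ q := by
      rintro rfl
      exact hne (hD.partialLinear _ hl _ hm a p (hD.ne_of hp).1 (Set.mem_insert _ _)
        (e1 ▸ by simp) (Set.mem_insert _ _) (e2 ▸ by simp))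
    rw [← e1, ← e2]
    exact hD.plane_dual hp hq hpne hpq
  have sb : ({a, b', b} : Set D) = {a, b, b'} := by rw [Set.pair_comm b' b]
  have sc : ({a, c', c} : Set D) = {a, c, c'} := by rw [Set.pair_comm c' c]
  by_cases n1 : Commute (b : G) c
  · exact Or.inl (hcross h1 h2 rfl rfl n1)
  by_cases n2 : Commute (b : G) c'
  · exact Or.inl (hcross h1 (hD.rot a.2 h2) rfl sc n2)
  by_cases n3 : Commute (b' : G) c
  · exact Or.inl (hcross (hD.rot a.2 h1) h2 sb rfl n3)
  by_cases n4 : Commute (b' : G) c'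
  · exact Or.inl (hcross (hD.rot a.2 h1) (hD.rot a.2 h2) sb sc n4)
  exact Or.inr (hD.plane_affine h1 h2 n1 n2 n3 n4)

end Cfsg.Lib.Fischer
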