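import Cfsg.Agent.Lib.Fischer.Classes
import Cfsg.Agent.Lib.Core.Layer

/-!
# The layer of a group generated by a class of 3-transpositions
-/

set_option autoImplicit false
set_option linter.style.haveILetI false

namespace Cfsg.Lib.Fischer

open Cfsg
open scoped Pointwise

variable {G : Type*} [Group G] [Finite G] {D : Set G}

/-- The subgroup spanned by the products of `d` with its conjugates under `E`. -/
def moved (E : Subgroup G) (d : G) : Subgroup G :=
  Subgroup.closure {z | ∃ x ∈ E, z = d * (x * d * x⁻¹)}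

omit [Finite G] in
theorem moved_le (hD : Trans D) {E : Subgroup G} {d : G} (hd : d ∈ D) (hn : d ∈ Subgroup.normalizer (E : Set G)) :
    moved E d ≤ E := by
  refine (Subgroup.closure_le _).2 ?_
  rintro _ ⟨x, hx, rfl⟩
  have e : d * (x * d * x⁻¹) = (d * x * d⁻¹) * x⁻¹ := by rw [inv_eq hD hd]; simp only [mul_assoc]
  rw [e]
  exact mul_mem ((Subgroup.mem_normalizer_iff.1 hn x).1 hx) (inv_mem hx)

theorem le_normalizer_moved (hD : Trans D) {E : Subgroup G} {d : G} (hd : d ∈ D) :
    E ≤ Subgroup.normalizer (moved E d : Set G) := by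
  intro y hy
  refine Subgroup.mem_normalizer_fintype fun z hz => ?_
  induction hz using Subgroup.closure_induction with
  | mem z hz =>
    obtain ⟨x, hx, rfl⟩ := hz
    have e : y * (d * (x * d * x⁻¹)) * y⁻¹ =
        (d * (y * d * y⁻¹))⁻¹ * (d * ((y * x) * d * (y * x)⁻¹)) := by
      simp only [_root_.mul_inv_rev, inv_inv, inv_eq hD hd]
      calc y * (d * (x * d * x⁻¹)) * y⁻¹ = (y * d * y⁻¹) * (y * x * d * (x⁻¹ * y⁻¹)) := by group
        _ = (y * d * y⁻¹) * (d * d) * (y * x * d * (x⁻¹ * y⁻¹)) := by rw [mul_self hD hd, mul_one]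
        _ = _ := by simp only [mul_assoc]
    rw [e]
    exact mul_mem (inv_mem (Subgroup.subset_closure ⟨y, hy, rfl⟩))
      (Subgroup.subset_closure ⟨y * x, mul_mem hy hx, rfl⟩)
  | one => simp
  | mul u v _ _ hu hv => simpa [mul_assoc] using mul_mem hu hv
  | inv u _ hu => simpa [mul_assoc] using inv_mem hu

omit [Finite G] in
/-- If a perfect subgroup centralizes what `d` moves then it centralizes `d`. -/
theorem commute_of_moved (hD : Trans D) {E : Subgroup G} {d : G} (hd : d ∈ D)
    (hn : d ∈ Subgroup.normalizer (E : Set G)) (hE : ⁅E, E⁆ = E) (hc : ⁅E, moved E d⁆ = ⊥) :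
    ∀ x ∈ E, Commute d x := by
  have hcen : moved E d ≤ Subgroup.centralizer (E : Set G) := by
    rw [Subgroup.le_centralizer_iff]
    exact (Subgroup.commutator_eq_bot_iff_le_centralizer).1 hc
  have hcomm : ∀ u ∈ moved E d, ∀ v ∈ moved E d, Commute u v := fun u hu v hv =>
    (Subgroup.mem_centralizer_iff.1 (hcen hu) v (moved_le hD hd hn hv)).symm
  let f : E → G := fun x => d * ((x : G) * d * (x : G)⁻¹)
  have hf : ∀ x : E, f x ∈ moved E d := fun x => Subgroup.subset_closure ⟨x, x.2, rfl⟩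
  have hfmul : ∀ x y : E, f (x * y) = f x * f y := by
    intro x y
    have hc2 : Commute (x : G) (f y) := Subgroup.mem_centralizer_iff.1 (hcen (hf y)) x x.2
    calc f (x * y) = d * ((x : G) * d * (d * ((y : G) * d * (y : G)⁻¹)) * (x : G)⁻¹) := by
          show d * ((x : G) * y * d * ((x : G) * y)⁻¹) = _
          rw [show (x : G) * d * (d * ((y : G) * d * (y : G)⁻¹)) =
            (x : G) * (d * d) * ((y : G) * d * (y : G)⁻¹) by simp only [mul_assoc], mul_self hD hd, mul_one]
          group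
      _ = d * ((x : G) * d) * (f y * (x : G)⁻¹) := by simp only [f, mul_assoc]
      _ = d * ((x : G) * d) * ((x : G)⁻¹ * f y) := by rw [← hc2.inv_left.eq]
      _ = f x * f y := by simp only [f, mul_assoc]
  let φ : E →* moved E d := MonoidHom.mk' (fun x => ⟨f x, hf x⟩) fun x y => Subtype.ext (hfmul x y)
  intro x hx
  have h1 : (⟨x, hx⟩ : E) ∈ commutator E := by
    rw [Group.isPerfect_def.1 (Subgroup.isPerfect_iff.2 hE)]
    exact Subgroup.mem_top _
  have hker : commutator E ≤ φ.ker := by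
    rw [commutator_def, Subgroup.commutator_le]
    intro u _ v _
    rw [MonoidHom.mem_ker, map_commutatorElement, commutatorElement_eq_one_iff_mul_comm]
    exact Subtype.ext (hcomm _ (hf u) _ (hf v)).eq
  have h2 : d * (x * d * x⁻¹) = 1 := congrArg Subtype.val (MonoidHom.mem_ker.1 (hker h1))
  have h3 : x * d * x⁻¹ = d := by rw [eq_inv_of_mul_eq_one_right h2, inv_eq hD hd]
  exact (mul_inv_eq_iff_eq_mul.1 h3).symm

omit [Finite G] in
theorem conj_pair {E : Subgroup G} {d : G} {p : G → G → Prop}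
    (hp : ∀ (g a b : G), p a b → p (g * a * g⁻¹) (g * b * g⁻¹))
    (h : ∀ x ∈ E, p d (x * d * x⁻¹)) {x y : G} (hx : x ∈ E) (hy : y ∈ E) :
    p (x * d * x⁻¹) (y * d * y⁻¹) := by
  have h1 := hp x _ _ (h (x⁻¹ * y) (mul_mem (inv_mem hx) hy))
  have e : x * ((x⁻¹ * y) * d * (x⁻¹ * y)⁻¹) * x⁻¹ = y * d * y⁻¹ := by group
  rwa [e] at h1

theorem isSolvable_moved_commute (hD : Trans D) {E : Subgroup G} {d : G} (hd : d ∈ D)
    (h : ∀ x ∈ E, Commute d (x * d * x⁻¹)) : Group.IsSolvable (moved E d) := by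
  let T : Set G := {u | ∃ x ∈ E, u = x * d * x⁻¹}
  have hT : ∀ u ∈ T, ∀ v ∈ T, Commute u v := by
    rintro _ ⟨x, hx, rfl⟩ _ ⟨y, hy, rfl⟩
    exact conj_pair (p := Commute) (fun g a b hab => (Commute.conj_iff g).2 hab) h hx hy
  haveI : IsMulCommutative (Subgroup.closure T) :=
    Subgroup.isMulCommutative_closure (fun u hu v hv => hT u hu v hv)
  refine Lib.Core.isSolvable_of_le ((Subgroup.closure_le _).2 ?_) (Lib.Core.isSolvable_of_isMulCommutative (Subgroup.closure T))
  rintro _ ⟨x, hx, rfl⟩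
  exact mul_mem (Subgroup.subset_closure ⟨1, one_mem E, by simp⟩) (Subgroup.subset_closure ⟨x, hx, rfl⟩)

theorem isSolvable_moved_noncommute (hD : Trans D) {E : Subgroup G} {d : G} (hd : d ∈ D)
    (hn : d ∈ Subgroup.normalizer (E : Set G))
    (h : ∀ x ∈ E, Commute d (x * d * x⁻¹) → d = x * d * x⁻¹) : Group.IsSolvable (moved E d) := by
  let T : Set G := {u | ∃ x ∈ E, u = x * d * x⁻¹}
  have hcl : ∀ u ∈ T, ∀ v ∈ T, cj u v ∈ T := by
    rintro _ ⟨x, hx, rfl⟩ _ ⟨y, hy, rfl⟩
    refine ⟨x * (d * (x⁻¹ * y) * d⁻¹), mul_mem hx ((Subgroup.mem_normalizer_iff.1 hn _).1 (mul_mem (inv_mem hx) hy)), ?_⟩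
    simp only [cj_def, _root_.mul_inv_rev, inv_inv, inv_eq hD hd]
    calc x * d * x⁻¹ * (y * d * y⁻¹) * (x * d * x⁻¹)
        = x * d * (x⁻¹ * y) * d * (y⁻¹ * x) * d * x⁻¹ := by group
      _ = x * d * (x⁻¹ * y) * (d * d) * d * (y⁻¹ * x) * d * x⁻¹ := by rw [mul_self hD hd, mul_one]
      _ = _ := by simp only [mul_assoc]
  obtain ⟨P, hP, hPm, -⟩ := exists_three_of_subset hD (S := T)
    (by rintro _ ⟨x, -, rfl⟩; exact hD.conj x d hd) hcl
    (by
      rintro _ ⟨x, hx, rfl⟩ _ ⟨y, hy, rfl⟩
      exact conj_pair (p := fun a b => Commute a b → a = b)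
        (fun g a b hab hc => by rw [hab ((Commute.conj_iff g).1 hc)]) h hx hy)
    (a := d) ⟨1, one_mem E, by simp⟩
  haveI : Fact (Nat.Prime 3) := ⟨Nat.prime_three⟩
  haveI := hP.isNilpotent
  refine Lib.Core.isSolvable_of_le ((Subgroup.closure_le _).2 ?_) (inferInstance : Group.IsSolvable P)
  rintro _ ⟨x, hx, rfl⟩
  exact hPm _ ⟨x, hx, rfl⟩

/-- A component normalized by `d` on which the conjugates of `d` all commute, or never, centralizes `d`. -/
theorem component_commute_of (hD : Trans D) {L : Subgroup G} (hL : IsComponent L) {d : G} (hd : d ∈ D)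
    (hn : d ∈ Subgroup.normalizer (L : Set G))
    (h : (∀ x ∈ L, Commute d (x * d * x⁻¹)) ∨ ∀ x ∈ L, Commute d (x * d * x⁻¹) → d = x * d * x⁻¹) :
    ∀ x ∈ L, Commute d x := by
  refine commute_of_moved hD hd hn (Lib.Core.IsComponent.commutator_eq hL) ?_
  refine Lib.Core.component_commute_solvable hL ?_ (le_normalizer_moved hD hd)
  exact h.elim (isSolvable_moved_commute hD hd) (isSolvable_moved_noncommute hD hd hn)

/-- Same for the layer. -/
theorem layer_commute_of (hD : Trans D) {d : G} (hd : d ∈ D)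
    (h : (∀ x ∈ layer G, Commute d (x * d * x⁻¹)) ∨
      ∀ x ∈ layer G, Commute d (x * d * x⁻¹) → d = x * d * x⁻¹) :
    ∀ x ∈ layer G, Commute d x := by
  haveI : (layer G).Characteristic := by
    refine Subgroup.characteristic_iff_map_le.2 fun e => ?_
    exact Lib.Core.map_layer_le_of_equiv e
  have hn : d ∈ Subgroup.normalizer ((layer G : Subgroup G) : Set G) := by
    rw [Subgroup.normalizer_eq_top]
    exact Subgroup.mem_top d
  refine commute_of_moved hD hd hn Lib.Core.layer_perfect ?_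
  have hs : Group.IsSolvable (moved (layer G) d) :=
    h.elim (isSolvable_moved_commute hD hd) (isSolvable_moved_noncommute hD hd hn)
  exact Lib.Core.commutator_sSup_left_eq_bot fun L hL =>
    Lib.Core.component_commute_solvable hL hs ((Lib.Core.le_layer hL).trans (le_normalizer_moved hD hd))

omit [Finite G] in
theorem le_center_of_commute (hD : Trans D) {N : Subgroup G} (h : ∀ d ∈ D, ∀ x ∈ N, Commute d x) :
    N ≤ Subgroup.center G := by
  intro x hx
  rw [Subgroup.mem_center_iff]
  intro g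
  have hle : Subgroup.closure D ≤ Subgroup.centralizer {x} := by
    rw [Subgroup.closure_le]
    exact fun d hd => Subgroup.mem_centralizer_singleton_iff.2 (h d hd x hx).eq
  exact Subgroup.mem_centralizer_singleton_iff.1 (hle (hD.gen ▸ Subgroup.mem_top g))

theorem pCore_le_center_of_three_lt (hD : Trans D) {p : ℕ} (hp : p.Prime) (h3 : 3 < p) :
    pCore p G ≤ Subgroup.center G := by
  haveI : Fact p.Prime := ⟨hp⟩
  refine le_center_of_commute hD fun d hd x hx => ?_
  have hm : d * (x * d * x⁻¹) ∈ pCore p G := mul_conj_mem hD hd hx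
  obtain ⟨k, hk⟩ := Lib.Core.pCore_isPGroup p G ⟨_, hm⟩
  have hk' : orderOf (d * (x * d * x⁻¹)) ∣ p ^ k := orderOf_dvd_of_pow_eq_one (by simpa using congrArg Subtype.val hk)
  have h1 : orderOf (d * (x * d * x⁻¹)) = 1 := by
    rcases hD.set.2 d hd _ (hD.conj x d hd) with h | h
    · exact Nat.eq_one_of_dvd_coprimes (((Nat.coprime_primes hp Nat.prime_two).2 (by omega)).pow_left k) hk'
        (orderOf_dvd_of_pow_eq_one h)
    · exact Nat.eq_one_of_dvd_coprimes (((Nat.coprime_primes hp Nat.prime_three).2 (by omega)).pow_left k) hk'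
        (orderOf_dvd_of_pow_eq_one h)
  rw [orderOf_eq_one_iff] at h1
  have h2 : x * d * x⁻¹ = d := by rw [eq_inv_of_mul_eq_one_right h1, inv_eq hD hd]
  exact (mul_inv_eq_iff_eq_mul.1 h2).symm

theorem exists_moved (hD : Trans D) {p : ℕ} (h : ¬ pCore p G ≤ Subgroup.center G) {d : G} (hd : d ∈ D) :
    ∃ g ∈ pCore p G, g * d * g⁻¹ ≠ d := by
  by_contra hcon
  push Not at hcon
  refine h (le_center_of_commute hD fun e he x hx => ?_)
  obtain ⟨u, rfl⟩ := hD.trans d hd e he
  have h1 : u⁻¹ * x * u * d * (u⁻¹ * x * u)⁻¹ = d :=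
    hcon _ (by simpa using Subgroup.Normal.conj_mem inferInstance x hx u⁻¹)
  have h2 : Commute (u⁻¹ * x * u) d := mul_inv_eq_iff_eq_mul.1 h1
  have h3 := ((Commute.conj_iff u).2 h2).symm
  simpa [mul_assoc] using h3

theorem not_both_noncentral (hD : Trans D) {d : G} (hd : d ∈ D) (h2 : ¬ pCore 2 G ≤ Subgroup.center G)
    (h3 : ¬ pCore 3 G ≤ Subgroup.center G) : False := by
  obtain ⟨g, hg, hgd⟩ := exists_moved hD h2 hd
  obtain ⟨k, hk, hkd⟩ := exists_moved hD h3 hd
  have hv := hD.conj g d hd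
  have hw := hD.conj k d hd
  have hV : SameComm D d (g * d * g⁻¹) := (sameComm_iff hD hd hv).2 (mul_conj_mem hD hd hg)
  have hW : perp D d = perp D (k * d * k⁻¹) := (samePerp_iff hD hd hw).2 (mul_conj_mem hD hd hk)
  have h1 : g * d * g⁻¹ ∈ perp D d := ⟨hv, hgd, commute_of_sameComm hd hV⟩
  rw [hW] at h1
  exact hkd (eq_of_samePerp_commute hw hW ((hV _ hw).2 h1.2.2.symm)).symm

theorem commute_layer_pCore {p : ℕ} [Fact p.Prime] {x r : G} (hx : x ∈ layer G) (hr : r ∈ pCore p G) :
    Commute x r := by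
  have h := (Lib.Core.commutator_layer_fitting (G := G))
  rw [Subgroup.commutator_eq_bot_iff_le_centralizer] at h
  exact (Subgroup.mem_centralizer_iff.1 (h hx) r (Lib.Core.pCore_le_fittingSubgroup p G hr)).symm

theorem mul_conj_mem_layer (hD : Trans D) {d x : G} (hd : d ∈ D) (hx : x ∈ layer G) :
    d * (x * d * x⁻¹) ∈ layer G := by
  haveI : (layer G).Characteristic :=
    Subgroup.characteristic_iff_map_le.2 fun e => Lib.Core.map_layer_le_of_equiv e
  exact mul_conj_mem hD hd hx

theorem layer_eq_bot_of_two (hD : Trans D) (h2 : ¬ pCore 2 G ≤ Subgroup.center G) : layer G = ⊥ := by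
  haveI : Fact (Nat.Prime 2) := ⟨Nat.prime_two⟩
  have hz : layer G ≤ Subgroup.center G := by
    refine le_center_of_commute hD fun d hd => layer_commute_of hD hd (Or.inl fun x hx => ?_)
    obtain ⟨g, hg, hgd⟩ := exists_moved hD h2 hd
    by_contra hn
    set e := x * d * x⁻¹ with he
    set v := g * d * g⁻¹ with hv'
    have hed : e ∈ D := hD.conj x d hd
    have hvD : v ∈ D := hD.conj g d hd
    have hV : SameComm D d v := (sameComm_iff hD hd hvD).2 (mul_conj_mem hD hd hg)
    have hdv : Commute d v := commute_of_sameComm hd hV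
    have h3 := orderOf_mul hD d e hd hed hn
    have hcom : Commute (e * d) (d * v) := by
      have h1 : Commute (d * e) (d * v) :=
        commute_layer_pCore (p := 2) (mul_conj_mem_layer hD hd hx) (mul_conj_mem hD hd hg)
      rw [show e * d = (d * e)⁻¹ by rw [_root_.mul_inv_rev, inv_eq hD hd, inv_eq hD hed]]
      exact h1.inv_left
    have hev : e * v = (e * d) * (d * v) := by
      rw [show e * d * (d * v) = e * (d * d) * v by simp only [mul_assoc], mul_self hD hd, mul_one]
    have hr2 : (d * v) ^ 2 = 1 := by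
      rw [hdv.mul_pow, pow_two, pow_two, mul_self hD hd, mul_self hD hvD, one_mul]
    have ht3 : (e * d) ^ 3 = 1 := orderOf_mul hD e d hed hd fun h => hn h.symm
    rcases hD.set.2 e hed v hvD with h | h
    · rw [hev, hcom.mul_pow, hr2, mul_one] at h
      rw [pow_succ, h, one_mul] at ht3
      exact hn (by rw [eq_inv_of_mul_eq_one_left ht3, inv_eq hD hd])
    · rw [hev, hcom.mul_pow, ht3, one_mul, pow_succ, hr2, one_mul] at h
      exact hgd (by rw [eq_inv_of_mul_eq_one_right h, inv_eq hD hd])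
  exact le_bot_iff.1 (le_of_eq_of_le Lib.Core.layer_perfect.symm ((Subgroup.commutator_mono hz le_rfl).trans
    ((Subgroup.commutator_eq_bot_iff_le_centralizer).2 (fun z hz' =>
      Subgroup.mem_centralizer_iff.2 fun y _ => Subgroup.mem_center_iff.1 hz' y)).le))

theorem layer_eq_bot_of_three (hD : Trans D) (h3 : ¬ pCore 3 G ≤ Subgroup.center G) : layer G = ⊥ := by
  haveI : Fact (Nat.Prime 3) := ⟨Nat.prime_three⟩
  have hz : layer G ≤ Subgroup.center G := by
    refine le_center_of_commute hD fun d hd => layer_commute_of hD hd (Or.inr fun x hx hde => ?_)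
    obtain ⟨g, hg, hgd⟩ := exists_moved hD h3 hd
    by_contra hn
    set e := x * d * x⁻¹ with he
    set w := g * d * g⁻¹ with hw'
    have hed : e ∈ D := hD.conj x d hd
    have hwD : w ∈ D := hD.conj g d hd
    have hm : d * w ∈ pCore 3 G := mul_conj_mem hD hd hg
    have hdw : ¬ Commute d w := fun h => hgd (eq_of_mem_three hD hd hwD hm h).symm
    have hcom : Commute (w * d) (d * e) := by
      have h1 : Commute (d * e) (d * w) :=
        commute_layer_pCore (p := 3) (mul_conj_mem_layer hD hd hx) hm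
      rw [show w * d = (d * w)⁻¹ by rw [_root_.mul_inv_rev, inv_eq hD hd, inv_eq hD hwD]]
      exact h1.symm.inv_left
    have hwe : w * e = (w * d) * (d * e) := by
      rw [show w * d * (d * e) = w * (d * d) * e by simp only [mul_assoc], mul_self hD hd, mul_one]
    have ht2 : (d * e) ^ 2 = 1 := by
      rw [hde.mul_pow, pow_two, pow_two, mul_self hD hd, mul_self hD hed, one_mul]
    have ht3 : (w * d) ^ 3 = 1 := orderOf_mul hD w d hwD hd fun h => hdw h.symm
    rcases hD.set.2 w hwD e hed with h | h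
    · rw [hwe, hcom.mul_pow, ht2, mul_one] at h
      rw [pow_succ, h, one_mul] at ht3
      exact hdw (by rw [eq_inv_of_mul_eq_one_left ht3, inv_eq hD hd])
    · rw [hwe, hcom.mul_pow, ht3, one_mul, pow_succ, ht2, one_mul] at h
      exact hn (by rw [eq_inv_of_mul_eq_one_right h, inv_eq hD hd])
  exact le_bot_iff.1 (le_of_eq_of_le Lib.Core.layer_perfect.symm ((Subgroup.commutator_mono hz le_rfl).trans
    ((Subgroup.commutator_eq_bot_iff_le_centralizer).2 (fun z hz' =>
      Subgroup.mem_centralizer_iff.2 fun y _ => Subgroup.mem_center_iff.1 hz' y)).le))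

theorem fitting_le_center (hD : Trans D) (h2 : pCore 2 G ≤ Subgroup.center G)
    (h3 : pCore 3 G ≤ Subgroup.center G) : fittingSubgroup G ≤ Subgroup.center G := by
  rw [Lib.Core.fittingSubgroup_eq_iSup_pCore]
  refine iSup_le fun p => ?_
  by_cases hp2 : (p : ℕ) = 2
  · rw [hp2]; exact h2
  by_cases hp3 : (p : ℕ) = 3
  · rw [hp3]; exact h3
  have := p.2.two_le
  exact pCore_le_center_of_three_lt hD p.2 (by omega)

theorem layer_ne_bot (hD : Trans D) (hne : ∃ a ∈ D, ∃ b ∈ D, a ≠ b) (h2 : pCore 2 G ≤ Subgroup.center G)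
    (h3 : pCore 3 G ≤ Subgroup.center G) : layer G ≠ ⊥ := by
  intro h
  have hF : generalizedFittingSubgroup G ≤ Subgroup.center G := by
    rw [Lib.Core.generalizedFitting_eq_fitting_of_layer_eq_bot h]
    exact fitting_le_center hD h2 h3
  obtain ⟨d, hd⟩ := hD.ne
  obtain ⟨e, he, hn⟩ := exists_noncommuting hD hne hd
  have hmem : ∀ g : G, g ∈ Subgroup.centralizer (generalizedFittingSubgroup G : Set G) := fun g =>
    Subgroup.mem_centralizer_iff.2 fun y hy => (Subgroup.mem_center_iff.1 (hF hy) g).symm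
  exact hn (Subgroup.mem_center_iff.1 (hF (Lib.Core.centralizer_generalizedFitting_le (hmem e))) d)

theorem component_normal (hD : Trans D) {L : Subgroup G} (hL : IsComponent L) : L.Normal := by
  rw [← Subgroup.normalizer_eq_top_iff, eq_top_iff, ← hD.gen, Subgroup.closure_le]
  intro d hd
  by_contra hn
  set L' := L.map (MulAut.conj d).toMonoidHom with hL'
  have hne : L' ≠ L := fun h => hn (Subgroup.mem_normalizer_fintype fun x hx => h.le ⟨x, hx, rfl⟩)
  have hcomm := Lib.Core.component_commute (Lib.Core.IsComponent.map_conj hL d) hL hne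
  rw [Subgroup.commutator_eq_bot_iff_le_centralizer] at hcomm
  have hpow : ∀ x ∈ L, ∀ k : ℕ, (d * (x * d * x⁻¹)) ^ k = 1 → ∀ y ∈ L, Commute (x ^ k) y := by
    intro x hx k hk y hy
    have hm : d * x * d⁻¹ ∈ L' := ⟨x, hx, rfl⟩
    have hc : Commute (d * x * d⁻¹) x⁻¹ := (Subgroup.mem_centralizer_iff.1 (hcomm hm) x⁻¹ (inv_mem hx)).symm
    have e : d * (x * d * x⁻¹) = d * x * d⁻¹ * x⁻¹ := by rw [inv_eq hD hd]; simp only [mul_assoc]
    rw [e, hc.mul_pow, inv_pow, mul_inv_eq_one] at hk
    exact (Subgroup.mem_centralizer_iff.1 (hcomm (hk ▸ pow_mem hm k : x ^ k ∈ L')) y hy).symm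
  have hsol : Group.IsSolvable (⊤ : Subgroup (L ⧸ Subgroup.center L)) := by
    refine isSolvable_of_sq_or_cube fun t _ => ?_
    obtain ⟨⟨x, hx⟩, rfl⟩ := QuotientGroup.mk_surjective t
    refine (hD.set.2 d hd _ (hD.conj x d hd)).imp (fun h => ?_) fun h => ?_ <;>
    · rw [← QuotientGroup.mk_pow, QuotientGroup.eq_one_iff, Subgroup.mem_center_iff]
      exact fun y => Subtype.ext (by simpa using (hpow x hx _ h y y.2).symm.eq)
  haveI : Group.IsSolvable (L ⧸ Subgroup.center L) :=
    Group.isSolvable_of_surjective (f := (⊤ : Subgroup (L ⧸ Subgroup.center L)).subtype) fun g => ⟨⟨g, trivial⟩, rfl⟩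
  haveI : Group.IsSolvable (Subgroup.center L) := Lib.Core.isSolvable_of_isMulCommutative _
  exact Lib.Core.IsComponent.not_solvable hL
    (Group.isSolvable_of_ker_le_range (Subgroup.center L).subtype (QuotientGroup.mk' (Subgroup.center L))
      (by rw [QuotientGroup.ker_mk', Subgroup.range_subtype]))

theorem exists_not_commute_component (hD : Trans D) {L : Subgroup G} (hL : IsComponent L) {d : G} (hd : d ∈ D) :
    ∃ x ∈ L, ¬ Commute d x := by
  by_contra h
  push Not at h
  have hn := component_normal hD hL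
  have hcen : L ≤ Subgroup.center G := by
    refine le_center_of_commute hD fun e he x hx => ?_
    obtain ⟨u, rfl⟩ := hD.trans d hd e he
    have h3 := (Commute.conj_iff u).2 (h (u⁻¹ * x * u) (by simpa using hn.conj_mem x hx u⁻¹))
    simpa [mul_assoc] using h3
  haveI : IsMulCommutative L := ⟨⟨fun a b => Subtype.ext (Subgroup.mem_center_iff.1 (hcen b.2) a)⟩⟩
  exact Lib.Core.IsComponent.not_solvable hL (Lib.Core.isSolvable_of_isMulCommutative L)

theorem component_unique (hD : Trans D) {L M : Subgroup G} (hL : IsComponent L) (hM : IsComponent M) : L = M := by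
  by_contra hne
  obtain ⟨d, hd⟩ := hD.ne
  have hmix : ∀ K : Subgroup G, IsComponent K →
      (∃ x ∈ K, ¬ Commute d (x * d * x⁻¹)) ∧ ∃ y ∈ K, Commute d (y * d * y⁻¹) ∧ d ≠ y * d * y⁻¹ := by
    intro K hK
    have hn := component_normal hD hK
    have hdn : d ∈ Subgroup.normalizer (K : Set G) := by
      rw [Subgroup.normalizer_eq_top]; exact Subgroup.mem_top d
    obtain ⟨x, hx, hnc⟩ := exists_not_commute_component hD hK hd
    constructor <;> by_contra h <;> push Not at h
    · exact hnc (component_commute_of hD hK hd hdn (Or.inl h) x hx)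
    · exact hnc (component_commute_of hD hK hd hdn (Or.inr h) x hx)
  obtain ⟨⟨x, hx, hxn⟩, -⟩ := hmix L hL
  obtain ⟨-, y, hy, hyc, hyne⟩ := hmix M hM
  have hcomm := Lib.Core.component_commute hL hM hne
  rw [Subgroup.commutator_eq_bot_iff_le_centralizer] at hcomm
  have hfx : d * (x * d * x⁻¹) ∈ L := haveI := component_normal hD hL; mul_conj_mem hD hd hx
  have hfy : d * (y * d * y⁻¹) ∈ M := haveI := component_normal hD hM; mul_conj_mem hD hd hy
  have hc2 : Commute x (d * (y * d * y⁻¹)) := (Subgroup.mem_centralizer_iff.1 (hcomm hx) _ hfy).symm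
  have hc : Commute (d * (x * d * x⁻¹)) (d * (y * d * y⁻¹)) :=
    (Subgroup.mem_centralizer_iff.1 (hcomm hfx) _ hfy).symm
  have e : d * ((x * y) * d * (x * y)⁻¹) = d * (x * d * x⁻¹) * (d * (y * d * y⁻¹)) := by
    calc d * ((x * y) * d * (x * y)⁻¹) = d * (x * d * (d * (y * d * y⁻¹)) * x⁻¹) := by
          rw [show x * d * (d * (y * d * y⁻¹)) = x * (d * d) * (y * d * y⁻¹) by simp only [mul_assoc],
            mul_self hD hd, mul_one]
          group
      _ = d * (x * d) * ((d * (y * d * y⁻¹)) * x⁻¹) := by simp only [mul_assoc]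
      _ = d * (x * d) * (x⁻¹ * (d * (y * d * y⁻¹))) := by rw [← hc2.inv_left.eq]
      _ = _ := by simp only [mul_assoc]
  have h3 := orderOf_mul hD d _ hd (hD.conj x d hd) hxn
  have h2 : (d * (y * d * y⁻¹)) ^ 2 = 1 := by
    rw [hyc.mul_pow, pow_two, pow_two, mul_self hD hd, mul_self hD (hD.conj y d hd), one_mul]
  rcases hD.set.2 d hd _ (hD.conj (x * y) d hd) with h | h
  · rw [e, hc.mul_pow, h2, mul_one] at h
    rw [pow_succ, h, one_mul] at h3
    exact hxn (by rw [eq_inv_of_mul_eq_one_right h3, inv_eq hD hd])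
  · rw [e, hc.mul_pow, h3, one_mul, pow_succ, h2, one_mul] at h
    exact hyne (by rw [eq_inv_of_mul_eq_one_right h, inv_eq hD hd])

/-- With central cores at two and three the layer is a single quasisimple normal subgroup. -/
theorem exists_quasisimple (hD : Trans D) (hne : ∃ a ∈ D, ∃ b ∈ D, a ≠ b) (h2 : pCore 2 G ≤ Subgroup.center G)
    (h3 : pCore 3 G ≤ Subgroup.center G) :
    ∃ L : Subgroup G, L.Normal ∧ IsComponent L ∧ layer G = L ∧
      generalizedFittingSubgroup G = L ⊔ Subgroup.center G := by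
  obtain ⟨L, hL⟩ : ∃ L : Subgroup G, IsComponent L := by
    by_contra h
    push Not at h
    exact layer_ne_bot hD hne h2 h3 (Lib.Core.layer_eq_bot_iff.2 h)
  have hlayer : layer G = L :=
    le_antisymm (sSup_le fun M hM => (component_unique hD hM hL).le) (Lib.Core.le_layer hL)
  refine ⟨L, component_normal hD hL, hL, hlayer, ?_⟩
  show layer G ⊔ fittingSubgroup G = _
  rw [hlayer, le_antisymm (fitting_le_center hD h2 h3) Lib.Core.center_le_fittingSubgroup]

/-- Modulo that subgroup no two classes commute. -/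
theorem quotient_width_one (hD : Trans D) {L : Subgroup G} (hL : IsComponent L) [L.Normal] {a b : G}
    (ha : a ∈ D) (hb : b ∈ D) (hab : a * b * a⁻¹ * b⁻¹ ∈ L) : a * b ∈ L := by
  by_contra hne
  have hab2 : (a * b) ^ 2 ∈ L := by
    rw [inv_eq hD ha, inv_eq hD hb] at hab
    simpa [pow_two, mul_assoc] using hab
  have hmk : ∀ (u : G) (x : G), x ∈ L → ((x * u * x⁻¹ : G) : G ⧸ L) = (u : G ⧸ L) := fun u x hx => by
    rw [QuotientGroup.mk_mul, QuotientGroup.mk_mul, QuotientGroup.mk_inv, (QuotientGroup.eq_one_iff x).2 hx,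
      one_mul, inv_one, mul_one]
  have hcm : ∀ x ∈ L, Commute (x * a * x⁻¹) b := by
    intro x hx
    by_contra hn
    have h3 := orderOf_mul hD _ b (hD.conj x a ha) hb hn
    refine hne ((QuotientGroup.eq_one_iff (a * b)).1 ?_)
    have e3 : ((a * b : G) : G ⧸ L) ^ 3 = 1 := by
      rw [QuotientGroup.mk_mul, ← hmk a x hx, ← QuotientGroup.mk_mul, ← QuotientGroup.mk_pow, h3,
        QuotientGroup.mk_one]
    have e2 : ((a * b : G) : G ⧸ L) ^ 2 = 1 := by
      rw [← QuotientGroup.mk_pow, (QuotientGroup.eq_one_iff _).2 hab2]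
    rwa [pow_succ, e2, one_mul] at e3
  have han : a ∈ Subgroup.normalizer (L : Set G) := by
    rw [Subgroup.normalizer_eq_top]; exact Subgroup.mem_top a
  have hAL : moved L a ≤ L := moved_le hD ha han
  haveI hAn : ((moved L a).subgroupOf L).Normal :=
    (Subgroup.normal_subgroupOf_iff_le_normalizer hAL).2 (le_normalizer_moved hD ha)
  have hAb : ∀ z ∈ moved L a, Commute z b := by
    intro z hz
    induction hz using Subgroup.closure_induction with
    | mem z hz =>
      obtain ⟨x, hx, rfl⟩ := hz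
      exact Commute.mul_left (by simpa using hcm 1 (one_mem L)) (hcm x hx)
    | one => exact Commute.one_left b
    | mul u v _ _ hu hv => exact hu.mul_left hv
    | inv u _ hu => exact hu.inv_left
  rcases Lib.Core.quasisimple_normal hL.2 (N := (moved L a).subgroupOf L) with h | h
  · obtain ⟨x, hx, hn⟩ := exists_not_commute_component hD hL ha
    refine hn (commute_of_moved hD ha han (Lib.Core.IsComponent.commutator_eq hL) ?_ x hx)
    rw [Subgroup.commutator_eq_bot_iff_le_centralizer]
    intro u hu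
    refine Subgroup.mem_centralizer_iff.2 fun z hz => ?_
    exact congrArg Subtype.val (Subgroup.mem_center_iff.1 (h (show (⟨z, hAL hz⟩ : L) ∈ _ from hz)) ⟨u, hu⟩).symm
  · rw [Subgroup.subgroupOf_eq_top] at h
    obtain ⟨x, hx, hn⟩ := exists_not_commute_component hD hL hb
    exact hn (hAb x (h hx)).symm

end Cfsg.Lib.Fischer
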