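import Cfsg.Prelude.Def_FischerSpaces

/-!
# The involutions of a Fischer space
-/

set_option autoImplicit false

namespace Cfsg.Lib.Fischer

open Cfsg

universe u

variable {X : Type u} {L : Set (Set X)}

/-- `tm` computes the third points of `M` and preserves its lines. -/
structure PlaneModel {Y : Type*} (M : Set (Set Y)) (tm : Y → Y → Y) : Prop where
  self : ∀ x, tm x x = x
  third : ∀ x y z, x ≠ y → z ≠ x → z ≠ y → ({x, y, z} : Set Y) ∈ M → tm x y = z
  moved : ∀ x y, tm x y ≠ y → ∃ m ∈ M, x ∈ m ∧ y ∈ m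
  auto : ∀ x, ∀ m ∈ M, {y | tm x y ∈ m} ∈ M

/-- Third point for the affine plane. -/
def affineThird (x y : Fin 2 → ZMod 3) : Fin 2 → ZMod 3 := -(x + y)

theorem affine_model : PlaneModel affinePlaneThree affineThird := by
  refine ⟨fun x => ?_, ?_, ?_, ?_⟩
  · funext i; exact (by decide : ∀ p : ZMod 3, -(p + p) = p) (x i)
  · rintro x y z hxy hzx hzy ⟨v, w, hw, he⟩
    have hx : x ∈ ({x, y, z} : Set (Fin 2 → ZMod 3)) := by simp
    have hy : y ∈ ({x, y, z} : Set (Fin 2 → ZMod 3)) := by simp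
    have hz : z ∈ ({x, y, z} : Set (Fin 2 → ZMod 3)) := by simp
    rw [he] at hx hy hz
    obtain ⟨a, rfl⟩ := hx
    obtain ⟨b, rfl⟩ := hy
    obtain ⟨c, rfl⟩ := hz
    funext i
    have key : ∀ a b c p q : ZMod 3, a ≠ b → c ≠ a → c ≠ b → -(p + a * q + (p + b * q)) = p + c * q := by decide
    exact key a b c (v i) (w i) (fun e => hxy (by rw [e])) (fun e => hzx (by rw [e])) (fun e => hzy (by rw [e]))
  · intro x y h
    have hne : x ≠ y := fun e => h (by
      subst e; funext i; exact (by decide : ∀ p : ZMod 3, -(p + p) = p) (x i))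
    exact ⟨_, ⟨x, y - x, sub_ne_zero.2 hne.symm, rfl⟩, ⟨0, by simp⟩, ⟨1, by simp⟩⟩
  · rintro x m ⟨v, w, hw, rfl⟩
    refine ⟨-(x + v), -w, neg_ne_zero.2 hw, Set.ext fun y => exists_congr fun c => ?_⟩
    simp only [affineThird]
    constructor
    · intro h
      have e : y = -(x + (v + c • w)) := by rw [← h]; abel
      rw [e]; module
    · intro h; rw [h]; module

/-- Third point for the dual affine plane. -/
def dualThird (x y : DualAffinePoint) : DualAffinePoint :=
  if h : (symmDiff x.val y.val).card = 2 then ⟨symmDiff x.val y.val, h⟩ else y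

theorem dual_self : ∀ x, dualThird x x = x := by decide +kernel

theorem dual_third : ∀ x y z : DualAffinePoint, ∀ i : Fin 4, x ≠ y → z ≠ x → z ≠ y → i ∉ x.val → i ∉ y.val →
    i ∉ z.val → dualThird x y = z := by decide +kernel

theorem dual_moved : ∀ x y, dualThird x y ≠ y → ∃ i : Fin 4, i ∉ x.val ∧ i ∉ y.val := by decide +kernel

theorem dual_auto : ∀ x : DualAffinePoint, ∀ i : Fin 4, ∃ j : Fin 4, ∀ y, j ∉ y.val ↔ i ∉ (dualThird x y).val := by
  decide +kernel

theorem dual_model : PlaneModel dualAffinePlaneTwo dualThird := by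
  refine ⟨dual_self, ?_, ?_, ?_⟩
  · rintro x y z hxy hzx hzy ⟨i, he⟩
    have h : ∀ u ∈ ({x, y, z} : Set DualAffinePoint), i ∉ u.val := fun u hu => by rw [he] at hu; exact hu
    exact dual_third x y z i hxy hzx hzy (h x (by simp)) (h y (by simp)) (h z (by simp))
  · intro x y h
    obtain ⟨i, hi⟩ := dual_moved x y h
    exact ⟨_, ⟨i, rfl⟩, hi⟩
  · rintro x m ⟨i, rfl⟩
    obtain ⟨j, hj⟩ := dual_auto x i
    exact ⟨j, Set.ext fun y => (hj y).symm⟩

variable (hL : IsFischerSpace L)

include hL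

theorem three_of_mem {l : Set X} (hl : l ∈ L) {x y : X} (hx : x ∈ l) (hy : y ∈ l) (hne : x ≠ y) :
    ∃ z, z ≠ x ∧ z ≠ y ∧ l = {x, y, z} := by
  obtain ⟨a, b, c, hab, hac, hbc, rfl⟩ := Set.ncard_eq_three.1 (hL.2.1 l hl)
  simp only [Set.mem_insert_iff, Set.mem_singleton_iff] at hx hy
  rcases hx with rfl | rfl | rfl <;> rcases hy with rfl | rfl | rfl
  all_goals first
    | exact absurd rfl hne
    | exact ⟨a, by first | assumption | exact Ne.symm ‹_›, by first | assumption | exact Ne.symm ‹_›,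
        by ext u; simp only [Set.mem_insert_iff, Set.mem_singleton_iff] <;> tauto⟩
    | exact ⟨b, by first | assumption | exact Ne.symm ‹_›, by first | assumption | exact Ne.symm ‹_›,
        by ext u; simp only [Set.mem_insert_iff, Set.mem_singleton_iff] <;> tauto⟩
    | exact ⟨c, by first | assumption | exact Ne.symm ‹_›, by first | assumption | exact Ne.symm ‹_›,
        by ext u; simp only [Set.mem_insert_iff, Set.mem_singleton_iff] <;> tauto⟩

theorem lineMap_eq {x y z : X} (hzx : z ≠ x) (hzy : z ≠ y) (hxy : x ≠ y) (h : ({x, y, z} : Set X) ∈ L) :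
    LineSystem.lineMap L x y = z := by
  classical
  have hex : ∃ w : X, w ≠ x ∧ w ≠ y ∧ x ≠ y ∧ ({x, y, w} : Set X) ∈ L := ⟨z, hzx, hzy, hxy, h⟩
  have e : LineSystem.lineMap L x y = hex.choose := by rw [LineSystem.lineMap, dif_pos hex]
  obtain ⟨h1, h2, -, h4⟩ := hex.choose_spec
  have he := hL.1 _ h4 _ h x y hxy (by simp) (by simp) (by simp) (by simp)
  have hm : hex.choose ∈ ({x, y, z} : Set X) := he ▸ (by simp)
  rw [e]
  simpa [h1, h2] using hm

omit hL in
theorem lineMap_fix {x y : X} (h : ¬ LineSystem.Collinear L x y) : LineSystem.lineMap L x y = y := by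
  classical
  rw [LineSystem.lineMap, dif_neg]
  rintro ⟨z, -, -, hxy, hm⟩
  exact h ⟨hxy, _, hm, by simp, by simp⟩

theorem lineMap_moves {x y : X} (h : LineSystem.Collinear L x y) :
    ∃ z, z ≠ x ∧ z ≠ y ∧ ({x, y, z} : Set X) ∈ L ∧ LineSystem.lineMap L x y = z := by
  obtain ⟨hne, l, hl, hx, hy⟩ := h
  obtain ⟨z, h1, h2, rfl⟩ := three_of_mem hL hl hx hy hne
  exact ⟨z, h1, h2, hl, lineMap_eq hL h1 h2 hne hl⟩

theorem lineMap_invol (x y : X) : LineSystem.lineMap L x (LineSystem.lineMap L x y) = y := by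
  by_cases h : LineSystem.Collinear L x y
  · obtain ⟨z, h1, h2, hl, e⟩ := lineMap_moves hL h
    rw [e]
    refine lineMap_eq hL h.1.symm h2.symm h1.symm ?_
    rwa [Set.pair_comm z y]
  · rw [lineMap_fix h, lineMap_fix h]

omit hL in
theorem lineMap_self (x : X) : LineSystem.lineMap L x x = x := lineMap_fix fun h => h.1 rfl

theorem image_line_of_plane {P : Set X} (hP : LineSystem.IsSubspace L P) {Y : Type*} {M : Set (Set Y)}
    {tm : Y → Y → Y} (hM : PlaneModel M tm) (hiso : LineSystem.Isomorphic (LineSystem.restrict L P) M) {x : X}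
    (hx : x ∈ P) {l : Set X} (hl : l ∈ L) (hlP : l ⊆ P) :
    {y | LineSystem.lineMap L x y ∈ l} ∈ L := by
  obtain ⟨e, he⟩ := hiso
  have hclose : ∀ p : X, p ∈ P → ∃ hq : LineSystem.lineMap L x p ∈ P, ∀ hp : p ∈ P,
      e ⟨LineSystem.lineMap L x p, hq⟩ = tm (e ⟨x, hx⟩) (e ⟨p, hp⟩) := by
    intro p hp
    by_cases hc : LineSystem.Collinear L x p
    · obtain ⟨q, h1, h2, hm, eq⟩ := lineMap_moves hL hc
      have hsub : ({x, p, q} : Set X) ⊆ P := hP _ hm x hx p hp hc.1 (by simp) (by simp)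
      have hq : q ∈ P := hsub (by simp)
      refine ⟨eq.symm ▸ hq, fun _ => ?_⟩
      have hmM : ({e ⟨x, hx⟩, e ⟨p, hp⟩, e ⟨q, hq⟩} : Set Y) ∈ M := by
        have := (he _).1 ⟨_, hm, hsub, rfl⟩
        convert this using 1
        ext y
        obtain ⟨⟨w, hw⟩, rfl⟩ := e.surjective y
        simp [Subtype.ext_iff]
      have hne : ∀ {u v : X} (hu : u ∈ P) (hv : v ∈ P), u ≠ v → e ⟨u, hu⟩ ≠ e ⟨v, hv⟩ :=
        fun hu hv h e' => h (congrArg Subtype.val (e.injective e'))
      rw [hM.third _ _ _ (hne hx hp hc.1) (hne hq hx h1) (hne hq hp h2) hmM]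
      exact congrArg e (Subtype.ext eq)
    · have hfix : LineSystem.lineMap L x p = p := lineMap_fix hc
      refine ⟨hfix.symm ▸ hp, fun _ => ?_⟩
      rw [show (⟨LineSystem.lineMap L x p, hfix.symm ▸ hp⟩ : P) = ⟨p, hp⟩ from Subtype.ext hfix]
      by_contra hne
      obtain ⟨m, hm, hxm, hpm⟩ := hM.moved _ _ (Ne.symm hne)
      obtain ⟨k, hk, hkP, hke⟩ : e.symm '' m ∈ LineSystem.restrict L P := (he _).2 (by rwa [Equiv.image_symm_image] at *)
      have hxk : (⟨x, hx⟩ : P) ∈ e.symm '' m := ⟨_, hxm, e.symm_apply_apply _⟩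
      have hpk : (⟨p, hp⟩ : P) ∈ e.symm '' m := ⟨_, hpm, e.symm_apply_apply _⟩
      rw [hke] at hxk hpk
      refine hc ⟨fun h => hne ?_, k, hk, hxk, hpk⟩
      subst h
      exact (hM.self _).symm
  have hmem := hM.auto (e ⟨x, hx⟩) _ ((he _).1 ⟨l, hl, hlP, rfl⟩)
  set m' := {y | tm (e ⟨x, hx⟩) y ∈ e '' {z : P | (z : X) ∈ l}} with hm'
  obtain ⟨k, hk, hkP, hke⟩ : e.symm '' m' ∈ LineSystem.restrict L P := (he _).2 (by
    have : e '' (e.symm '' m') = m' := by rw [← Set.image_comp]; simp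
    rw [this]; exact hmem)
  convert hk using 1
  ext y
  simp only [Set.mem_setOf_eq]
  constructor
  · intro hy
    have hyP : y ∈ P := by
      have := (hclose _ (hlP hy)).1
      rwa [lineMap_invol hL] at this
    obtain ⟨hq, hqe⟩ := hclose y hyP
    have h1 : (⟨y, hyP⟩ : P) ∈ e.symm '' m' := ⟨e ⟨y, hyP⟩, ⟨⟨_, hq⟩, hy, hqe hyP⟩, e.symm_apply_apply _⟩
    rw [hke] at h1
    exact h1
  · intro hy
    have hyP := hkP hy
    obtain ⟨hq, hqe⟩ := hclose y hyP
    have h1 : (⟨y, hyP⟩ : P) ∈ {z : P | (z : X) ∈ k} := hy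
    rw [← hke] at h1
    obtain ⟨w, ⟨z, hz, hze⟩, hwy⟩ := h1
    rw [Equiv.symm_apply_eq] at hwy
    subst hwy
    rw [← hqe hyP] at hze
    rw [e.injective hze] at hz
    exact hz

theorem image_line (x : X) {l : Set X} (hl : l ∈ L) : {y | LineSystem.lineMap L x y ∈ l} ∈ L := by
  by_cases hxl : x ∈ l
  · convert hl using 1
    ext y
    simp only [Set.mem_setOf_eq]
    have key : ∀ y ∈ l, LineSystem.lineMap L x y ∈ l := fun y hy => by
      by_cases hne : x = y
      · subst hne; rwa [lineMap_self]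
      obtain ⟨z, h1, h2, rfl⟩ := three_of_mem hL hl hxl hy hne
      rw [lineMap_eq hL h1 h2 hne hl]; simp
    exact ⟨fun h => by simpa [lineMap_invol hL] using key _ h, key y⟩
  by_cases hcol : ∃ y ∈ l, LineSystem.Collinear L x y
  · obtain ⟨y, hy, hc⟩ := hcol
    obtain ⟨-, m, hm, hxm, hym⟩ := id hc
    have hne : l ≠ m := fun h => hxl (h ▸ hxm)
    have hsub : LineSystem.IsSubspace L (LineSystem.span L (l ∪ m)) := fun k hk a ha b hb hab hak hbk =>
      Set.subset_sInter fun T hT => hT.2 k hk a (ha T hT) b (hb T hT) hab hak hbk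
    have hin : l ∪ m ⊆ LineSystem.span L (l ∪ m) := Set.subset_sInter fun T hT => hT.1
    rcases hL.2.2 l hl m hm hne ⟨y, hy, hym⟩ with h | h
    · exact image_line_of_plane hL hsub dual_model h (hin (Or.inr hxm)) hl (Set.subset_union_left.trans hin)
    · exact image_line_of_plane hL hsub affine_model h (hin (Or.inr hxm)) hl (Set.subset_union_left.trans hin)
  · push Not at hcol
    convert hl using 1
    ext y
    simp only [Set.mem_setOf_eq]
    refine ⟨fun h => ?_, fun h => by rwa [lineMap_fix (hcol y h)]⟩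
    have := lineMap_invol hL x y
    rw [lineMap_fix (hcol _ h)] at this
    exact this ▸ h

/-- The permutation `t(x)`. -/
noncomputable def pointPerm (x : X) : Equiv.Perm X :=
  ⟨LineSystem.lineMap L x, LineSystem.lineMap L x, lineMap_invol hL x, lineMap_invol hL x⟩

theorem pointPerm_isIso (x : X) : LineSystem.IsIso L L (pointPerm hL x) := by
  have himg : ∀ l : Set X, pointPerm hL x '' l = {y | LineSystem.lineMap L x y ∈ l} := by
    intro l; ext y
    exact ⟨fun ⟨u, hu, e⟩ => by subst e; simpa [pointPerm, lineMap_invol hL] using hu,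
      fun h => ⟨_, h, lineMap_invol hL x y⟩⟩
  intro l
  refine ⟨fun h => himg l ▸ image_line hL x h, fun h => ?_⟩
  rw [himg] at h
  have h2 := image_line hL x h
  simpa [lineMap_invol hL] using h2

theorem exists_lineMap_perm (hnd : LineSystem.IsNondegenerate L) (x : X) :
    ∃ σ : Equiv.Perm X, ⇑σ = LineSystem.lineMap L x ∧ orderOf σ = 2 ∧ LineSystem.IsIso L L σ := by
  refine ⟨pointPerm hL x, rfl, ?_, pointPerm_isIso hL x⟩
  refine orderOf_eq_prime (Equiv.ext fun y => ?_) fun h => ?_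
  · rw [pow_two]; exact lineMap_invol hL x y
  obtain ⟨l, hl, hx⟩ := hnd x
  obtain ⟨a, b, c, hab, -, -, rfl⟩ := Set.ncard_eq_three.1 (hL.2.1 l hl)
  obtain ⟨y, hy, hxy⟩ : ∃ y ∈ ({a, b, c} : Set X), x ≠ y := by
    by_cases ha : x = a
    · exact ⟨b, by simp, ha ▸ hab⟩
    · exact ⟨a, by simp, ha⟩
  obtain ⟨z, h1, h2, hm⟩ := three_of_mem hL hl hx hy hxy
  have e : LineSystem.lineMap L x y = z := lineMap_eq hL h1 h2 hxy (hm ▸ hl)
  exact h2 (e.symm.trans (congrArg (fun f : Equiv.Perm X => f y) h))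

theorem pointPerm_conj (g : Equiv.Perm X) (hg : LineSystem.IsIso L L g) (x : X) :
    g * pointPerm hL x = pointPerm hL (g x) * g := by
  ext y
  show g (LineSystem.lineMap L x y) = LineSystem.lineMap L (g x) (g y)
  by_cases h : LineSystem.Collinear L x y
  · obtain ⟨z, h1, h2, hm, e⟩ := lineMap_moves hL h
    rw [e]
    refine (lineMap_eq hL (fun e => h1 (g.injective e)) (fun e => h2 (g.injective e))
      (fun e => h.1 (g.injective e)) ?_).symm
    simpa [Set.image_insert_eq] using (hg _).1 hm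
  · rw [lineMap_fix h, lineMap_fix]
    rintro ⟨hne, l, hl, hx, hy⟩
    refine h ⟨fun e => hne (by rw [e]), g ⁻¹' l, (hg _).2 ?_, hx, hy⟩
    rwa [Equiv.image_preimage]

theorem lineMap_threeTranspositions (hnd : LineSystem.IsNondegenerate L) :
    IsThreeTranspositionSet {σ : Equiv.Perm X | ∃ x : X, ⇑σ = LineSystem.lineMap L x} := by
  have hid : ∀ (σ : Equiv.Perm X) (x : X), ⇑σ = LineSystem.lineMap L x → σ = pointPerm hL x :=
    fun σ x h => DFunLike.coe_injective h
  refine ⟨fun σ ⟨x, hx⟩ => ?_, fun σ ⟨x, hx⟩ τ ⟨y, hy⟩ => ?_⟩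
  · obtain ⟨σ', h1, h2, -⟩ := exists_lineMap_perm hL hnd x
    rwa [DFunLike.coe_injective (hx.trans h1.symm)]
  rw [hid σ x hx, hid τ y hy]
  have hsq : ∀ u : X, pointPerm hL u * pointPerm hL u = 1 := fun u => Equiv.ext (lineMap_invol hL u)
  have hcj : ∀ u v : X, pointPerm hL u * pointPerm hL v * pointPerm hL u = pointPerm hL (pointPerm hL u v) := by
    intro u v
    rw [pointPerm_conj hL _ (pointPerm_isIso hL u), mul_assoc, hsq, mul_one]
  by_cases h : LineSystem.Collinear L x y
  · right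
    obtain ⟨z, h1, h2, hm, e⟩ := lineMap_moves hL h
    have e' : LineSystem.lineMap L y x = z := lineMap_eq hL h2 h1 h.1.symm (by rwa [Set.insert_comm])
    have hbr : pointPerm hL x * pointPerm hL y * pointPerm hL x = pointPerm hL y * pointPerm hL x * pointPerm hL y := by
      rw [hcj, hcj]
      exact congrArg (pointPerm hL) (e.trans e'.symm)
    calc (pointPerm hL x * pointPerm hL y) ^ 3
        = (pointPerm hL x * pointPerm hL y * pointPerm hL x) * (pointPerm hL y * pointPerm hL x * pointPerm hL y) := by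
          simp only [pow_succ, pow_zero, one_mul, mul_assoc]
      _ = (pointPerm hL y * pointPerm hL x) * (pointPerm hL y * pointPerm hL y) * (pointPerm hL x * pointPerm hL y) := by
          rw [hbr]; simp only [mul_assoc]
      _ = 1 := by
          rw [hsq, mul_one, mul_assoc, ← mul_assoc (pointPerm hL x), hsq, one_mul, hsq]
  · left
    have e : pointPerm hL x y = y := lineMap_fix h
    calc (pointPerm hL x * pointPerm hL y) ^ 2
        = pointPerm hL x * pointPerm hL y * pointPerm hL x * pointPerm hL y := by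
          simp only [pow_succ, pow_zero, one_mul, mul_assoc]
      _ = 1 := by rw [hcj, e, hsq]

end Cfsg.Lib.Fischer
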